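import Cfsg.Agent.Components.ZJ.Basic
import Cfsg.Agent.Fusion.StableGroup
import Cfsg.Agent.Thompson.ElemToolkit
import Cfsg.Agent.Coprime.Sylow
import Cfsg.Prelude.Def_PLocal

/-!
Stellmacher's characteristic subgroup `W(S)`: no element acts quadratically on it, and it is normal
in action-`p`-stable groups of characteristic `p`.
-/

set_option autoImplicit false

namespace Cfsg.Lib.StableClosure

open Subgroup
open scoped commutatorElement

universe u

variable {p : ℕ}

/-- `a` fixes every `v⁻¹ * a v a⁻¹`. -/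
def Quad {G : Type*} [Group G] (V : Subgroup G) (a : G) : Prop :=
  ∀ v ∈ V, a * (v⁻¹ * (a * v * a⁻¹)) * a⁻¹ = v⁻¹ * (a * v * a⁻¹)

/-- No element of `P` acts quadratically and nontrivially on `U`. -/
def Good {G : Type*} [Group G] (P U : Subgroup G) : Prop :=
  ∀ z ∈ P, Quad U z → ∀ u ∈ U, z * u = u * z

/-- A quadratic element of a Sylow subgroup centralizes the normal closure of a good subgroup. -/
theorem centralizes_normalClosure {H : Type*} [Group H] [Finite H] [Fact p.Prime] (P : Sylow p H)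
    (V : Subgroup H) [V.Normal] (hst : Cfsg.IsPStableOn p V) {U : Subgroup H} (hUV : U ≤ V)
    (hV : V = normalClosure (U : Set H)) (hgood : Good (P : Subgroup H) U) {y : H}
    (hq : Quad V y) : y ∈ centralizer (V : Set H) := by
  set C := centralizer (V : Set H) with hC
  set π := QuotientGroup.mk' C
  haveI : (Cfsg.pCore p (H ⧸ C)).Normal := Cfsg.Lib.Components.pCore_normal' p
  have hyL : π y ∈ Cfsg.pCore p (H ⧸ C) := hst y
    (Cfsg.Lib.CentralStable.commutator_eq_bot_of_fixes
      (le_normalizer_of_normal (mem_top y)) hq)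
  set T := Sylow.mapSurjective (QuotientGroup.mk'_surjective C) P with hT
  have hle : Cfsg.pCore p (H ⧸ C) ≤ T :=
    sup_eq_left.1 (T.is_maximal' (T.isPGroup'.to_sup_of_normal_right (Cfsg.Lib.Components.isPGroup_pCore p))
      le_sup_left)
  have key : ∀ h : H, ∀ u ∈ U, (h * y * h⁻¹) * u = u * (h * y * h⁻¹) := by
    intro h u hu
    have h1 : π (h * y * h⁻¹) ∈ Cfsg.pCore p (H ⧸ C) := by
      rw [map_mul, map_mul, map_inv]
      exact Normal.conj_mem inferInstance _ hyL _
    have h2 := hle h1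
    rw [hT, Sylow.coe_mapSurjective] at h2
    obtain ⟨s, hs, hse⟩ := h2
    obtain ⟨c, hc, hcs⟩ : ∃ c ∈ C, h * y * h⁻¹ = s * c :=
      ⟨s⁻¹ * (h * y * h⁻¹), QuotientGroup.eq.mp hse, by group⟩
    have hconj : ∀ v ∈ V, (h * y * h⁻¹) * v * (h * y * h⁻¹)⁻¹ = s * v * s⁻¹ := by
      intro v hv
      have h3 : c * v * c⁻¹ = v := by
        rw [← (mem_centralizer_iff.mp hc v hv), mul_inv_cancel_right]
      rw [hcs]
      calc s * c * v * (s * c)⁻¹ = s * (c * v * c⁻¹) * s⁻¹ := by group
        _ = _ := by rw [h3]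
    have hVn : ∀ g : H, ∀ v ∈ V, g * v * g⁻¹ ∈ V := fun g v hv =>
      Normal.conj_mem inferInstance v hv g
    have hqs : Quad U s := by
      intro v hv
      have hvV := hUV hv
      have hw : h⁻¹ * v * h ∈ V := by simpa using hVn h⁻¹ v hvV
      have h4 := hq _ hw
      have hd : v⁻¹ * (s * v * s⁻¹) ∈ V := V.mul_mem (V.inv_mem hvV) (hVn s v hvV)
      have h5 := hconj _ hd
      rw [← hconj v hvV] at h5 ⊢
      rw [← h5]
      calc h * y * h⁻¹ * (v⁻¹ * (h * y * h⁻¹ * v * (h * y * h⁻¹)⁻¹)) * (h * y * h⁻¹)⁻¹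
          = h * (y * ((h⁻¹ * v * h)⁻¹ * (y * (h⁻¹ * v * h) * y⁻¹)) * y⁻¹) * h⁻¹ := by group
        _ = _ := by rw [h4]; group
    have h6 := hgood s hs hqs u hu
    have h7 := hconj u (hUV hu)
    rw [h6, mul_inv_cancel_right] at h7
    exact mul_inv_eq_iff_eq_mul.mp h7
  refine mem_centralizer_iff.mpr fun v hv => ?_
  suffices hsub : V ≤ centralizer ({y} : Set H) from
    (mem_centralizer_iff.mp (hsub hv) y rfl).symm
  rw [hV]
  show Subgroup.closure _ ≤ _
  rw [closure_le]
  intro z hz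
  obtain ⟨u, hu, hconj⟩ := Group.mem_conjugatesOfSet_iff.mp hz
  obtain ⟨g, hg⟩ := isConj_iff.mp hconj
  rw [SetLike.mem_coe, mem_centralizer_iff]
  intro w hw
  rw [Set.mem_singleton_iff.mp hw, ← hg]
  calc y * (g * u * g⁻¹) = g * ((g⁻¹ * y * g⁻¹⁻¹) * u) * g⁻¹ := by group
    _ = g * (u * (g⁻¹ * y * g⁻¹⁻¹)) * g⁻¹ := by rw [key g⁻¹ u hu]
    _ = g * u * g⁻¹ * y := by group

theorem omegaOne_map {G G' : Type*} [Group G] [Group G'] {f : G →* G'} (hf : Function.Injective f)
    (K : Subgroup G) : (Cfsg.omegaOne p K).map f = Cfsg.omegaOne p (K.map f) := by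
  rw [Cfsg.omegaOne, Cfsg.omegaOne, MonoidHom.map_closure]
  congr 1
  ext x
  constructor
  · rintro ⟨k, ⟨hk, hkp⟩, rfl⟩
    exact ⟨⟨k, hk, rfl⟩, by rw [← map_pow, hkp, map_one]⟩
  · rintro ⟨⟨k, hk, rfl⟩, hkp⟩
    exact ⟨k, ⟨hk, hf (by rw [map_pow, hkp, map_one])⟩, rfl⟩

theorem omegaOne_normal {G : Type*} [Group G] {K : Subgroup G} (hK : K.Normal) :
    (Cfsg.omegaOne p K).Normal := by
  refine ⟨fun x hx g => ?_⟩
  have h := (omegaOne_map (p := p) (f := (MulAut.conj g).toMonoidHom) (MulAut.conj g).injective K).le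
    ⟨x, hx, rfl⟩
  rwa [show K.map (MulAut.conj g).toMonoidHom = K from ?_] at h
  haveI := hK
  exact Subgroup.normal_iff_map_conj_eq.mp hK g

theorem omegaOne_le {G : Type*} [Group G] (K : Subgroup G) : Cfsg.omegaOne p K ≤ K :=
  (closure_le _).mpr fun _ hx => hx.1

section Basics

variable {S : Type u} [Group S]

/-- `Ω₁(Z(J(S)))` is in the family defining `W(S)`. -/
theorem omegaCenterThompson_spec [Finite S] :
    Cfsg.omegaOne p (center S) ≤ Cfsg.omegaCenterThompson p S ∧
      ∀ (H : Type u) [Group H] (τ : S →* H), Cfsg.IsStableEmbedding p τ →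
        ((Cfsg.omegaCenterThompson p S).map τ).Normal := by
  constructor
  · rw [Cfsg.omegaOne, closure_le]
    rintro z ⟨hz, hzp⟩
    refine subset_closure ⟨⟨?_, mem_centralizer_iff.mpr fun a _ => mem_center_iff.mp hz a⟩, hzp⟩
    let E := {A : Subgroup S | Cfsg.IsElementaryAbelian p A}
    obtain ⟨A, hA, hmax⟩ := (Set.toFinite E).exists_maximalFor (fun A : Subgroup S => Nat.card A) _
      ⟨⊥, ⟨⟨fun a b => Subsingleton.elim _ _⟩⟩, fun a ha => by rw [mem_bot.mp ha, one_pow]⟩
    have hAmax : A ∈ Cfsg.maxElementaryAbelianSubgroups p S := ⟨hA, fun B hB => by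
      rcases le_total (Nat.card B) (Nat.card A) with h | h
      · exact h
      · exact hmax hB h⟩
    have hAz : Cfsg.IsElementaryAbelian p (A ⊔ zpowers z) := by
      refine Cfsg.Lib.ElemToolkit.elementary_sup hA ⟨inferInstance, fun a ha => ?_⟩ ?_
      · obtain ⟨i, rfl⟩ := mem_zpowers_iff.mp ha
        rw [← zpow_natCast, zpow_comm, zpow_natCast, hzp, one_zpow]
      · intro a ha b hb
        obtain ⟨i, rfl⟩ := mem_zpowers_iff.mp hb
        exact mem_center_iff.mp (zpow_mem hz i) a
    have heq : A = A ⊔ zpowers z := eq_of_le_of_card_ge le_sup_left (hAmax.2 _ hAz)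
    exact le_sSup hAmax (heq ▸ mem_sup_right (mem_zpowers z))
  · intro H _ τ hτ
    haveI := hτ.2.1
    rw [Cfsg.omegaCenterThompson, omegaOne_map hτ.1]
    refine omegaOne_normal ?_
    haveI := hτ.2.2.2.2.1
    have e : (Cfsg.thompsonSubgroup p S ⊓ centralizer (Cfsg.thompsonSubgroup p S : Set S)).map τ =
        (Cfsg.thompsonSubgroup p S).map τ ⊓
          centralizer (((Cfsg.thompsonSubgroup p S).map τ : Subgroup H) : Set H) := by
      ext x
      constructor
      · rintro ⟨a, ⟨ha, hac⟩, rfl⟩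
        refine ⟨⟨a, ha, rfl⟩, mem_centralizer_iff.mpr ?_⟩
        rintro _ ⟨b, hb, rfl⟩
        rw [← map_mul, ← map_mul, mem_centralizer_iff.mp hac b hb]
      · rintro ⟨⟨a, ha, rfl⟩, hac⟩
        refine ⟨a, ⟨ha, mem_centralizer_iff.mpr fun b hb => hτ.1 ?_⟩, rfl⟩
        rw [map_mul, map_mul]
        exact mem_centralizer_iff.mp hac _ ⟨b, hb, rfl⟩
    rw [e]
    infer_instance

theorem le_stableNormalClosure :
    Cfsg.omegaOne p (center S) ≤ Cfsg.stableNormalClosure p S :=
  le_sInf fun _ hW => hW.1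

theorem stableNormalClosure_le [Finite S] :
    Cfsg.stableNormalClosure p S ≤ Cfsg.omegaCenterThompson p S :=
  sInf_le omegaCenterThompson_spec

/-- `W(S)` belongs to its defining family. -/
theorem stableNormalClosure_normal (H : Type u) [Group H] (τ : S →* H)
    (hτ : Cfsg.IsStableEmbedding p τ) : ((Cfsg.stableNormalClosure p S).map τ).Normal := by
  refine ⟨fun x hx g => ?_⟩
  obtain ⟨w, hw, rfl⟩ := hx
  have hex : ∀ W ∈ {W : Subgroup S | Cfsg.omegaOne p (center S) ≤ W ∧
      ∀ (H : Type u) [Group H] (τ : S →* H), Cfsg.IsStableEmbedding p τ → (W.map τ).Normal},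
      g * τ w * g⁻¹ ∈ W.map τ := fun W hW =>
    (hW.2 H τ hτ).conj_mem _ ⟨w, (sInf_le hW : _ ≤ W) hw, rfl⟩ g
  by_cases hne : ∃ W, Cfsg.omegaOne p (center S) ≤ W ∧
      ∀ (H : Type u) [Group H] (τ : S →* H), Cfsg.IsStableEmbedding p τ → (W.map τ).Normal
  · obtain ⟨W₀, hW₀⟩ := hne
    obtain ⟨v, hv, hve⟩ := hex W₀ hW₀
    refine ⟨v, ?_, hve⟩
    rw [SetLike.mem_coe, Cfsg.stableNormalClosure, mem_sInf]
    intro W hW
    obtain ⟨v', hv', hve'⟩ := hex W hW
    exact hτ.1 (hve'.trans hve.symm) ▸ hv'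
  · exfalso
    haveI := hτ.2.1
    haveI : Finite S := Finite.of_injective τ hτ.1
    exact hne ⟨_, omegaCenterThompson_spec⟩

theorem omegaCenterThompson_comm {x y : S} (hx : x ∈ Cfsg.omegaCenterThompson p S)
    (hy : y ∈ Cfsg.omegaCenterThompson p S) : x * y = y * x :=
  mem_centralizer_iff.mp (omegaOne_le _ hy).2 x (omegaOne_le _ hx).1

/-- Iso invariance, one inclusion. -/
theorem stableNormalClosure_map_le {S' : Type u} [Group S'] (η : S ≃* S') :
    Cfsg.stableNormalClosure p S' ≤ (Cfsg.stableNormalClosure p S).map η.toMonoidHom := by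
  have hz : (center S).map η.toMonoidHom = center S' := by
    ext x
    constructor
    · rintro ⟨z, hz, rfl⟩
      refine mem_center_iff.mpr fun t => ?_
      obtain ⟨t', rfl⟩ := η.surjective t
      exact (map_mul η t' z).symm.trans ((congrArg η (mem_center_iff.mp hz t')).trans (map_mul η z t'))
    · intro hx
      refine ⟨η.symm x, mem_center_iff.mpr fun t => η.injective ?_, η.apply_symm_apply x⟩
      rw [map_mul, map_mul, η.apply_symm_apply]
      exact mem_center_iff.mp hx (η t)
  have hom : Cfsg.omegaOne p (center S') ≤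
      (Cfsg.omegaOne p (center S)).map η.toMonoidHom := by
    rw [omegaOne_map η.injective, hz]
  have hel : ∀ {A : Subgroup S}, Cfsg.IsElementaryAbelian p (A.map η.toMonoidHom) ↔
      Cfsg.IsElementaryAbelian p A :=
    fun {A} => Cfsg.Lib.Thompson.isElementaryAbelian_map_iff η.injective.injOn
  have hcard : ∀ A : Subgroup S, Nat.card (A.map η.toMonoidHom) = Nat.card A := fun A =>
    Cfsg.Lib.Thompson.card_map_of_injOn η.injective.injOn
  have hback : ∀ B : Subgroup S', (B.comap η.toMonoidHom).map η.toMonoidHom = B := fun B =>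
    map_comap_eq_self_of_surjective η.surjective B
  have hJ : (Cfsg.thompsonSubgroup p S).map η.toMonoidHom = Cfsg.thompsonSubgroup p S' := by
    rw [Cfsg.thompsonSubgroup, Cfsg.thompsonSubgroup, (gc_map_comap η.toMonoidHom).l_sSup]
    refine le_antisymm (iSup₂_le fun A hA => le_sSup ⟨hel.mpr hA.1, fun B hB => ?_⟩)
      (sSup_le fun B hB => ?_)
    · rw [hcard, ← hback B, hcard]
      exact hA.2 _ (hel.mp (by rw [hback]; exact hB))
    · refine (hback B).ge.trans (le_iSup₂_of_le (B.comap η.toMonoidHom) ⟨hel.mp (by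
        rw [hback]; exact hB.1), fun A hA => ?_⟩ le_rfl)
      rw [← hcard A, ← hcard (B.comap η.toMonoidHom), hback]
      exact hB.2 _ (hel.mpr hA)
  refine sInf_le ⟨hom.trans (map_mono le_stableNormalClosure), fun H _ τ hτ => ?_⟩
  rw [map_map]
  refine stableNormalClosure_normal H _ ⟨hτ.1.comp η.injective, hτ.2.1, ?_, hτ.2.2.2.1, ?_, ?_⟩
  · obtain ⟨P, hP⟩ := hτ.2.2.1
    refine ⟨P, hP.trans ?_⟩
    rw [MonoidHom.range_comp, (MonoidHom.range_eq_top (f := η.toMonoidHom)).mpr η.surjective, ← MonoidHom.range_eq_map]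
  · rw [← map_map, hJ]
    exact hτ.2.2.2.2.1
  · intro V _ hV
    refine hτ.2.2.2.2.2 V (hV.trans ?_)
    rw [← map_map]
    refine map_mono ?_
    rw [Cfsg.omegaCenterThompson, Cfsg.omegaCenterThompson, omegaOne_map η.injective, ← hJ]
    refine closure_mono ?_
    rintro x ⟨⟨a, ⟨ha, hac⟩, rfl⟩, hxp⟩
    refine ⟨⟨⟨a, ha, rfl⟩, mem_centralizer_iff.mpr ?_⟩, hxp⟩
    rintro _ ⟨b, hb, rfl⟩
    rw [← map_mul, ← map_mul, mem_centralizer_iff.mp hac b hb]

/-- Iso invariance. -/
theorem stableNormalClosure_map {S' : Type u} [Group S'] (η : S ≃* S') :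
    (Cfsg.stableNormalClosure p S).map η.toMonoidHom = Cfsg.stableNormalClosure p S' := by
  refine le_antisymm ?_ (stableNormalClosure_map_le η)
  refine (map_mono (stableNormalClosure_map_le (p := p) η.symm)).trans ?_
  rw [map_map, show η.toMonoidHom.comp η.symm.toMonoidHom = MonoidHom.id S' from
    MonoidHom.ext fun x => η.apply_symm_apply x, map_id]

theorem stableNormalClosure_characteristic : (Cfsg.stableNormalClosure p S).Characteristic :=
  characteristic_iff_map_eq.mpr fun φ => stableNormalClosure_map φ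

/-- No element acts quadratically and nontrivially on `W(S)`. -/
theorem good_stableNormalClosure [Finite S] [Fact p.Prime] :
    Good (⊤ : Subgroup S) (Cfsg.stableNormalClosure p S) := by
  set W := Cfsg.stableNormalClosure p S
  let E : Set (Subgroup S) := {U | Cfsg.omegaOne p (center S) ≤ U ∧ U ≤ W ∧ U.Normal ∧ Good ⊤ U}
  obtain ⟨U, hU, hmax⟩ := (Set.toFinite E).exists_maximalFor (fun U : Subgroup S => Nat.card U) _
    ⟨Cfsg.omegaOne p (center S), le_rfl, le_stableNormalClosure, omegaOne_normal inferInstance,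
      fun z _ _ u hu => mem_center_iff.mp (omegaOne_le _ hu) z⟩
  obtain ⟨hU0, hUW, hUn, hgood⟩ := hU
  suffices hWU : W ≤ U by
    rw [le_antisymm hWU hUW]
    exact hgood
  refine sInf_le ⟨hU0, fun H _ τ hτ => ?_⟩
  haveI := hτ.2.1
  obtain ⟨P, hP⟩ := hτ.2.2.1
  set V := normalClosure ((U.map τ : Subgroup H) : Set H)
  have hVW : V ≤ W.map τ := by
    haveI : (W.map τ).Normal := stableNormalClosure_normal H τ hτ
    exact normalClosure_le_normal (map_mono hUW)
  have hVr : V ≤ τ.range := hVW.trans (map_le_range _ _)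
  set U' := V.comap τ
  have hmapU' : U'.map τ = V := map_comap_eq_self hVr
  have hUU' : U ≤ U' := fun x hx => subset_normalClosure ⟨x, hx, rfl⟩
  have hU'W : U' ≤ W := by
    intro x hx
    obtain ⟨w, hw, hwe⟩ := hVW hx
    exact hτ.1 hwe ▸ hw
  have hgood' : Good ⊤ U' := by
    intro z _ hz u hu
    have hst : Cfsg.IsPStableOn p V :=
      hτ.2.2.2.2.2 V (hVW.trans (map_mono (stableNormalClosure_le (p := p) (S := S))))
    have hg : Good (P : Subgroup H) (U.map τ) := by
      rintro z' hz' hq _ ⟨v, hv, rfl⟩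
      obtain ⟨y, rfl⟩ := hP.le hz'
      rw [← map_mul, ← map_mul]
      refine congrArg τ (hgood y (mem_top y) (fun a ha => hτ.1 ?_) v hv)
      have h := hq (τ a) ⟨a, ha, rfl⟩
      simpa only [map_mul, map_inv] using h
    have hqV : Quad V (τ z) := by
      intro v hv
      obtain ⟨a, ha, rfl⟩ := hmapU'.ge hv
      have h := congrArg τ (hz a ha)
      simpa only [map_mul, map_inv] using h
    have h := centralizes_normalClosure P V hst subset_normalClosure rfl hg hqV
    apply hτ.1
    rw [map_mul, map_mul]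
    exact (mem_centralizer_iff.mp h _ hu).symm
  have heq : U = U' := eq_of_le_of_card_ge hUU'
    (hmax ⟨hU0.trans hUU', hU'W, inferInstance, hgood'⟩ (card_le_of_le hUU'))
  rw [heq, hmapU']
  exact normalClosure_normal

/-- `W(S)` is nontrivial. -/
theorem stableNormalClosure_ne_bot [Finite S] [Fact p.Prime] (hS : IsPGroup p S) [Nontrivial S] :
    Cfsg.stableNormalClosure p S ≠ ⊥ := by
  intro h
  haveI := hS.center_nontrivial
  obtain ⟨n, hn, hcard⟩ := (IsPGroup.nontrivial_iff_card (hS.to_subgroup (center S))).mp inferInstance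
  obtain ⟨z, hz⟩ := exists_prime_orderOf_dvd_card' (G := center S) p (hcard ▸ dvd_pow_self p hn.ne')
  have hmem : (z : S) ∈ Cfsg.stableNormalClosure p S := le_stableNormalClosure (subset_closure
    ⟨z.2, by rw [← coe_pow, ← hz, pow_orderOf_eq_one]; rfl⟩)
  rw [h, mem_bot] at hmem
  have : z = 1 := Subtype.ext hmem
  rw [this, orderOf_one] at hz
  exact (Fact.out : p.Prime).ne_one hz.symm

/-- The commutator form. -/
theorem quadratic_imp_central [Finite S] [Fact p.Prime] {x : S}
    (hq : ⁅⁅Cfsg.stableNormalClosure p S, zpowers x⁆, zpowers x⁆ = ⊥) :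
    ⁅Cfsg.stableNormalClosure p S, zpowers x⁆ = ⊥ := by
  haveI := stableNormalClosure_characteristic (p := p) (S := S)
  have hn : x ∈ normalizer (Cfsg.stableNormalClosure p S : Set S) :=
    le_normalizer_of_normal (mem_top x)
  have h := good_stableNormalClosure x (mem_top x) (fun v hv =>
    Cfsg.Lib.CentralStable.fixes_of_quadratic hn hq hv)
  rw [commutator_eq_bot_iff_le_centralizer]
  refine fun w hw => mem_centralizer_iff.mpr fun y hy => ?_
  obtain ⟨i, rfl⟩ := mem_zpowers_iff.mp hy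
  exact (Commute.zpow_left (h w hw) i)

end Basics

section Normal

variable {G : Type u} [Group G] [Finite G] [Fact p.Prime]

/-- The kernel of the action on the Frattini quotient of `O_p` is a `p`-group. -/
theorem isPGroup_sectionKernel (hc : centralizer (Cfsg.pCore p G : Set G) ≤ Cfsg.pCore p G) :
    IsPGroup p ↥(Cfsg.sectionKernel (Cfsg.pCore p G)
      ((frattini ↥(Cfsg.pCore p G)).map (Cfsg.pCore p G).subtype)) := by
  set Q := Cfsg.pCore p G
  haveI : Q.Normal := Cfsg.Lib.Components.pCore_normal' p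
  set N := (frattini ↥Q).map Q.subtype
  set K := Cfsg.sectionKernel Q N
  have hQp : IsPGroup p Q := Cfsg.Lib.Components.isPGroup_pCore p
  intro g
  refine ⟨(orderOf (g : G)).factorization p, Subtype.ext ?_⟩
  set a := (g : G) ^ p ^ (orderOf (g : G)).factorization p with ha
  show a = 1
  have hg0 : orderOf (g : G) ≠ 0 := (orderOf_pos (g : G)).ne'
  have hord : orderOf a = orderOf (g : G) / p ^ (orderOf (g : G)).factorization p :=
    orderOf_pow_of_dvd (pow_ne_zero _ (Fact.out : p.Prime).ne_zero) (Nat.ordProj_dvd _ _)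
  have hcop : (orderOf a).Coprime p :=
    hord ▸ (Nat.coprime_ordCompl (Fact.out : p.Prime) hg0).symm
  have haK : a ∈ K := K.pow_mem g.2 _
  have hcent : zpowers a ≤ centralizer (Q : Set G) := by
    obtain ⟨i, hi⟩ := IsPGroup.iff_card.mp (hQp.to_subgroup (frattini ↥Q))
    refine Cfsg.Lib.Coprime.le_centralizer_of_frattini
      (fun x _ => le_normalizer_of_normal (mem_top x)) ?_ fun b hb k hk => ?_
    · rw [Nat.card_zpowers, hi]
      exact hcop.pow_right i
    · have hbK : b ∈ K := (zpowers_le.mpr haK) hb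
      have h : QuotientGroup.mk' N b ∈ centralizer ((Q.map (QuotientGroup.mk' N) : Subgroup _) : Set (G ⧸ N)) :=
        mem_comap.mp hbK
      rw [← QuotientGroup.eq_one_iff (N := N)]
      show QuotientGroup.mk' N (b * k * b⁻¹ * k⁻¹) = 1
      rw [map_mul, map_mul, map_mul, map_inv, map_inv, ← mem_centralizer_iff.mp h _ ⟨k, hk, rfl⟩]
      group
  obtain ⟨j, hj⟩ := hQp ⟨a, hc (hcent (mem_zpowers a))⟩
  have hdvd : orderOf a ∣ p ^ j := orderOf_dvd_of_pow_eq_one (congrArg Subtype.val hj)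
  exact orderOf_eq_one_iff.mp (Nat.eq_one_of_dvd_coprimes (hcop.pow_right j) dvd_rfl hdvd)

/-- `W(S)` is normal in an action-`p`-stable group of characteristic `p`. -/
theorem stableNormalClosure_map_normal (hst : Cfsg.IsActionPStable p G)
    (hc : centralizer (Cfsg.pCore p G : Set G) ≤ Cfsg.pCore p G) (S : Sylow p G) :
    ((Cfsg.stableNormalClosure p ↥(S : Subgroup G)).map (S : Subgroup G).subtype).Normal := by
  set Sg := (S : Subgroup G) with hSg
  set W := Cfsg.stableNormalClosure p ↥Sg with hW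
  set WG := W.map Sg.subtype
  haveI := stableNormalClosure_characteristic (p := p) (S := ↥Sg)
  have hWGS : WG ≤ Sg := map_subtype_le _
  have hWcomm : ∀ x ∈ WG, ∀ y ∈ WG, x * y = y * x := by
    rintro _ ⟨x, hx, rfl⟩ _ ⟨y, hy, rfl⟩
    rw [← map_mul, ← map_mul, omegaCenterThompson_comm (stableNormalClosure_le hx) (stableNormalClosure_le hy)]
  have hWn : ∀ s ∈ Sg, ∀ x ∈ WG, s * x * s⁻¹ ∈ WG := by
    rintro s hs _ ⟨x, hx, rfl⟩
    exact ⟨⟨s, hs⟩ * x * ⟨s, hs⟩⁻¹, Normal.conj_mem inferInstance x hx _, rfl⟩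
  have hgood : Good Sg WG := by
    rintro z hz hq _ ⟨w, hw, rfl⟩
    exact congrArg Subtype.val (good_stableNormalClosure ⟨z, hz⟩ (mem_top _)
      (fun v hv => Subtype.ext (hq (v : G) ⟨v, hv, rfl⟩)) w hw)
  have hQp : IsPGroup p ↥(Cfsg.pCore p G) := Cfsg.Lib.Components.isPGroup_pCore p
  haveI : (Cfsg.pCore p G).Normal := Cfsg.Lib.Components.pCore_normal' p
  have hQS : Cfsg.pCore p G ≤ Sg := Cfsg.Lib.Thompson.le_sylow_of_normal hQp S
  -- `W ≤ O_p(G)`
  have hWQ : WG ≤ Cfsg.pCore p G := by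
    intro w hw
    have hq : ⁅⁅Cfsg.pCore p G, zpowers w⁆, zpowers w⁆ ≤
        (frattini ↥(Cfsg.pCore p G)).map (Cfsg.pCore p G).subtype := by
      haveI : IsMulCommutative WG := ⟨⟨fun a b => Subtype.ext (hWcomm a a.2 b b.2)⟩⟩
      rw [Cfsg.Lib.ZJ.quadratic_of_normalizes (A := WG) ?_ hw]
      · exact bot_le
      · intro q hq
        refine mem_normalizer_iff.mpr fun x => ⟨hWn q (hQS hq) x, fun hx => ?_⟩
        simpa [mul_assoc] using hWn q⁻¹ (Sg.inv_mem (hQS hq)) _ hx
    obtain ⟨D, hDn, hKD, ⟨k, hk⟩, hwD⟩ := hst.2.1 w hq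
    obtain ⟨j, hj⟩ := IsPGroup.iff_card.mp (isPGroup_sectionKernel hc)
    have hDp : IsPGroup p D := IsPGroup.of_card (n := j + k) (by
      rw [pow_add, ← hk, ← hj]
      exact ((relIndex_bot_left D).symm.trans ((relIndex_mul_relIndex ⊥ _ D bot_le hKD).symm.trans (by rw [relIndex_bot_left]))))
    exact Cfsg.Lib.Components.le_pCore (hn := hDn) hDp hwD
  -- the normal closure
  set V := normalClosure (WG : Set G)
  have hVQ : V ≤ Cfsg.pCore p G := normalClosure_le_normal hWQ
  have hconjmem : ∀ z ∈ Group.conjugatesOfSet (WG : Set G),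
      z ^ p = 1 ∧ ∀ w ∈ WG, w * z = z * w := by
    intro z hz
    obtain ⟨w₀, hw₀, hconj⟩ := Group.mem_conjugatesOfSet_iff.mp hz
    obtain ⟨g, hg⟩ := isConj_iff.mp hconj
    refine ⟨?_, fun w hw => (hgood z (hQS (hVQ (subset_closure hz))) (fun v hv => ?_) w hw).symm⟩
    · obtain ⟨x, hx, rfl⟩ := hw₀
      have hxp : x ^ p = 1 := by
        have hle : W ≤ Cfsg.omegaCenterThompson p ↥Sg := stableNormalClosure_le
        refine closure_induction (p := fun y _ => y ^ p = 1) (fun y hy => hy.2) (one_pow p) ?_ ?_ (hle hx)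
        · intro a b ha hb iha ihb
          have hab : Commute a b := omegaCenterThompson_comm ha hb
          rw [hab.mul_pow, iha, ihb, one_mul]
        · intro a _ iha
          rw [inv_pow, iha, inv_one]
      rw [← hg, ← MulAut.conj_apply, ← map_pow, ← map_pow, hxp, map_one, map_one]
    · -- `v⁻¹ z v z⁻¹` lies in the abelian conjugate containing `z`
      have hW' : ∀ q ∈ Cfsg.pCore p G, ∀ t ∈ WG.map (MulAut.conj g).toMonoidHom,
          q * t * q⁻¹ ∈ WG.map (MulAut.conj g).toMonoidHom := by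
        rintro q hq _ ⟨t, ht, rfl⟩
        refine ⟨(g⁻¹ * q * g) * t * (g⁻¹ * q * g)⁻¹, hWn _ (hQS ?_) t ht, ?_⟩
        · simpa using Normal.conj_mem inferInstance q hq g⁻¹
        · simp only [MulEquiv.coe_toMonoidHom, MulAut.conj_apply]
          group
      have hzm : z ∈ WG.map (MulAut.conj g).toMonoidHom := ⟨w₀, hw₀, hg⟩
      have hd : v⁻¹ * (z * v * z⁻¹) ∈ WG.map (MulAut.conj g).toMonoidHom := by
        rw [show v⁻¹ * (z * v * z⁻¹) = (v⁻¹ * z * v⁻¹⁻¹) * z⁻¹ by group]
        exact Subgroup.mul_mem _ (hW' _ (inv_mem (hWQ hv)) z hzm) (inv_mem hzm)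
      obtain ⟨a, ha, hae⟩ := hzm
      obtain ⟨b, hb, hbe⟩ := hd
      rw [← hbe, ← hae, ← map_mul, hWcomm a ha b hb, map_mul, mul_inv_cancel_right]
  have hVel : Cfsg.IsElementaryAbelian p V := by
    have hcc : ∀ a ∈ Group.conjugatesOfSet (WG : Set G), ∀ b ∈ Group.conjugatesOfSet (WG : Set G),
        a * b = b * a := by
      intro a ha b hb
      obtain ⟨w, hw, hconj⟩ := Group.mem_conjugatesOfSet_iff.mp ha
      obtain ⟨g, rfl⟩ := isConj_iff.mp hconj
      have h := (hconjmem (g⁻¹ * b * g) (by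
        simpa using Group.conj_mem_conjugatesOfSet (c := g⁻¹) hb)).2 w hw
      calc g * w * g⁻¹ * b = g * (w * (g⁻¹ * b * g)) * g⁻¹ := by group
        _ = b * (g * w * g⁻¹) := by rw [h]; group
    have hVc : IsMulCommutative V := Subgroup.isMulCommutative_closure hcc
    refine ⟨hVc, fun a ha => ?_⟩
    refine closure_induction (p := fun y _ => y ^ p = 1) (fun y hy => (hconjmem y hy).1) (one_pow p)
      ?_ ?_ ha
    · intro a b ha hb iha ihb
      have : Commute a b := congrArg Subtype.val (hVc.is_comm.comm ⟨a, ha⟩ ⟨b, hb⟩)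
      rw [this.mul_pow, iha, ihb, one_mul]
    · intro a _ iha
      rw [inv_pow, iha, inv_one]
  haveI : V.Normal := normalClosure_normal
  -- quadratic elements of `S` centralize the closure
  have hquad : ∀ z ∈ Sg, Quad V z → z ∈ centralizer (V : Set G) := fun z hz hzq =>
    centralizes_normalClosure S V (hst.1 V hVel) subset_normalClosure rfl hgood hzq
  -- `J(S)` centralizes the closure
  have hVS : V ≤ Sg := hVQ.trans hQS
  have hmax : ∀ A, Cfsg.Lib.Thompson.IsMaxElem p Sg A → A ≤ centralizer (V : Set G) := by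
    intro A hA
    obtain ⟨hAS, hAe, hAmax⟩ := hA
    have hAV : A ≤ normalizer (V : Set G) := fun x _ => le_normalizer_of_normal (mem_top x)
    set CA := V ⊓ centralizer (A : Set G)
    have hCA : CA ≤ A := by
      have he : Cfsg.IsElementaryAbelian p (A ⊔ CA) :=
        Cfsg.Lib.ElemToolkit.elementary_sup hAe (Cfsg.Lib.ElemToolkit.elementary_mono inf_le_left hVel)
          (fun a ha b hb => mem_centralizer_iff.mp hb.2 a ha)
      exact le_sup_right.trans (eq_of_le_of_card_ge le_sup_left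
        (hAmax _ (sup_le hAS (inf_le_left.trans hVS)) he)).ge
    have hAA : ⁅A, A⁆ ≤ centralizer (V : Set G) := by
      haveI := hAe.1
      rw [show ⁅A, A⁆ = ⊥ from commutator_eq_bot_iff_le_centralizer.mpr (le_centralizer A)]
      exact bot_le
    have hbest : Cfsg.IsBestOffenderOn p V A := by
      refine ⟨fun B hB => ?_, hAA, fun a ha => by rw [hAe.2 a ha]; exact one_mem _⟩
      set CB := V ⊓ centralizer (B : Set G)
      have hBe : Cfsg.IsElementaryAbelian p (B ⊔ CB) :=
        Cfsg.Lib.ElemToolkit.elementary_sup (Cfsg.Lib.ElemToolkit.elementary_mono hB hAe)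
          (Cfsg.Lib.ElemToolkit.elementary_mono inf_le_left hVel) (fun a ha b hb => mem_centralizer_iff.mp hb.2 a ha)
      refine (Cfsg.Lib.ElemToolkit.mul_card_le B CB).trans (Nat.mul_le_mul
        (hAmax _ (sup_le (hB.trans hAS) (inf_le_left.trans hVS)) hBe) (card_le_of_le ?_))
      exact le_inf (inf_le_right.trans inf_le_left) ((inf_le_left.trans hB).trans (by
        haveI := hAe.1
        exact le_centralizer A))
    obtain ⟨-, hC2⟩ := Cfsg.Lib.ElemToolkit.replacement hVel hAV
      ⟨hbest.1, hAA⟩ (S := (V : Set G)) subset_rfl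
    set X := Cfsg.Lib.ElemToolkit.commSpan (V : Set G) A
    have hX : X = ⁅V, A⁆ := (Subgroup.commutator_def V A).symm
    set B := A ⊓ centralizer (X : Set G)
    have hBc : B ≤ centralizer (V : Set G) := by
      intro b hb
      refine hquad b (hAS hb.1) fun v hv => ?_
      have hd : v⁻¹ * (b * v * b⁻¹) ∈ X := by
        rw [hX, show v⁻¹ * (b * v * b⁻¹) = ⁅v⁻¹, b⁆ by rw [commutatorElement_def]; group]
        exact commutator_mem_commutator (V.inv_mem hv) hb.1
      rw [← mem_centralizer_iff.mp hb.2 _ hd, mul_inv_cancel_right]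
    rw [inf_eq_left.mpr (le_centralizer_iff.mp hBc), hX] at hC2
    have hbot := Cfsg.Lib.ElemToolkit.comm_lt (Fact.out : p.Prime) hVel hAV hbest hC2.le
    exact le_centralizer_iff.mp (commutator_eq_bot_iff_le_centralizer.mp hbot)
  set C := centralizer (V : Set G)
  set J := Cfsg.thompsonSubgroupOf p Sg
  -- Frattini
  have hJC : ∀ T : Subgroup G, T ≤ Sg → C ⊓ Sg ≤ T → Cfsg.thompsonSubgroupOf p T = J := by
    intro T hT hCT
    show _ = Cfsg.thompsonSubgroupOf p Sg
    rw [Cfsg.Lib.Thompson.thompsonSubgroupOf_eq, Cfsg.Lib.Thompson.thompsonSubgroupOf_eq]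
    obtain ⟨A₀, hA₀⟩ := Cfsg.Lib.Thompson.exists_isMaxElem (p := p) Sg
    have hA₀T : A₀ ≤ T := (le_inf (hmax A₀ hA₀) hA₀.1).trans hCT
    congr 1
    ext A
    constructor
    · rintro ⟨hA1, hA2, hA3⟩
      exact ⟨hA1.trans hT, hA2, fun B hB hBe => (hA₀.2.2 B hB hBe).trans (hA3 A₀ hA₀T hA₀.2.1)⟩
    · intro hA
      exact ⟨(le_inf (hmax A hA) hA.1).trans hCT, hA.2.1, fun B hB hBe => hA.2.2 B (hB.trans hT) hBe⟩
  set N := normalizer (J : Set G)
  have htop : C ⊔ N = ⊤ := by
    rw [eq_top_iff, ← Cfsg.Lib.ZJ.sup_normalizer_eq_top S C]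
    refine sup_le_sup_left ?_ C
    refine (Cfsg.Lib.Thompson.normalizer_le_normalizer_thompson (p := p) _).trans ?_
    rw [hJC _ inf_le_left (le_inf inf_le_right (inf_le_left.trans fun x hx => by
      rw [mem_comap, show QuotientGroup.mk' C x = 1 from (QuotientGroup.eq_one_iff x).mpr hx]
      exact one_mem _))]
  have hSN : Sg ≤ N := le_normalizer.trans (Cfsg.Lib.Thompson.normalizer_le_normalizer_thompson (p := p) Sg)
  set τ := Subgroup.inclusion hSN
  have hτW : WG.subgroupOf N = W.map τ := by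
    refine map_injective N.subtype_injective ?_
    rw [map_subgroupOf_eq_of_le (hWGS.trans hSN), map_map]
    rfl
  have hemb : Cfsg.IsStableEmbedding p τ := by
    refine ⟨Subgroup.inclusion_injective hSN, inferInstance, ⟨S.subtype hSN, ?_⟩, ?_, ?_, ?_⟩
    · rw [Sylow.coe_subtype, Subgroup.inclusion_range]
    · intro c hc'
      haveI : ((Cfsg.pCore p G).subgroupOf N).Normal := inferInstance
      have hle : (Cfsg.pCore p G).subgroupOf N ≤ Cfsg.pCore p N := Cfsg.Lib.Components.le_pCore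
        (hQp.comap_of_injective N.subtype N.subtype_injective)
      refine hle (hc (mem_centralizer_iff.mpr fun q hq => ?_))
      exact congrArg Subtype.val (mem_centralizer_iff.mp hc' ⟨q, hSN (hQS hq)⟩ (hle hq))
    · have e : (Cfsg.thompsonSubgroup p ↥Sg).map τ = J.subgroupOf N := by
        refine map_injective N.subtype_injective ?_
        rw [map_subgroupOf_eq_of_le le_normalizer, map_map]
        rfl
      rw [e]
      exact normal_subgroupOf_of_le_normalizer le_rfl
    · intro V' hV'n hV'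
      refine hst.2.2 S V' ((map_mono hV').trans ?_)
      rw [map_map]
      rfl
  have hNW : N ≤ normalizer (WG : Set G) := by
    rw [← normal_subgroupOf_iff_le_normalizer (hWGS.trans hSN), hτW]
    exact stableNormalClosure_normal _ τ hemb
  rw [← normalizer_eq_top_iff, eq_top_iff, ← htop]
  refine sup_le (fun c hc' => mem_normalizer_iff.mpr fun w => ?_) hNW
  have hfix : ∀ d ∈ C, ∀ t ∈ WG, d * t * d⁻¹ = t := fun d hd t ht => by
    rw [← mem_centralizer_iff.mp hd t (subset_normalClosure ht), mul_inv_cancel_right]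
  constructor
  · intro hw
    rw [hfix c hc' w hw]
    exact hw
  · intro hw
    have h := hfix c⁻¹ (inv_mem hc') _ hw
    rw [show c⁻¹ * (c * w * c⁻¹) * c⁻¹⁻¹ = w by group] at h
    exact h ▸ hw

end Normal

end Cfsg.Lib.StableClosure
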