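import Cfsg.Agent.PLocal.ActionStable
import Cfsg.Agent.PLocal.StableClosure
import Cfsg.Agent.Components.Functor.PCompl
import Cfsg.Agent.Coprime.SolvableBasics
import Cfsg.Agent.GaschutzYen.Basic

/-!
Applications of `W(S)`: the normal `p`-complement criterion and the factorisation of `p`-soluble groups.
-/

set_option autoImplicit false

namespace Cfsg.Lib.StableClosure

open Subgroup
open scoped commutatorElement

universe u

variable {p : ℕ} [Fact p.Prime]

/-- Quadratic elements are stable when the group is `p`-by-abelian-by-`p`. -/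
theorem isPStableOn_of_pap {X : Type u} [Group X] [Finite X] (hp : p ≠ 2) (hX : Cfsg.Lib.Degree.PAP p X)
    (V : Subgroup X) [V.Normal] (hV : Cfsg.IsElementaryAbelian p V) : Cfsg.IsPStableOn p V := by
  intro a hq
  have hVp : IsPGroup p V := fun v => ⟨1, Subtype.ext (by rw [pow_one]; exact hV.2 v v.2)⟩
  refine Cfsg.Lib.Degree.mem_pCore hX V hVp (Cfsg.Lib.Degree.iterCommutator_eq_bot_of_le (i := 2) ?_ ?_)
  · have := (Fact.out : p.Prime).two_le
    omega
  · exact hq

theorem isActionPStable_of_pap {X : Type u} [Group X] [Finite X] (hp : p ≠ 2)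
    (hX : Cfsg.Lib.Degree.PAP p X) : Cfsg.IsActionPStable p X :=
  Cfsg.Lib.ActionStable.isActionPStable_of (fun V _ hV => isPStableOn_of_pap hp hX V hV)
    (fun N _ V _ hV => isPStableOn_of_pap hp
      (hX.of_surjective (QuotientGroup.mk' N) (QuotientGroup.mk'_surjective N)) V hV)
    (fun H V _ hV => isPStableOn_of_pap hp (hX.of_injective H.subtype H.subtype_injective) V hV)

theorem isCharPFunctor_stableNormalClosure :
    Cfsg.IsCharPFunctor.{u} p (fun Q _ => Cfsg.stableNormalClosure p Q) := by
  refine ⟨fun Q _ _ hQ hne => ?_, fun Q R _ _ _ _ φ => stableNormalClosure_map φ⟩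
  haveI := hne
  exact stableNormalClosure_ne_bot hQ

/-- Thompson's criterion with `W(S)`. -/
theorem hasNormalPComplement_of_stableClosure {G : Type u} [Group G] [Finite G] (hp : p ≠ 2)
    (S : Sylow p G)
    (hN : Cfsg.HasNormalPComplement p ↥(normalizer
      (((Cfsg.stableNormalClosure p ↥(S : Subgroup G)).map (S : Subgroup G).subtype) : Set G))) :
    Cfsg.HasNormalPComplement p G :=
  Cfsg.Lib.Functor.pcompl_main isCharPFunctor_stableNormalClosure _ G rfl
    (fun L _ _ _ hc hq T hT => stableNormalClosure_map_normal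
      (isActionPStable_of_pap hp (Cfsg.Lib.Functor.pap_of_coatom hq T hT)) hc T) S hN

/-- Hall–Higman 1.2.3. -/
theorem centralizer_pCore_le_of_pSolvable {G : Type u} [Group G] [Finite G]
    (hsol : Cfsg.IsPSolvable p G) (hO : Cfsg.pPrimeCore p G = ⊥) :
    centralizer (Cfsg.pCore p G : Set G) ≤ Cfsg.pCore p G := by
  set Q := Cfsg.pCore p G
  haveI : Q.Normal := Cfsg.Lib.Components.pCore_normal' p
  set C := centralizer (Q : Set G)
  have hQp : IsPGroup p Q := Cfsg.Lib.Components.isPGroup_pCore p
  obtain ⟨n, H, h0, hl, hmono, hn, hstep⟩ := hsol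
  suffices h : ∀ i, C ⊓ H i ≤ Q by simpa [hl] using h (Fin.last n)
  intro i
  induction i using Fin.induction with
  | zero => rw [h0, inf_bot_eq]; exact bot_le
  | succ i ih =>
    haveI := hn i.succ
    haveI := hn i.castSucc
    set D := C ⊓ H i.succ
    haveI : D.Normal := inferInstance
    set E := C ⊓ H i.castSucc
    have hED : E ≤ D := inf_le_inf_left C (hmono i.castSucc_le_succ)
    have hdvd : E.relIndex D ∣ (H i.castSucc).relIndex (H i.succ) := by
      have he : E.relIndex D = (H i.castSucc).relIndex D := by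
        rw [← inf_relIndex_right E, ← inf_relIndex_right (H i.castSucc) D]
        congr 1
        exact le_antisymm (le_inf (inf_le_left.trans inf_le_right) inf_le_right)
          (le_inf (le_inf (inf_le_right.trans inf_le_left) inf_le_left) inf_le_right)
      rw [he]
      have h1 := relIndex_ker D (QuotientGroup.mk' (H i.castSucc))
      have h2 := relIndex_ker (H i.succ) (QuotientGroup.mk' (H i.castSucc))
      rw [QuotientGroup.ker_mk'] at h1 h2
      rw [h1, h2]
      exact card_dvd_of_le (map_mono inf_le_right)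
    have hEp : IsPGroup p E := hQp.to_le ih
    rcases hstep i with ⟨m, hm⟩ | hc
    · obtain ⟨j, hj⟩ := IsPGroup.iff_card.mp hEp
      obtain ⟨k, -, hk⟩ := (Nat.dvd_prime_pow (Fact.out : p.Prime)).mp (hm ▸ hdvd)
      refine Cfsg.Lib.Components.le_pCore (IsPGroup.of_card (n := j + k) ?_)
      rw [pow_add, ← hj, ← hk]
      exact (relIndex_bot_left D).symm.trans
        ((relIndex_mul_relIndex ⊥ E D bot_le hED).symm.trans (by rw [relIndex_bot_left]))
    · -- `E` is a central Sylow subgroup of `D`
      have hcopDE : (E.relIndex D).Coprime p := hc.coprime_dvd_left hdvd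
      haveI : E.Normal := inferInstance
      have hpE : ∀ x ∈ D, (∃ k, orderOf x = p ^ k) → x ∈ E := by
        intro x hx hxp
        obtain ⟨k, hk⟩ := hxp
        have h1 : (QuotientGroup.mk' (E.subgroupOf D) ⟨x, hx⟩) ^ E.relIndex D = 1 := by
          rw [← map_pow]
          exact (QuotientGroup.eq_one_iff _).mpr (pow_index_mem (E.subgroupOf D) _)
        have h2 : (QuotientGroup.mk' (E.subgroupOf D) ⟨x, hx⟩) ^ p ^ k = 1 := by
          rw [← map_pow, show (⟨x, hx⟩ : D) ^ p ^ k = 1 from
            Subtype.ext (by rw [coe_pow, ← hk, pow_orderOf_eq_one]; rfl), map_one]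
        exact (QuotientGroup.eq_one_iff (⟨x, hx⟩ : D)).mp (orderOf_eq_one_iff.mp
          (Nat.eq_one_of_dvd_coprimes (hcopDE.pow_right k) (orderOf_dvd_of_pow_eq_one h1)
            (orderOf_dvd_of_pow_eq_one h2)))
      obtain ⟨N, hNn, hNc, j, hNj⟩ := Cfsg.Lib.Transfer.hasNormalPComplement_iff.mp
        (Cfsg.Lib.Transfer.hasNormalPComplement_of_frobenius (G := D) (p := p) fun R hR y _ _ => by
          refine mem_centralizer_iff.mpr fun q hq => Subtype.ext ?_
          obtain ⟨k, hk⟩ := IsPGroup.iff_orderOf.mp hR ⟨q, hq⟩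
          rw [Subgroup.orderOf_mk] at hk
          exact (mem_centralizer_iff.mp y.2.1 _ (ih (hpE _ q.2 ⟨k, (Subgroup.orderOf_coe q).trans hk⟩))))
      haveI := hNn
      have hNn' : (N.map D.subtype).Normal := ⟨fun x hx g => by
        obtain ⟨y, hy, rfl⟩ := mem_map.mp hx
        refine mem_map.mpr ⟨MulAut.conjNormal g y, ?_, MulAut.conjNormal_apply g y⟩
        rw [Cfsg.Lib.Transfer.mem_iff_coprime_orderOf hNc hNj, MulEquiv.orderOf_eq]
        exact (Cfsg.Lib.Transfer.mem_iff_coprime_orderOf hNc hNj y).mp hy⟩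
      have hNbot : N = ⊥ := by
        have h := Cfsg.Lib.Components.le_pPrimeCore (hn := hNn') (p := p) (N := N.map D.subtype)
          (by rwa [card_subtype])
        rw [hO, le_bot_iff] at h
        exact (map_eq_bot_iff_of_injective _ D.subtype_injective).mp h
      rw [hNbot, index_bot] at hNj
      exact Cfsg.Lib.Components.le_pCore (IsPGroup.of_card hNj)

/-- `G = O_{p'}(G) N(W(S))` for `p`-soluble groups, `p ≥ 5`. -/
theorem sup_normalizer_of_pSolvable {G : Type u} [Group G] [Finite G] (hp : 5 ≤ p)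
    (hsol : Cfsg.IsPSolvable p G) (S : Sylow p G) :
    Cfsg.pPrimeCore p G ⊔ normalizer
      (((Cfsg.stableNormalClosure p ↥(S : Subgroup G)).map (S : Subgroup G).subtype) : Set G) = ⊤ := by
  set O := Cfsg.pPrimeCore p G
  haveI : O.Normal := Cfsg.Lib.Components.pPrimeCore_normal' p
  set WG := (Cfsg.stableNormalClosure p ↥(S : Subgroup G)).map (S : Subgroup G).subtype with hWG
  have hOc : (Nat.card O).Coprime p := Cfsg.Lib.Components.coprime_card_pPrimeCore p
  set π := QuotientGroup.mk' O with hπdef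
  have hπ : Function.Surjective π := QuotientGroup.mk'_surjective O
  set T := S.mapSurjective hπ
  have hinj : Set.InjOn π (S : Subgroup G) := Cfsg.Lib.ZJ.injOn_mk hOc S.2
  have hsolq := Cfsg.Lib.GaschutzYen.isPSolvable_quotient O hsol
  have hn := stableNormalClosure_map_normal
    (Cfsg.Lib.ActionStable.isActionPStable_of_noSection (p := p) (by omega)
      (Cfsg.Lib.ActionStable.noSection_of_pSolvable hp hsolq))
    (centralizer_pCore_le_of_pSolvable hsolq Cfsg.Lib.Coprime.pPrimeCore_quotient_eq_bot) T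
  have himg : WG.map π = (Cfsg.stableNormalClosure p ↥(T : Subgroup (G ⧸ O))).map
      (T : Subgroup (G ⧸ O)).subtype := by
    have h := Cfsg.Lib.Functor.map_induced (W := fun Q _ => Cfsg.stableNormalClosure p Q)
      isCharPFunctor_stableNormalClosure (f := π) S.2 hinj
    show Subgroup.map π (Cfsg.inducedFunctor (fun Q _ => Cfsg.stableNormalClosure p Q) (S : Subgroup G)) = _
    rw [h, ← Sylow.coe_mapSurjective hπ S]
    rfl
  rw [← himg] at hn
  rw [eq_top_iff]
  intro x _
  have hWp : IsPGroup p WG := S.2.to_le (map_subtype_le _)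
  obtain ⟨j, hj⟩ := IsPGroup.iff_card.mp hWp
  have hle : Cfsg.Lib.Coprime.conjMap x WG ≤ O ⊔ WG := by
    rintro _ ⟨y, hy, rfl⟩
    have : π (x * y * x⁻¹) ∈ WG.map π := by
      rw [map_mul, map_mul, map_inv]
      exact hn.conj_mem _ (mem_map_of_mem π hy) _
    rw [← mem_comap, comap_map_eq, hπdef, QuotientGroup.ker_mk', sup_comm] at this
    exact this
  obtain ⟨m, hm, hmW⟩ := Cfsg.Lib.Coprime.exists_conj_eq_of_coprime
    (le_normalizer_of_normal) (by rw [hj]; exact hOc.pow_right j)
    (Or.inr (by haveI := hWp.isNilpotent; infer_instance)) hle (Cfsg.Lib.Coprime.card_conjMap x WG)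
  have hx : m⁻¹ * x ∈ normalizer (WG : Set G) := by
    refine Cfsg.Lib.Coprime.conjMap_eq_self_iff.mp ?_
    rw [← Cfsg.Lib.Coprime.conjMap_mul, hmW]
    exact Cfsg.Lib.Coprime.conjMap_inv_conjMap _ _
  rw [show x = m * (m⁻¹ * x) by group]
  exact mul_mem (mem_sup_left hm) (mem_sup_right hx)

end Cfsg.Lib.StableClosure
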