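import Cfsg.Agent.PLocal.StableClosureApps
import Cfsg.Agent.Components.CharP
import Cfsg.Agent.Components.ZJ.Reduce

/-!
`p`-constraint as characteristic `p` of `G / O_{p'}(G)`.
-/

set_option autoImplicit false

namespace Cfsg.Lib.Constraint

open Subgroup Cfsg.Lib.Components

universe u

variable {p : ℕ} [Fact p.Prime]

theorem isPSolvable_of_surjective {G H : Type u} [Group G] [Group H] [Finite G] {f : G →* H}
    (hf : Function.Surjective f) (h : Cfsg.IsPSolvable p G) : Cfsg.IsPSolvable p H := by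
  obtain ⟨n, K, h0, hl, hmono, hn, hstep⟩ := h
  refine ⟨n, fun i => (K i).map f, by simp only [h0, Subgroup.map_bot],
    by simp only [hl, map_top_of_surjective f hf], fun i j hij => map_mono (hmono hij),
    fun i => (hn i).map f hf, fun i => ?_⟩
  have hdvd : ((K i.castSucc).map f).relIndex ((K i.succ).map f) ∣
      (K i.castSucc).relIndex (K i.succ) :=
    relIndex_map_dvd_aux f (hmono i.castSucc_le_succ) (hn i.castSucc)
  rcases hstep i with ⟨m, hm⟩ | hc
  · obtain ⟨k, -, hk⟩ := (Nat.dvd_prime_pow (Fact.out : p.Prime)).mp (hm ▸ hdvd)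
    exact Or.inl ⟨k, hk⟩
  · exact Or.inr (hc.coprime_dvd_left hdvd)
where
  relIndex_map_dvd_aux {G H : Type u} [Group G] [Group H] [Finite G] (f : G →* H) {A B : Subgroup G}
      (hAB : A ≤ B) (hA : A.Normal) : (A.map f).relIndex (B.map f) ∣ A.relIndex B := by
    rw [← relIndex_comap, comap_map_eq]
    exact relIndex_dvd_of_le_left B le_sup_left

/-- A `p`-soluble normal subgroup centralizing `O_p(G)` lies in it when `O_{p'}(G) = 1`. -/
theorem le_pCore_of_centralizes {G : Type u} [Group G] [Finite G] (hO : Cfsg.pPrimeCore p G = ⊥)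
    (C : Subgroup G) [C.Normal] (hC : C ≤ centralizer (Cfsg.pCore p G : Set G))
    (hsol : Cfsg.IsPSolvable p C) : C ≤ Cfsg.pCore p G := by
  have hOC : Cfsg.pPrimeCore p C = ⊥ := by
    have h := pPrimeCore_map_subtype_eq (p := p) (Subgroup.Normal.isSubnormal (inferInstance : C.Normal))
    rw [hO, bot_inf_eq] at h
    exact (map_eq_bot_iff_of_injective _ C.subtype_injective).mp h
  have hc := Cfsg.Lib.StableClosure.centralizer_pCore_le_of_pSolvable hsol hOC
  haveI : ((Cfsg.pCore p C).map C.subtype).Normal := by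
    haveI : (Cfsg.pCore p C).Characteristic := pCore_characteristic
    infer_instance
  have hle : (Cfsg.pCore p C).map C.subtype ≤ Cfsg.pCore p G := le_pCore ((isPGroup_pCore p).map _)
  intro c hc'
  refine hle ⟨⟨c, hc'⟩, hc (mem_centralizer_iff.mpr fun z hz => Subtype.ext ?_), rfl⟩
  exact mem_centralizer_iff.mp (hC hc') _ (hle ⟨z, hz, rfl⟩)

variable {G : Type u} [Group G] [Finite G]

theorem pPrimeCore_ker_coprime :
    (Nat.card (QuotientGroup.mk' (Cfsg.pPrimeCore p G)).ker).Coprime p := by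
  rw [QuotientGroup.ker_mk']
  exact coprime_card_pPrimeCore p

/-- A Sylow subgroup of `O_{p',p}(G)` maps onto `O_p(G / O_{p'}(G))`. -/
theorem map_sylow_pPrimePCore (P : Sylow p ↥(Cfsg.pPrimePCore p G)) :
    ((P : Subgroup ↥(Cfsg.pPrimePCore p G)).map (Cfsg.pPrimePCore p G).subtype).map
      (QuotientGroup.mk' (Cfsg.pPrimeCore p G)) = Cfsg.pCore p (G ⧸ Cfsg.pPrimeCore p G) := by
  set π := QuotientGroup.mk' (Cfsg.pPrimeCore p G)
  set B := Cfsg.pCore p (G ⧸ Cfsg.pPrimeCore p G)
  let φ : ↥(Cfsg.pPrimePCore p G) →* B := π.subgroupComap B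
  have hφ : Function.Surjective φ := by
    rintro ⟨y, hy⟩
    obtain ⟨x, rfl⟩ := QuotientGroup.mk'_surjective _ y
    exact ⟨⟨x, hy⟩, rfl⟩
  have htop : ((P.mapSurjective hφ : Sylow p B) : Subgroup B) = ⊤ := by
    obtain ⟨Q, hQ⟩ := ((isPGroup_pCore p).to_subgroup (⊤ : Subgroup B)).exists_le_sylow
    have hcard := Sylow.card_eq_multiplicity (P.mapSurjective hφ)
    rw [← Sylow.card_eq_multiplicity Q] at hcard
    refine eq_of_le_of_card_ge le_top ?_
    rw [hcard]
    exact card_le_of_le hQ
  ext y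
  constructor
  · rintro ⟨_, ⟨x, -, rfl⟩, rfl⟩
    exact x.2
  · intro hy
    have := htop.ge (mem_top (⟨y, hy⟩ : B))
    rw [Sylow.coe_mapSurjective] at this
    obtain ⟨x, hx, hxe⟩ := this
    exact ⟨x, ⟨x, hx, rfl⟩, congrArg Subtype.val hxe⟩

/-- `p`-constraint is characteristic `p` of the quotient by the `p'`-core. -/
theorem isPConstrained_iff :
    Cfsg.IsPConstrained p G ↔ CharPGroup p (G ⧸ Cfsg.pPrimeCore p G) := by
  refine ⟨fun h => Cfsg.Lib.ZJ.charP_quotient (coprime_card_pPrimeCore p) h rfl, fun h P c hc => ?_⟩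
  refine h (mem_centralizer_iff.mpr fun y hy => ?_)
  rw [SetLike.mem_coe, ← map_sylow_pPrimePCore P] at hy
  obtain ⟨x, hx, rfl⟩ := hy
  rw [← map_mul, ← map_mul, mem_centralizer_iff.mp hc x hx]

theorem charP_quotient_bot {H : Type u} [Group H] [Finite H] (hH : Cfsg.pPrimeCore p H = ⊥) :
    CharPGroup p (H ⧸ Cfsg.pPrimeCore p H) ↔ CharPGroup p H :=
  let e := (QuotientGroup.quotientMulEquivOfEq hH).trans QuotientGroup.quotientBot
  ⟨charP_congr e, charP_congr e.symm⟩

/-- The constraint of the quotient. -/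
theorem isPConstrained_quotient_iff :
    Cfsg.IsPConstrained p G ↔ Cfsg.IsPConstrained p (G ⧸ Cfsg.pPrimeCore p G) := by
  rw [isPConstrained_iff, isPConstrained_iff,
    charP_quotient_bot (Cfsg.Lib.Coprime.pPrimeCore_quotient_eq_bot)]

/-- A `p`-soluble centralizer of the Sylow subgroup of `O_{p',p}` gives constraint. -/
theorem isPConstrained_of_pSolvable_centralizer (P : Sylow p ↥(Cfsg.pPrimePCore p G))
    (hsol : Cfsg.IsPSolvable p ↥(centralizer (((P : Subgroup ↥(Cfsg.pPrimePCore p G)).map
      (Cfsg.pPrimePCore p G).subtype : Subgroup G) : Set G))) : Cfsg.IsPConstrained p G := by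
  rw [isPConstrained_iff]
  set π := QuotientGroup.mk' (Cfsg.pPrimeCore p G)
  set P' := (P : Subgroup ↥(Cfsg.pPrimePCore p G)).map (Cfsg.pPrimePCore p G).subtype
  have hP' : IsPGroup p P' := P.2.map _
  have hmap : (centralizer (P' : Set G)).map π =
      centralizer ((Cfsg.pCore p (G ⧸ Cfsg.pPrimeCore p G) : Subgroup _) : Set _) := by
    rw [← map_sylow_pPrimePCore P]
    exact map_centralizer_of_coprime_ker hP'
  show centralizer _ ≤ _
  haveI : ((centralizer (P' : Set G)).map π).Normal := hmap ▸ inferInstance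
  rw [← hmap]
  exact le_pCore_of_centralizes (Cfsg.Lib.Coprime.pPrimeCore_quotient_eq_bot) _ hmap.le
    (isPSolvable_of_surjective (π.subgroupMap_surjective (centralizer (P' : Set G))) hsol)
where
  map_centralizer_of_coprime_ker {P : Subgroup G} (hP : IsPGroup p P) :
      (centralizer (P : Set G)).map (QuotientGroup.mk' (Cfsg.pPrimeCore p G)) =
        centralizer ((P.map (QuotientGroup.mk' (Cfsg.pPrimeCore p G)) : Subgroup _) : Set _) := by
    set π := QuotientGroup.mk' (Cfsg.pPrimeCore p G)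
    refine le_antisymm ?_ fun y hy => ?_
    · rintro _ ⟨c, hc, rfl⟩
      rw [mem_centralizer_iff]
      rintro _ ⟨x, hx, rfl⟩
      rw [← map_mul, ← map_mul, mem_centralizer_iff.mp hc x hx]
    · have hyN : y ∈ (normalizer (P : Set G)).map π := by
        rw [normalizer_map_of_coprime_ker (QuotientGroup.mk'_surjective _) pPrimeCore_ker_coprime hP]
        exact Cfsg.Lib.Thompson.centralizer_le_normalizer _ hy
      obtain ⟨n, hn, rfl⟩ := hyN
      refine ⟨n, mem_centralizer_iff.mpr fun x hx => ?_, rfl⟩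
      have hxn : n * x * n⁻¹ ∈ P := (mem_normalizer_iff.mp hn x).mp hx
      have he : n * x * n⁻¹ = x := by
        refine Cfsg.Lib.ZJ.injOn_mk (coprime_card_pPrimeCore p) hP hxn hx ?_
        show π (n * x * n⁻¹) = π x
        rw [map_mul, map_mul, map_inv, ← mem_centralizer_iff.mp hy (π x) ⟨x, hx, rfl⟩,
          mul_inv_cancel_right]
      exact (mul_inv_eq_iff_eq_mul.mp he).symm

/-- The `p'`-core of a local subgroup. -/
theorem pPrimeCore_normalizer (hc : CharPGroup p (G ⧸ Cfsg.pPrimeCore p G)) (P : Subgroup G)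
    (hP : IsPGroup p P) :
    (Cfsg.pPrimeCore p ↥(normalizer (P : Set G))).map (normalizer (P : Set G)).subtype =
      Cfsg.pPrimeCore p G ⊓ normalizer (P : Set G) := by
  set O := Cfsg.pPrimeCore p G
  set π := QuotientGroup.mk' O
  set N := normalizer (P : Set G)
  haveI : O.Normal := pPrimeCore_normal' p
  refine le_antisymm (le_inf ?_ (map_subtype_le _)) ?_
  · rintro _ ⟨x, hx, rfl⟩
    set N' := normalizer ((P.map π : Subgroup _) : Set (G ⧸ O))
    have hmap : N.map π = N' := normalizer_map_of_coprime_ker (QuotientGroup.mk'_surjective O)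
      pPrimeCore_ker_coprime hP
    let φ : N →* N' := (π.comp N.subtype).codRestrict N' fun z => hmap.le ⟨z, z.2, rfl⟩
    have hφ : Function.Surjective φ := by
      rintro ⟨y, hy⟩
      obtain ⟨z, hz, rfl⟩ := hmap.ge hy
      exact ⟨⟨z, hz⟩, rfl⟩
    haveI : (Cfsg.pPrimeCore p N).Normal := pPrimeCore_normal' p
    have hn : ((Cfsg.pPrimeCore p N).map φ).Normal := Subgroup.Normal.map inferInstance φ hφ
    have hle := Cfsg.Lib.Components.le_pPrimeCore (hn := hn)
      ((coprime_card_pPrimeCore p).coprime_dvd_left (card_map_dvd _ φ))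
    have hbot : Cfsg.pPrimeCore p N' = ⊥ := (charP_iff.mp (charP_normalizer_subgroup hc (hP.map π))).1
    have h := hle ⟨x, hx, rfl⟩
    rw [hbot, mem_bot] at h
    exact (QuotientGroup.eq_one_iff (x : G)).mp (congrArg Subtype.val h)
  · rintro x ⟨hxO, hxN⟩
    haveI : (O.subgroupOf N).Normal := inferInstance
    refine ⟨⟨x, hxN⟩, Cfsg.Lib.Components.le_pPrimeCore ?_ (show (⟨x, hxN⟩ : N) ∈ O.subgroupOf N from hxO), rfl⟩
    rw [← card_subtype, subgroupOf_map_subtype]
    exact (coprime_card_pPrimeCore p).coprime_dvd_left (card_dvd_of_le inf_le_left)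

/-- Constraint from a map onto a group of characteristic `p` with kernel the `p'`-core. -/
theorem isPConstrained_of_map {H X : Type u} [Group H] [Finite H] [Group X] [Finite X] {φ : H →* X}
    (hφ : Function.Surjective φ) (hk : φ.ker = Cfsg.pPrimeCore p H) (hX : CharPGroup p X) :
    Cfsg.IsPConstrained p H := by
  rw [isPConstrained_iff]
  exact charP_congr ((QuotientGroup.quotientMulEquivOfEq hk.symm).trans
    (QuotientGroup.quotientKerEquivOfSurjective φ hφ)).symm hX

/-- Normalizers and centralizers of `p`-subgroups of constrained groups are constrained. -/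
theorem isPConstrained_local (hG : Cfsg.IsPConstrained p G) (P : Subgroup G) (hP : IsPGroup p P) :
    Cfsg.IsPConstrained p ↥(normalizer (P : Set G)) ∧
      Cfsg.IsPConstrained p ↥(centralizer (P : Set G)) := by
  have hc := isPConstrained_iff.mp hG
  set O := Cfsg.pPrimeCore p G
  set π := QuotientGroup.mk' O
  set N := normalizer (P : Set G)
  set C := centralizer (P : Set G)
  set N' := normalizer ((P.map π : Subgroup _) : Set (G ⧸ O))
  set C' := centralizer ((P.map π : Subgroup _) : Set (G ⧸ O))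
  haveI : O.Normal := pPrimeCore_normal' p
  have hNc : CharPGroup p N' := charP_normalizer_subgroup hc (hP.map π)
  have hmapN : N.map π = N' := normalizer_map_of_coprime_ker (QuotientGroup.mk'_surjective O)
    pPrimeCore_ker_coprime hP
  have hmapC : C.map π = C' := isPConstrained_of_pSolvable_centralizer.map_centralizer_of_coprime_ker hP
  have hcore := pPrimeCore_normalizer hc P hP
  have hCN : C ≤ N := Cfsg.Lib.Thompson.centralizer_le_normalizer _
  have hC'N' : C' ≤ N' := Cfsg.Lib.Thompson.centralizer_le_normalizer _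
  haveI : (C'.subgroupOf N').Normal := by
    refine normal_subgroupOf_of_le_normalizer ?_
    exact normalizer_le_normalizer_centralizer_aux _
  have hCc : CharPGroup p C' := charP_congr (subgroupOfEquivOfLe hC'N')
    (charP_subnormal hNc (inferInstance : (C'.subgroupOf N').Normal).isSubnormal)
  constructor
  · let φ : N →* N' := (π.comp N.subtype).codRestrict N' fun z => hmapN.le ⟨z, z.2, rfl⟩
    refine isPConstrained_of_map (φ := φ) ?_ ?_ hNc
    · rintro ⟨y, hy⟩
      obtain ⟨z, hz, rfl⟩ := hmapN.ge hy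
      exact ⟨⟨z, hz⟩, rfl⟩
    · refine map_injective N.subtype_injective ?_
      rw [hcore]
      ext z
      constructor
      · rintro ⟨w, hw, rfl⟩
        exact ⟨(QuotientGroup.eq_one_iff (w : G)).mp (congrArg Subtype.val hw), w.2⟩
      · rintro ⟨hz, hzN⟩
        exact ⟨⟨z, hzN⟩, Subtype.ext ((QuotientGroup.eq_one_iff z).mpr hz), rfl⟩
  · let φ : C →* C' := (π.comp C.subtype).codRestrict C' fun z => hmapC.le ⟨z, z.2, rfl⟩
    refine isPConstrained_of_map (φ := φ) ?_ (le_antisymm ?_ ?_) hCc
    · rintro ⟨y, hy⟩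
      obtain ⟨z, hz, rfl⟩ := hmapC.ge hy
      exact ⟨⟨z, hz⟩, rfl⟩
    · refine Cfsg.Lib.Components.le_pPrimeCore (hn := φ.normal_ker) ?_
      rw [← card_subtype C]
      refine (coprime_card_pPrimeCore (G := G) p).coprime_dvd_left (card_dvd_of_le ?_)
      rintro _ ⟨w, hw, rfl⟩
      exact (QuotientGroup.eq_one_iff (w : G)).mp (congrArg Subtype.val hw)
    · intro w hw
      haveI : (C.subgroupOf N).Normal :=
        normal_subgroupOf_of_le_normalizer (normalizer_le_normalizer_centralizer_aux _)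
      have hle := pPrimeCore_map_subtype_eq (p := p)
        (Subgroup.Normal.isSubnormal (inferInstance : (C.subgroupOf N).Normal))
      have hw' : (⟨(w : G), hCN w.2⟩ : N) ∈ Cfsg.pPrimeCore p N := by
        let e := (subgroupOfEquivOfLe hCN).symm
        have h1 : e w ∈ Cfsg.pPrimeCore p ↥(C.subgroupOf N) := by
          rw [← pPrimeCore_map_equiv (p := p) e]
          exact ⟨w, hw, rfl⟩
        exact (hle.le ⟨e w, h1, rfl⟩).1
      have h2 : (w : G) ∈ O ⊓ N := hcore.le ⟨_, hw', rfl⟩
      exact Subtype.ext ((QuotientGroup.eq_one_iff (w : G)).mpr h2.1)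
where
  normalizer_le_normalizer_centralizer_aux {G : Type u} [Group G] (P : Subgroup G) :
      normalizer (P : Set G) ≤ normalizer (centralizer (P : Set G) : Set G) := by
    intro g hg
    have hfwd : ∀ g ∈ normalizer (P : Set G), ∀ c ∈ centralizer (P : Set G),
        g * c * g⁻¹ ∈ centralizer (P : Set G) := by
      intro g hg c hc
      refine mem_centralizer_iff.mpr fun x hx => ?_
      have hx' : g⁻¹ * x * g ∈ P := by
        simpa using (mem_normalizer_iff.mp (inv_mem hg) x).mp hx
      calc x * (g * c * g⁻¹) = g * ((g⁻¹ * x * g) * c) * g⁻¹ := by group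
        _ = g * (c * (g⁻¹ * x * g)) * g⁻¹ := by rw [mem_centralizer_iff.mp hc _ hx']
        _ = g * c * g⁻¹ * x := by group
    exact mem_normalizer_iff.mpr fun c => ⟨hfwd g hg c, fun h => by
      simpa [mul_assoc] using hfwd g⁻¹ (inv_mem hg) _ h⟩

/-- Hall–Higman along the upper `p`-series. -/
theorem upperPSeries_self_centralizing (hsol : Cfsg.IsPSolvable p G) (k : ℕ) :
    centralizer ((((Cfsg.upperPSeries p G (2 * k + 2)).1.map
        (QuotientGroup.mk' (Cfsg.upperPSeries p G (2 * k + 1)).1)) :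
          Subgroup (G ⧸ (Cfsg.upperPSeries p G (2 * k + 1)).1)) :
        Set (G ⧸ (Cfsg.upperPSeries p G (2 * k + 1)).1)) ≤
      (Cfsg.upperPSeries p G (2 * k + 2)).1.map
        (QuotientGroup.mk' (Cfsg.upperPSeries p G (2 * k + 1)).1) := by
  set U := (Cfsg.upperPSeries p G (2 * k + 1)).1
  have hev : Even (2 * k) := even_two_mul k
  have hodd : ¬ Even (2 * k + 1) := by simp [parity_simps]
  have e2 : (Cfsg.upperPSeries p G (2 * k + 2)).1 =
      (Cfsg.pCore p (G ⧸ U)).comap (QuotientGroup.mk' U) := by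
    rw [show 2 * k + 2 = (2 * k + 1) + 1 from rfl, Cfsg.upperPSeries]
    simp only [if_neg hodd]
    rfl
  rw [e2, map_comap_eq_self_of_surjective (QuotientGroup.mk'_surjective U)]
  refine Cfsg.Lib.StableClosure.centralizer_pCore_le_of_pSolvable
    (isPSolvable_of_surjective (QuotientGroup.mk'_surjective U) hsol) ?_
  -- `O_{p'}(G / U) = 1`
  set V := (Cfsg.upperPSeries p G (2 * k)).1
  have e1 : U = (Cfsg.pPrimeCore p (G ⧸ V)).comap (QuotientGroup.mk' V) := by
    show (Cfsg.upperPSeries p G (2 * k + 1)).1 = _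
    rw [Cfsg.upperPSeries]
    simp only [if_pos hev]
    rfl
  set M := (Cfsg.pPrimeCore p (G ⧸ U)).comap (QuotientGroup.mk' U)
  haveI : (Cfsg.pPrimeCore p (G ⧸ U)).Normal := pPrimeCore_normal' p
  have hUM : U ≤ M := fun x hx => by
    show (QuotientGroup.mk' U) x ∈ Cfsg.pPrimeCore p (G ⧸ U)
    rw [show QuotientGroup.mk' U x = 1 from (QuotientGroup.eq_one_iff x).mpr hx]
    exact one_mem _
  have hVU : V ≤ U := by
    rw [e1]
    intro x hx
    show (QuotientGroup.mk' V) x ∈ Cfsg.pPrimeCore p (G ⧸ V)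
    rw [show QuotientGroup.mk' V x = 1 from (QuotientGroup.eq_one_iff x).mpr hx]
    exact one_mem _
  have hUrel : (V.relIndex U).Coprime p := by
    have h := relIndex_ker U (QuotientGroup.mk' V)
    rw [QuotientGroup.ker_mk'] at h
    rw [h]
    refine (coprime_card_pPrimeCore (G := G ⧸ V) p).coprime_dvd_left (card_dvd_of_le ?_)
    rw [e1]
    exact map_comap_le _ _
  have hMrel : (U.relIndex M).Coprime p := by
    have h := relIndex_ker M (QuotientGroup.mk' U)
    rw [QuotientGroup.ker_mk', map_comap_eq_self_of_surjective (QuotientGroup.mk'_surjective U)] at h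
    rw [h]
    exact coprime_card_pPrimeCore p
  haveI : (M.map (QuotientGroup.mk' V)).Normal :=
    Subgroup.Normal.map inferInstance _ (QuotientGroup.mk'_surjective V)
  have hMle : M ≤ U := by
    rw [e1]
    refine fun x hx => Cfsg.Lib.Components.le_pPrimeCore ?_ (mem_map_of_mem (QuotientGroup.mk' V) hx)
    have h := relIndex_ker M (QuotientGroup.mk' V)
    rw [QuotientGroup.ker_mk'] at h
    rw [← h, ← relIndex_mul_relIndex V U M hVU hUM]
    exact hUrel.mul_left hMrel
  rw [← map_comap_eq_self_of_surjective (QuotientGroup.mk'_surjective U) (Cfsg.pPrimeCore p (G ⧸ U)),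
    eq_bot_iff]
  rintro _ ⟨x, hx, rfl⟩
  exact mem_bot.mpr ((QuotientGroup.eq_one_iff x).mpr (hMle hx))

end Cfsg.Lib.Constraint
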