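import Cfsg.Agent.Quadratic.Thompson
import Cfsg.Agent.Fusion.StableGroup
import Cfsg.Agent.Components.Cores
import Cfsg.Agent.PGroups.Basic
import Cfsg.Agent.Known.Laws
import Cfsg.Prelude.Def_PLocal

/-!
Groups without `SL₂(p)` sections are `p`-stable in the action sense.
-/

set_option autoImplicit false

namespace Cfsg.Lib.ActionStable

open Subgroup
open scoped commutatorElement

variable {p : ℕ}

/-- No subgroup maps onto `SL₂(p)`. -/
def NoSection (p : ℕ) (G : Type*) [Group G] : Prop :=
  ∀ (K : Subgroup G) (f : K →* Matrix.SpecialLinearGroup (Fin 2) (ZMod p)), ¬ Function.Surjective f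

theorem noSection_subgroup {G : Type*} [Group G] (h : NoSection p G) (H : Subgroup G) :
    NoSection p ↥H := by
  intro K f hf
  exact h (K.map H.subtype) (f.comp (K.equivMapOfInjective H.subtype H.subtype_injective).symm.toMonoidHom)
    (hf.comp (K.equivMapOfInjective H.subtype H.subtype_injective).symm.surjective)

theorem noSection_surjective {G H : Type*} [Group G] [Group H] {π : G →* H}
    (hπ : Function.Surjective π) (h : NoSection p G) : NoSection p H := by
  intro K f hf
  refine h (K.comap π) (f.comp (π.subgroupComap K)) (hf.comp ?_)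
  rintro ⟨k, hk⟩
  obtain ⟨g, rfl⟩ := hπ k
  exact ⟨⟨g, hk⟩, rfl⟩

/-- Stability on a normal elementary abelian subgroup. -/
theorem isPStableOn_of_noSection {G : Type*} [Group G] [Finite G] [Fact p.Prime] (hp : p ≠ 2)
    (h : NoSection p G) (V : Subgroup G) [V.Normal] (hV : Cfsg.IsElementaryAbelian p V) :
    Cfsg.IsPStableOn p V := by
  intro a hq
  set C := centralizer (V : Set G)
  have hC : C ≤ (MulAut.conjNormal : G →* MulAut V).ker := fun c hc =>
    MulEquiv.ext fun v => Subtype.ext (by
      rw [MulAut.conjNormal_apply, ← mem_centralizer_iff.mp hc v v.2, mul_inv_cancel_right]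
      rfl)
  set φ : G ⧸ C →* MulAut V := QuotientGroup.lift C MulAut.conjNormal hC
  haveI : Finite (MulAut V) := Finite.of_injective (fun e => (e : V → V)) DFunLike.coe_injective
  let E := SemidirectProduct V (G ⧸ C) φ
  haveI : Finite E := Finite.of_equiv _ SemidirectProduct.equivProd.symm
  let i : V →* E := SemidirectProduct.inl
  let j : G ⧸ C →* E := SemidirectProduct.inr
  have hi : Function.Injective i := SemidirectProduct.inl_injective
  have hj : Function.Injective j := SemidirectProduct.inr_injective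
  have hact : ∀ (g : G) (v : V), j (QuotientGroup.mk g) * i v * (j (QuotientGroup.mk g))⁻¹ =
      i (MulAut.conjNormal g v) := fun g v => by
    rw [show MulAut.conjNormal g v = φ (QuotientGroup.mk g) v from rfl, ← map_inv]
    exact (SemidirectProduct.inl_aut (φ := φ) _ v).symm
  have hV' : Cfsg.IsElementaryAbelian p i.range := by
    refine ⟨⟨⟨fun x y => ?_⟩⟩, ?_⟩
    · obtain ⟨u, hu⟩ := x.2
      obtain ⟨w, hw⟩ := y.2
      apply Subtype.ext
      show (x : E) * y = y * x
      rw [← hu, ← hw, ← map_mul, ← map_mul, hV.1.is_comm.comm u w]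
    · rintro _ ⟨v, rfl⟩
      rw [← map_pow, show v ^ p = 1 from Subtype.ext (hV.2 v v.2), map_one]
  have hHV : j.range ≤ normalizer (i.range : Set E) := by
    rintro _ ⟨x, rfl⟩
    obtain ⟨g, rfl⟩ := QuotientGroup.mk_surjective x
    refine mem_normalizer_iff.mpr fun y => ⟨?_, ?_⟩
    · rintro ⟨v, rfl⟩
      exact ⟨MulAut.conjNormal g v, (hact g v).symm⟩
    · rintro ⟨v, hv⟩
      refine ⟨(MulAut.conjNormal g)⁻¹ v, ?_⟩
      apply mul_left_cancel (a := j (QuotientGroup.mk g))
      apply mul_right_cancel (b := (j (QuotientGroup.mk g))⁻¹)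
      rw [hact, MulAut.apply_inv_self, hv]
  have hf : j.range ⊓ centralizer (i.range : Set E) = ⊥ := by
    rw [eq_bot_iff]
    rintro _ ⟨⟨x, rfl⟩, hx⟩
    obtain ⟨g, rfl⟩ := QuotientGroup.mk_surjective x
    rw [mem_bot, (QuotientGroup.eq_one_iff g).mpr ?_, map_one]
    refine mem_centralizer_iff.mpr fun v hv => ?_
    have h1 := mem_centralizer_iff.mp hx (i ⟨v, hv⟩) ⟨⟨v, hv⟩, rfl⟩
    have h2 := hact g ⟨v, hv⟩
    rw [← h1, mul_inv_cancel_right] at h2
    have h3 : g * v * g⁻¹ = v :=
      (MulAut.conjNormal_apply (H := V) g ⟨v, hv⟩).symm.trans (congrArg Subtype.val (hi h2)).symm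
    exact (mul_inv_eq_iff_eq_mul.mp h3).symm
  have hq' : ⁅⁅i.range, zpowers (j (QuotientGroup.mk a))⁆, zpowers (j (QuotientGroup.mk a))⁆ = ⊥ := by
    refine Cfsg.Lib.CentralStable.commutator_eq_bot_of_fixes (hHV ⟨_, rfl⟩) ?_
    rintro _ ⟨v, rfl⟩
    rw [hact, ← map_inv, ← map_mul, hact]
    refine congrArg i (Subtype.ext ?_)
    rw [MulAut.conjNormal_apply, coe_mul, coe_inv, MulAut.conjNormal_apply]
    exact Cfsg.Lib.CentralStable.fixes_of_quadratic (le_normalizer_of_normal (mem_top a)) hq v.2
  by_contra hna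
  have hna' : j (QuotientGroup.mk a) ∉ (Cfsg.pCore p j.range).map j.range.subtype := by
    rintro ⟨y, hy, hye⟩
    haveI : (Cfsg.pCore p j.range).Normal := Cfsg.Lib.Components.pCore_normal' p
    set e := MonoidHom.ofInjective hj
    have hn : ((Cfsg.pCore p j.range).map e.symm.toMonoidHom).Normal :=
      Subgroup.Normal.map inferInstance _ e.symm.surjective
    refine hna (Cfsg.Lib.Components.le_pCore (hn := hn)
      ((Cfsg.Lib.Components.isPGroup_pCore p).map _) ⟨y, hy, ?_⟩)
    apply hj
    rw [← MonoidHom.ofInjective_apply hj]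
    show ((e (e.symm y) : j.range) : E) = _
    rw [e.apply_symm_apply]
    exact hye
  obtain ⟨K, f, hK, hf'⟩ :=
    Cfsg.Lib.QuadPair.exists_section_of_notMem_pCore hp hV' hHV hf ⟨_, rfl⟩ hq' hna'
  let e := MonoidHom.ofInjective hj
  have hsurj : Function.Surjective (e.toMonoidHom.comp (QuotientGroup.mk' C)) :=
    e.surjective.comp (QuotientGroup.mk'_surjective C)
  refine noSection_surjective (p := p) hsurj h (K.subgroupOf j.range)
    (f.comp (subgroupOfEquivOfLe hK).toMonoidHom) (hf'.comp (subgroupOfEquivOfLe hK).surjective)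

theorem omegaOne_exponent {G : Type*} [Group G] {K : Subgroup G}
    (hc : ∀ a ∈ Cfsg.omegaOne p K, ∀ b ∈ Cfsg.omegaOne p K, a * b = b * a) {x : G}
    (hx : x ∈ Cfsg.omegaOne p K) : x ^ p = 1 := by
  refine closure_induction (p := fun y _ => y ^ p = 1) (fun y hy => hy.2) (one_pow p) ?_ ?_ hx
  · intro a b ha hb iha ihb
    have hab : Commute a b := hc a ha b hb
    rw [hab.mul_pow, iha, ihb, one_mul]
  · intro a _ iha
    rw [inv_pow, iha, inv_one]

/-- Stability on elementary abelian normal subgroups of the group, its quotients and its subgroups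
gives action-`p`-stability. -/
theorem isActionPStable_of {G : Type*} [Group G] [Finite G] [Fact p.Prime]
    (htop : ∀ (V : Subgroup G) [V.Normal], Cfsg.IsElementaryAbelian p V → Cfsg.IsPStableOn p V)
    (hquot : ∀ (N : Subgroup G) [N.Normal] (V : Subgroup (G ⧸ N)) [V.Normal],
      Cfsg.IsElementaryAbelian p V → Cfsg.IsPStableOn p V)
    (hsub : ∀ (H : Subgroup G) (V : Subgroup ↥H) [V.Normal],
      Cfsg.IsElementaryAbelian p V → Cfsg.IsPStableOn p V) : Cfsg.IsActionPStable p G := by
  refine ⟨fun V _ hV => htop V hV, ?_, fun S V hVn hV => ?_⟩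
  · set Q := Cfsg.pCore p G
    haveI : Q.Normal := Cfsg.Lib.Components.pCore_normal' p
    set N := (frattini ↥Q).map Q.subtype
    set π := QuotientGroup.mk' N
    haveI : (Q.map π).Normal := Subgroup.Normal.map inferInstance _ (QuotientGroup.mk'_surjective N)
    have hQp : IsPGroup p Q := Cfsg.Lib.Components.isPGroup_pCore p
    have hel : Cfsg.IsElementaryAbelian p (Q.map π) := by
      refine ⟨⟨⟨fun x y => ?_⟩⟩, ?_⟩
      · obtain ⟨a, ha, hax⟩ := x.2
        obtain ⟨b, hb, hby⟩ := y.2
        apply Subtype.ext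
        show (x : G ⧸ N) * y = y * x
        rw [← hax, ← hby, ← commutatorElement_eq_one_iff_mul_comm, ← map_commutatorElement]
        exact (QuotientGroup.eq_one_iff _).mpr ⟨⁅⟨a, ha⟩, ⟨b, hb⟩⁆,
          Cfsg.Lib.PGroups.commutator_le_frattini hQp
            (commutator_mem_commutator (mem_top _) (mem_top _)), by
              rw [map_commutatorElement]; rfl⟩
      · rintro _ ⟨a, ha, rfl⟩
        rw [← map_pow]
        exact (QuotientGroup.eq_one_iff _).mpr
          ⟨(⟨a, ha⟩ : Q) ^ p, Cfsg.Lib.PGroups.pow_mem_frattini hQp _, rfl⟩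
    intro a hq
    have hq' : ⁅⁅Q.map π, zpowers (π a)⁆, zpowers (π a)⁆ = ⊥ := by
      rw [← MonoidHom.map_zpowers, ← map_commutator, ← map_commutator, Subgroup.map_eq_bot_iff,
        QuotientGroup.ker_mk']
      exact hq
    have hst := hquot N (Q.map π) hel (π a) hq'
    set π₂ := QuotientGroup.mk' (centralizer ((Q.map π : Subgroup _) : Set (G ⧸ N)))
    haveI : (Cfsg.pCore p ((G ⧸ N) ⧸ centralizer ((Q.map π : Subgroup _) : Set (G ⧸ N)))).Normal :=
      Cfsg.Lib.Components.pCore_normal' p
    set P := Cfsg.pCore p ((G ⧸ N) ⧸ centralizer ((Q.map π : Subgroup _) : Set (G ⧸ N)))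
    refine ⟨(P.comap π₂).comap π, inferInstance, fun g hg => ?_, ?_, hst⟩
    · show π₂ (π g) ∈ P
      rw [show π₂ (π g) = 1 from (QuotientGroup.eq_one_iff _).mpr hg]
      exact one_mem _
    · obtain ⟨k, hk⟩ := IsPGroup.iff_card.mp
        (Cfsg.Lib.Components.isPGroup_pCore (G := (G ⧸ N) ⧸ centralizer ((Q.map π : Subgroup _) : Set (G ⧸ N))) p)
      refine ⟨k, ?_⟩
      rw [Cfsg.sectionKernel, relIndex_comap,
        map_comap_eq_self_of_surjective (QuotientGroup.mk'_surjective N)]
      have h2 := relIndex_ker (P.comap π₂) π₂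
      rw [QuotientGroup.ker_mk', map_comap_eq_self_of_surjective (QuotientGroup.mk'_surjective _)] at h2
      rw [h2]
      exact hk
  · haveI : V.Normal := hVn
    refine hsub _ V ?_
    have hcomm : ∀ a ∈ Cfsg.omegaCenterThompson p ↥(S : Subgroup G),
        ∀ b ∈ Cfsg.omegaCenterThompson p ↥(S : Subgroup G), a * b = b * a := by
      intro a ha b hb
      have ha' := (closure_le _).mpr (fun x (hx : x ∈ _ ∧ x ^ p = 1) => hx.1) ha
      have hb' := (closure_le _).mpr (fun x (hx : x ∈ _ ∧ x ^ p = 1) => hx.1) hb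
      exact mem_centralizer_iff.mp hb'.2 a ha'.1
    have hmem : ∀ v : V, ∃ s ∈ Cfsg.omegaCenterThompson p ↥(S : Subgroup G),
        (s : G) = ((v : ↥(normalizer (Cfsg.thompsonSubgroupOf p (S : Subgroup G) : Set G))) : G) := fun v => hV ⟨v, v.2, rfl⟩
    refine ⟨⟨⟨fun x y => ?_⟩⟩, fun v hv => ?_⟩
    · obtain ⟨a, ha, hax⟩ := hmem x
      obtain ⟨b, hb, hby⟩ := hmem y
      refine Subtype.ext (Subtype.ext ?_)
      show ((x : ↥(normalizer (Cfsg.thompsonSubgroupOf p (S : Subgroup G) : Set G))) : G) * ((y : ↥(normalizer (Cfsg.thompsonSubgroupOf p (S : Subgroup G) : Set G))) : G) = ((y : ↥(normalizer (Cfsg.thompsonSubgroupOf p (S : Subgroup G) : Set G))) : G) * ((x : ↥(normalizer (Cfsg.thompsonSubgroupOf p (S : Subgroup G) : Set G))) : G)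
      rw [← hax, ← hby, ← coe_mul, ← coe_mul, hcomm a ha b hb]
    · obtain ⟨a, ha, hax⟩ := hmem ⟨v, hv⟩
      refine Subtype.ext ?_
      rw [coe_pow, show (v : G) = (a : G) from hax.symm, ← coe_pow, omegaOne_exponent hcomm ha]
      rfl

/-- A group without `SL₂(p)` sections is action-`p`-stable. -/
theorem isActionPStable_of_noSection {G : Type*} [Group G] [Finite G] [Fact p.Prime] (hp : p ≠ 2)
    (h : NoSection p G) : Cfsg.IsActionPStable p G :=
  isActionPStable_of (fun V _ hV => isPStableOn_of_noSection hp h V hV)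
    (fun N _ V _ hV =>
      isPStableOn_of_noSection hp (noSection_surjective (QuotientGroup.mk'_surjective N) h) V hV)
    (fun H V _ hV => isPStableOn_of_noSection hp (noSection_subgroup h H) V hV)

theorem noSection_of_abelian {G : Type*} [Group G] [Finite G] [Fact p.Prime] (hp : p ≠ 2)
    (hab : ∀ T : Sylow 2 G, IsMulCommutative T) : NoSection p G := by
  intro K f hf
  obtain ⟨T⟩ : Nonempty (Sylow 2 G) := inferInstance
  exact Cfsg.Lib.QuadPair.not_isMulCommutative_sylow_two hp hf T (hab T)

/-- A `p`-soluble group has no `SL₂(p)` section for `p ≥ 5`. -/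
theorem noSection_of_pSolvable {G : Type*} [Group G] [Finite G] [Fact p.Prime] (hp : 5 ≤ p)
    (hsep : Cfsg.IsPSolvable p G) : NoSection p G := by
  intro K f hf
  obtain ⟨n, H, h0, hl, -, hn, hstep⟩ := hsep
  have hperf : commutator (Matrix.SpecialLinearGroup (Fin 2) (ZMod p)) = ⊤ :=
    Cfsg.Lib.Known.sl2_commutator_eq_top (ZMod p) (by rw [ZMod.card]; omega)
  have key : ∀ i : Fin (n + 1), ((H i).subgroupOf K).map f = ⊤ := by
    intro i
    induction i using Fin.reverseInduction with
    | last => rw [hl, top_subgroupOf, ← MonoidHom.range_eq_map, MonoidHom.range_eq_top.mpr hf]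
    | cast i ih =>
      haveI := hn i.castSucc
      set M := ((H i.castSucc).subgroupOf K).map f
      haveI : M.Normal := Subgroup.Normal.map inferInstance f hf
      have hpow : ∀ y, y ^ (H i.castSucc).relIndex (H i.succ) ∈ M := by
        intro y
        obtain ⟨x, hx, rfl⟩ := ih.ge (mem_top y)
        rw [← map_pow]
        refine ⟨_, ?_, rfl⟩
        show ((x ^ _ : K) : G) ∈ H i.castSucc
        rw [coe_pow]
        haveI : ((H i.castSucc).subgroupOf (H i.succ)).Normal := inferInstance
        exact pow_index_mem ((H i.castSucc).subgroupOf (H i.succ)) (⟨(x : G), hx⟩ : H i.succ)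
      rcases hstep i with ⟨m, hm⟩ | hc
      · by_contra hne
        haveI : Nontrivial (Matrix.SpecialLinearGroup (Fin 2) (ZMod p) ⧸ M) :=
          QuotientGroup.nontrivial_iff.mpr hne
        have hQ : IsPGroup p (Matrix.SpecialLinearGroup (Fin 2) (ZMod p) ⧸ M) := by
          intro z
          obtain ⟨y, rfl⟩ := QuotientGroup.mk_surjective z
          refine ⟨m, ?_⟩
          rw [← QuotientGroup.mk_pow]
          exact (QuotientGroup.eq_one_iff _).mpr (hm ▸ hpow y)
        haveI := hQ.isNilpotent
        have hlt := Group.IsSolvable.commutator_lt_top_of_nontrivial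
          (Matrix.SpecialLinearGroup (Fin 2) (ZMod p) ⧸ M)
        refine hlt.ne (eq_top_iff.mpr fun z _ => ?_)
        obtain ⟨y, rfl⟩ := QuotientGroup.mk'_surjective M z
        have h1 : (commutator (Matrix.SpecialLinearGroup (Fin 2) (ZMod p))).map (QuotientGroup.mk' M) ≤
            commutator (Matrix.SpecialLinearGroup (Fin 2) (ZMod p) ⧸ M) := by
          rw [commutator_def, commutator_def, map_commutator]
          exact commutator_mono le_top le_top
        exact h1 ⟨y, hperf.ge (mem_top y), rfl⟩
      · refine Cfsg.Lib.Classical.eq_top_of_transvection_mem _ fun a b hab c => ?_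
        set t := Matrix.SpecialLinearGroup.transvection hab c
        have htp : t ^ p = 1 := by
          have hk : ∀ k : ℕ, t ^ k = Matrix.SpecialLinearGroup.transvection hab ((k : ZMod p) * c) := by
            intro k
            induction k with
            | zero =>
              apply Subtype.ext
              simp [Matrix.SpecialLinearGroup.transvection_coe]
            | succ k ihk =>
              rw [pow_succ, ihk, Nat.cast_succ, add_mul, one_mul,
                Matrix.SpecialLinearGroup.transvection_add]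
          rw [hk, ZMod.natCast_self, zero_mul]
          apply Subtype.ext
          simp [Matrix.SpecialLinearGroup.transvection_coe]
        have h1 : (QuotientGroup.mk t : _ ⧸ M) ^ p = 1 := by
          rw [← QuotientGroup.mk_pow, htp]
          rfl
        have h2 : (QuotientGroup.mk t : _ ⧸ M) ^ (H i.castSucc).relIndex (H i.succ) = 1 := by
          rw [← QuotientGroup.mk_pow]
          exact (QuotientGroup.eq_one_iff _).mpr (hpow t)
        refine (QuotientGroup.eq_one_iff _).mp (orderOf_eq_one_iff.mp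
          (Nat.eq_one_of_dvd_coprimes hc (orderOf_dvd_of_pow_eq_one h2) (orderOf_dvd_of_pow_eq_one h1)))
  have h := key 0
  rw [h0, bot_subgroupOf, Subgroup.map_bot] at h
  haveI : Nontrivial (Matrix.SpecialLinearGroup (Fin 2) (ZMod p)) :=
    ⟨⟨Matrix.SpecialLinearGroup.transvection (show (0 : Fin 2) ≠ 1 by decide) 1, 1, fun e =>
      one_ne_zero (α := ZMod p) (by simpa [Matrix.SpecialLinearGroup.transvection_coe] using congrArg (fun z : Matrix.SpecialLinearGroup (Fin 2) (ZMod p) => z.1 0 1) e)⟩⟩
  exact absurd h bot_ne_top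

end Cfsg.Lib.ActionStable
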