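import Mathlib
import Cfsg.Agent.Transfer.Basic
import Cfsg.Agent.S0182
import Cfsg.Agent.S4018

/-!
Cyclic Sylow `p`-subgroup with all `p'`-subgroups abelian: `p`-nilpotent or `P` normal.
-/

set_option autoImplicit false
set_option linter.unusedSectionVars false
set_option linter.style.haveILetI false

namespace Cfsg.Lib.PLocal.AbelianPPrime

open Subgroup Cfsg.Lib.Transfer

universe u

variable {G : Type u} [Group G] [Finite G] {p : ℕ} [hp : Fact p.Prime]

theorem mem_sylow_of_normalizes (P : Sylow p G) {x : G} (hx : x ∈ normalizer ((P : Subgroup G) : Set G))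
    {k : ℕ} (hk : orderOf x = p ^ k) : x ∈ (P : Subgroup G) := by
  have h : IsPGroup p (zpowers x) := IsPGroup.of_card (n := k) (by rw [Nat.card_zpowers, hk])
  have : x ∈ zpowers x ⊓ normalizer ((P : Subgroup G) : Set G) := ⟨mem_zpowers x, hx⟩
  exact ((h.inf_normalizer_sylow P).le this).2

theorem coprime_orderOf {H : Subgroup G} (hH : ¬ p ∣ Nat.card H) {x : G} (hx : x ∈ H) :
    (orderOf x).Coprime p :=
  (Nat.Coprime.coprime_dvd_left (H.orderOf_dvd_natCard hx)
    (hp.out.coprime_iff_not_dvd.2 hH).symm)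

theorem not_dvd_card_of_coprime (H : Subgroup G) (h : ∀ x ∈ H, (orderOf x).Coprime p) :
    ¬ p ∣ Nat.card H := by
  intro hd
  obtain ⟨x, hx⟩ := exists_prime_orderOf_dvd_card' p hd
  have := h x x.2
  rw [Subgroup.orderOf_coe, hx, Nat.coprime_self] at this
  exact hp.out.ne_one this

theorem eq_one_of_coprime_of_mem (P : Sylow p G) {x : G} (hx : x ∈ (P : Subgroup G))
    (hc : (orderOf x).Coprime p) : x = 1 := by
  obtain ⟨k, hk⟩ := IsPGroup.iff_orderOf.1 P.2 ⟨x, hx⟩
  rw [Subgroup.orderOf_mk] at hk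
  rw [hk] at hc
  rcases Nat.eq_zero_or_pos k with rfl | h0
  · exact orderOf_eq_one_iff.1 (by simpa using hk)
  · rw [Nat.coprime_pow_left_iff h0, Nat.coprime_self] at hc
    exact absurd hc hp.out.ne_one

theorem exists_orderOf_of_mem (P : Sylow p G) {x : G} (hx : x ∈ (P : Subgroup G)) :
    ∃ k, orderOf x = p ^ k := by
  obtain ⟨k, hk⟩ := IsPGroup.iff_orderOf.1 P.2 ⟨x, hx⟩
  exact ⟨k, by rwa [Subgroup.orderOf_mk] at hk⟩

/-- The elements of order dividing `p` in a cyclic subgroup are powers of each nontrivial one. -/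
theorem mem_zpowers_of_pow_eq_one {P : Subgroup G} (hcyc : IsCyclic P) {u v : G} (hu : u ∈ P)
    (hv : v ∈ P) (hu1 : u ≠ 1) (hup : u ^ p = 1) (hvp : v ^ p = 1) : v ∈ zpowers u := by
  classical
  haveI := hcyc
  letI := Fintype.ofFinite P
  have ho : orderOf (⟨u, hu⟩ : P) = p := by
    rw [Subgroup.orderOf_mk]; exact orderOf_eq_prime hup hu1
  let S : Finset P := (Finset.range p).image fun i => (⟨u, hu⟩ : P) ^ i
  have hS : S.card = p := by
    rw [Finset.card_image_of_injOn, Finset.card_range]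
    intro i hi j hj hij
    simp only [Finset.coe_range, Set.mem_Iio] at hi hj
    exact pow_injOn_Iio_orderOf (by simpa [ho] using hi) (by simpa [ho] using hj) hij
  have hsub : S ⊆ Finset.univ.filter fun a : P => a ^ p = 1 := by
    intro x hx
    obtain ⟨i, -, rfl⟩ := Finset.mem_image.1 hx
    refine Finset.mem_filter.2 ⟨Finset.mem_univ _, ?_⟩
    rw [← pow_mul, mul_comm, pow_mul, show (⟨u, hu⟩ : P) ^ p = 1 from Subtype.ext (by simpa using hup),
      one_pow]
  have he := Finset.eq_of_subset_of_card_le hsub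
    (hS.symm ▸ IsCyclic.card_pow_eq_one_le hp.out.pos)
  have hvS : (⟨v, hv⟩ : P) ∈ S := by
    rw [he]; exact Finset.mem_filter.2 ⟨Finset.mem_univ _, Subtype.ext (by simpa using hvp)⟩
  obtain ⟨i, -, hi⟩ := Finset.mem_image.1 hvS
  exact ⟨(i : ℤ), by simpa using congrArg Subtype.val hi⟩

/-- A `p'`-element normalising a cyclic `p`-group and centralising a nontrivial element of it
centralises all of it. -/
theorem centralizes_of_fixes (P : Sylow p G) (hcyc : IsCyclic P) {a : G}
    (ha : a ∈ normalizer ((P : Subgroup G) : Set G)) (hac : (orderOf a).Coprime p)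
    {u : G} (hu : u ∈ (P : Subgroup G)) (hu1 : u ≠ 1) (hau : a * u = u * a) :
    ∀ w ∈ (P : Subgroup G), a * w = w * a := by
  obtain ⟨k, hk⟩ := exists_orderOf_of_mem P hu
  have hk0 : k ≠ 0 := fun h => hu1 (orderOf_eq_one_iff.1 (by rw [hk, h, pow_zero]))
  set u0 := u ^ p ^ (k - 1) with hu0
  have hu0P : u0 ∈ (P : Subgroup G) := pow_mem hu _
  have ho : orderOf u0 = p := by
    rw [hu0, orderOf_pow_of_dvd (pow_ne_zero _ hp.out.ne_zero) (hk ▸ pow_dvd_pow p (by omega)), hk,
      Nat.pow_div (by omega) hp.out.pos, show k - (k - 1) = 1 by omega, pow_one]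
  have hu01 : u0 ≠ 1 := fun h => hp.out.ne_one (by rw [← ho, h, orderOf_one])
  have hfix : ∀ v ∈ (P : Subgroup G), v ^ p = 1 → Commute a v := by
    intro v hv hvp
    obtain ⟨i, rfl⟩ : ∃ i : ℤ, u0 ^ i = v := mem_zpowers_of_pow_eq_one hcyc hu0P hv hu01
      (by rw [← ho, pow_orderOf_eq_one]) hvp
    exact ((show Commute a u from hau).pow_right _).zpow_right i
  suffices h : ∀ j : ℕ, ∀ w ∈ (P : Subgroup G), w ^ p ^ j = 1 → Commute a w by
    intro w hw
    obtain ⟨j, hj⟩ := exists_orderOf_of_mem P hw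
    exact h j w hw (by rw [← hj, pow_orderOf_eq_one])
  intro j
  induction j with
  | zero => intro w _ hw; rw [pow_zero, pow_one] at hw; rw [hw]; exact Commute.one_right a
  | succ j ih =>
    intro w hw hwj
    haveI := hcyc
    letI := IsCyclic.commGroup (α := (P : Subgroup G))
    have haw : a * w * a⁻¹ ∈ (P : Subgroup G) := (mem_set_normalizer_iff.1 ha w).1 hw
    set d := w⁻¹ * (a * w * a⁻¹) with hd
    have hdP : d ∈ (P : Subgroup G) := mul_mem (inv_mem hw) haw
    have hwp : Commute a (w ^ p) := ih _ (pow_mem hw p) (by rw [← pow_mul, ← pow_succ']; exact hwj)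
    have hcomm : Commute w⁻¹ (a * w * a⁻¹) :=
      congrArg Subtype.val (mul_comm (⟨w⁻¹, inv_mem hw⟩ : (P : Subgroup G)) ⟨_, haw⟩)
    have hdp : d ^ p = 1 := by
      rw [hd, hcomm.mul_pow, conj_pow, hwp.eq, mul_inv_cancel_right, inv_pow, inv_mul_cancel]
    have had : Commute a d := hfix d hdP hdp
    have hit : ∀ i : ℕ, a ^ i * w * (a ^ i)⁻¹ = w * d ^ i := by
      intro i
      induction i with
      | zero => simp
      | succ i hi =>
        calc a ^ (i + 1) * w * (a ^ (i + 1))⁻¹
            = a * (a ^ i * w * (a ^ i)⁻¹) * a⁻¹ := by rw [pow_succ']; group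
          _ = a * w * a⁻¹ * (a * d ^ i * a⁻¹) := by rw [hi]; group
          _ = w * d * d ^ i := by rw [(had.pow_right i).eq, mul_inv_cancel_right, hd]; group
          _ = w * d ^ (i + 1) := by rw [mul_assoc, ← pow_succ']
    have hda : d ^ orderOf a = 1 := by
      have := hit (orderOf a)
      rw [pow_orderOf_eq_one, inv_one, one_mul, mul_one] at this
      exact mul_eq_left.1 this.symm
    have hd1 : d = 1 := orderOf_eq_one_iff.1
      (Nat.eq_one_of_dvd_coprimes hac (orderOf_dvd_of_pow_eq_one hda) (orderOf_dvd_of_pow_eq_one hdp))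
    rw [hd, inv_mul_eq_one] at hd1
    show a * w = w * a
    calc a * w = a * w * a⁻¹ * a := by group
      _ = w * a := by rw [← hd1]

/-- the standing hypotheses -/
structure Hyp (G : Type u) [Group G] (p : ℕ) (P : Sylow p G) : Prop where
  cyc : IsCyclic P
  ab : ∀ H : Subgroup G, ¬ p ∣ Nat.card H → IsMulCommutative H

theorem Hyp.sub {P : Sylow p G} (h : Hyp G p P) (H : Subgroup G) (R : Sylow p H) : Hyp H p R := by
  refine ⟨?_, fun K hK => ?_⟩
  · obtain ⟨Q, hQ⟩ := (R.2.map H.subtype).exists_le_sylow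
    haveI : IsCyclic P := h.cyc
    haveI : IsCyclic Q := (P.equiv Q).isCyclic.1 h.cyc
    exact isCyclic_of_injective ((inclusion hQ).comp
      ((R : Subgroup H).equivMapOfInjective H.subtype H.subtype_injective).toMonoidHom)
      ((inclusion_injective hQ).comp (MulEquiv.injective _))
  · have := h.ab (K.map H.subtype) (by rwa [card_map_of_injective H.subtype_injective])
    refine ⟨⟨fun a b => Subtype.ext (Subtype.ext ?_)⟩⟩
    simpa using congrArg Subtype.val (this.is_comm.comm ⟨_, mem_map_of_mem H.subtype a.2⟩ ⟨_, mem_map_of_mem H.subtype b.2⟩)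

variable {P : Sylow p G}

theorem Hyp.commute (h : Hyp G p P) {H : Subgroup G} (hH : ¬ p ∣ Nat.card H) {x y : G}
    (hx : x ∈ H) (hy : y ∈ H) : x * y = y * x :=
  congrArg Subtype.val ((h.ab H hH).is_comm.comm ⟨x, hx⟩ ⟨y, hy⟩)

/-- A `p'`-subgroup and a `p'`-element normalising it commute. -/
theorem Hyp.commute_norm (h : Hyp G p P) {K : Subgroup G} (hK : ¬ p ∣ Nat.card K) {a : G}
    (hac : (orderOf a).Coprime p) (ha : a ∈ normalizer (K : Set G)) :
    ∀ y ∈ K, a * y = y * a := by
  intro y hy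
  have hle : zpowers a ≤ normalizer (K : Set G) := zpowers_le.2 ha
  set L := normalizer (K : Set G)
  haveI : (K.subgroupOf L).Normal := normal_in_normalizer
  have hsup : ¬ p ∣ Nat.card ↥(K ⊔ zpowers a) := by
    refine not_dvd_card_of_coprime _ fun x hx => ?_
    have hx' : x ∈ ((K ⊔ zpowers a : Subgroup G) : Set G) := hx
    rw [coe_mul_of_right_le_normalizer_left K _ hle] at hx'
    obtain ⟨k, hk, z, hz, rfl⟩ := hx'
    have hpow : ∀ n : ℕ, ∃ k' ∈ K, (k * z) ^ n = k' * z ^ n := by
      intro n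
      induction n with
      | zero => exact ⟨1, one_mem _, by simp⟩
      | succ n ih =>
        obtain ⟨k', hk', hn⟩ := ih
        refine ⟨k' * (z ^ n * k * (z ^ n)⁻¹), mul_mem hk' ((mem_set_normalizer_iff.1
          (hle (pow_mem hz n)) k).1 hk), ?_⟩
        rw [pow_succ, hn, pow_succ]; group
    obtain ⟨k', hk', hn⟩ := hpow (orderOf a)
    have hz1 : z ^ orderOf a = 1 := by
      obtain ⟨i, rfl⟩ := hz
      rw [← zpow_natCast, ← zpow_mul, mul_comm, zpow_mul, zpow_natCast, pow_orderOf_eq_one, one_zpow]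
    rw [hz1, mul_one] at hn
    have h2 : (k * z) ^ (orderOf a * Nat.card K) = 1 := by
      rw [pow_mul, hn, ← orderOf_dvd_iff_pow_eq_one]
      exact K.orderOf_dvd_natCard hk'
    exact Nat.Coprime.coprime_dvd_left (orderOf_dvd_of_pow_eq_one h2)
      (Nat.Coprime.mul_left hac (hp.out.coprime_iff_not_dvd.2 hK).symm)
  exact h.commute hsup (mem_sup_right (mem_zpowers a)) (mem_sup_left hy)

/-- `a` is a `p'`-element of `N(P)` acting nontrivially. -/
structure Acts (P : Sylow p G) (a : G) : Prop where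
  norm : a ∈ normalizer ((P : Subgroup G) : Set G)
  cop : (orderOf a).Coprime p
  nc : ∀ u ∈ (P : Subgroup G), a * u = u * a → u = 1

theorem exists_acts (h : Hyp G p P) (hnc : ¬ Cfsg.HasNormalPComplement p G) :
    ∃ a : G, Acts P a := by
  haveI := h.cyc
  letI := IsCyclic.commGroup (α := (P : Subgroup G))
  by_contra hcon
  refine hnc ?_
  have hle : normalizer ((P : Subgroup G) : Set G) ≤ centralizer ((P : Subgroup G) : Set G) := by
    intro g hg
    obtain ⟨u, b, hu, hb, hub, ⟨k, hk⟩, hbc⟩ := exists_pPart p g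
    have huP : u ∈ (P : Subgroup G) := mem_sylow_of_normalizes P (zpowers_le.2 hg hu) hk
    refine mem_centralizer_iff.2 fun w hw => ?_
    have h1 : u * w = w * u := congrArg Subtype.val (mul_comm (⟨u, huP⟩ : (P : Subgroup G)) ⟨w, hw⟩)
    have h2 : b * w = w * b := by
      by_contra hbw
      refine hcon ⟨b, zpowers_le.2 hg hb, hbc, fun v hv hbv => ?_⟩
      by_contra hv1
      exact hbw (centralizes_of_fixes P h.cyc (zpowers_le.2 hg hb) hbc hv hv1 hbv w hw)
    rw [← hub, mul_assoc, h2, ← mul_assoc, ← h1, ← mul_assoc]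
  exact hasNormalPComplement_of_isComplement'
    (MonoidHom.ker_transferSylow_isComplement' P hle)

theorem Acts.surj (h : Hyp G p P) {a : G} (ha : Acts P a) {v : G} (hv : v ∈ (P : Subgroup G)) :
    ∃ w ∈ (P : Subgroup G), a * w * a⁻¹ * w⁻¹ = v := by
  haveI := h.cyc
  letI := IsCyclic.commGroup (α := (P : Subgroup G))
  have hm : ∀ w : (P : Subgroup G), a * (w : G) * a⁻¹ * (w : G)⁻¹ ∈ (P : Subgroup G) := fun w =>
    mul_mem ((mem_set_normalizer_iff.1 ha.norm _).1 w.2) (inv_mem w.2)
  let f : ↥(P : Subgroup G) → ↥(P : Subgroup G) := fun w => ⟨_, hm w⟩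
  have hinj : Function.Injective f := by
    intro w w' hww
    have h1 : a * w * a⁻¹ * (w : G)⁻¹ = a * w' * a⁻¹ * (w' : G)⁻¹ := congrArg Subtype.val hww
    have h2 : (w : G)⁻¹ * w' = (w' : G) * (w : G)⁻¹ :=
      congrArg Subtype.val (mul_comm (w⁻¹ : (P : Subgroup G)) w')
    refine Subtype.ext (inv_mul_eq_one.1 (ha.nc _ (mul_mem (inv_mem w.2) w'.2) ?_))
    calc a * ((w : G)⁻¹ * w') = (a * w * a⁻¹)⁻¹ * (a * w' * a⁻¹ * (w' : G)⁻¹) * w' * a := by group
      _ = (a * w * a⁻¹)⁻¹ * (a * w * a⁻¹ * (w : G)⁻¹) * w' * a := by rw [h1]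
      _ = (w : G)⁻¹ * w' * a := by group
  obtain ⟨w, hw⟩ := (Finite.injective_iff_surjective.1 hinj) ⟨v, hv⟩
  exact ⟨w, w.2, congrArg Subtype.val hw⟩

/-- A `p'`-subgroup normalised by `P` and `a` is centralised by `P`. -/
theorem Acts.centralizes (h : Hyp G p P) {a : G} (ha : Acts P a) {K : Subgroup G}
    (hK : ¬ p ∣ Nat.card K) (haK : a ∈ normalizer (K : Set G))
    (hPK : (P : Subgroup G) ≤ normalizer (K : Set G)) :
    ∀ v ∈ (P : Subgroup G), ∀ y ∈ K, v * y = y * v := by
  intro v hv y hy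
  obtain ⟨w, hw, rfl⟩ := ha.surj h hv
  have hc := h.commute_norm hK ha.cop haK
  set y' := w⁻¹ * y * w with hy'
  have hy'K : y' ∈ K := (mem_set_normalizer_iff''.1 (hPK hw) y).1 hy
  have e1 : a⁻¹ * y = y * a⁻¹ := ((show Commute a y from hc y hy).inv_left).eq
  calc a * w * a⁻¹ * w⁻¹ * y = a * w * a⁻¹ * y' * w⁻¹ := by rw [hy']; group
    _ = a * w * (a⁻¹ * y') * w⁻¹ := by group
    _ = a * w * (y' * a⁻¹) * w⁻¹ := by rw [((show Commute a y' from hc y' hy'K).inv_left).eq]
    _ = a * y * w * a⁻¹ * w⁻¹ := by rw [hy']; group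
    _ = y * (a * w * a⁻¹ * w⁻¹) := by rw [hc y hy]; group

/-- A proper subgroup containing `P` and normalised by `a` normalises `P`, once it is
`p`-nilpotent or has a normal Sylow subgroup. -/
theorem Acts.le_normalizer_of (h : Hyp G p P) {a : G} (ha : Acts P a) {H : Subgroup G}
    (hPH : (P : Subgroup G) ≤ H) (haH : a ∈ normalizer (H : Set G))
    (hH : ∀ R : Sylow p H, Cfsg.HasNormalPComplement p H ∨ (R : Subgroup H).Normal) :
    H ≤ normalizer ((P : Subgroup G) : Set G) := by
  set R : Sylow p H := P.subtype hPH with hR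
  rcases hH R with hN | hN
  · obtain ⟨K, hK, hKR⟩ := exists_complement_of_hasNormalPComplement hN R
    obtain ⟨hKc, k, hKi⟩ := complement_props hKR
    have hmem : ∀ x : G, x ∈ K.map H.subtype ↔ x ∈ H ∧ (orderOf x).Coprime p := by
      intro x
      constructor
      · rintro ⟨y, hy, rfl⟩
        exact ⟨y.2, by
          rw [orderOf_injective H.subtype H.subtype_injective]
          exact (mem_iff_coprime_orderOf hKc hKi y).1 hy⟩
      · rintro ⟨hx, hxc⟩
        exact ⟨⟨x, hx⟩, (mem_iff_coprime_orderOf hKc hKi _).2 (by rwa [Subgroup.orderOf_mk]), rfl⟩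
    have hcard : ¬ p ∣ Nat.card (K.map H.subtype) := by
      rw [card_map_of_injective H.subtype_injective]
      exact fun hd => hp.out.ne_one (Nat.eq_one_of_dvd_coprimes hKc hd dvd_rfl)
    have hnorm : ∀ g : G, g ∈ normalizer (H : Set G) → g ∈ normalizer (K.map H.subtype : Set G) := by
      intro g hg
      refine mem_set_normalizer_iff.2 fun x => ?_
      simp only [SetLike.mem_coe, hmem]
      rw [← MulAut.conj_apply, MulEquiv.orderOf_eq, MulAut.conj_apply]
      exact and_congr_left' (mem_set_normalizer_iff.1 hg x)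
    have hc := ha.centralizes h hcard (hnorm a haH)
      (fun v hv => hnorm v (le_normalizer (hPH hv)))
    intro x hx
    have hx' : (⟨x, hx⟩ : H) ∈ K ⊔ (R : Subgroup H) := by rw [hKR.sup_eq_top]; trivial
    obtain ⟨y, hy, v, hv, hyv⟩ := Subgroup.mem_sup_of_normal_left.1 hx'
    have hxe : x = (y : G) * v := (congrArg Subtype.val hyv).symm
    have hvP : (v : G) ∈ (P : Subgroup G) := hv
    rw [hxe]
    refine mul_mem ?_ (le_normalizer hvP)
    refine mem_set_normalizer_iff.2 fun z => ?_
    have hy' : (y : G) ∈ K.map H.subtype := mem_map_of_mem H.subtype hy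
    constructor
    · intro hz
      rwa [show (y : G) * z * (y : G)⁻¹ = z by rw [← hc z hz _ hy', mul_inv_cancel_right]]
    · intro hz
      have e := hc _ hz _ hy'
      have : (y : G) * z * (y : G)⁻¹ = z := by
        calc (y : G) * z * (y : G)⁻¹ = (y : G)⁻¹ * ((y : G) * ((y : G) * z * (y : G)⁻¹)) := by group
          _ = (y : G)⁻¹ * (((y : G) * z * (y : G)⁻¹) * y) := by rw [e]
          _ = z := by group
      rwa [this] at hz
  · intro x hx
    refine mem_set_normalizer_iff.2 fun z => ?_
    have key : ∀ g ∈ H, ∀ w ∈ (P : Subgroup G), g * w * g⁻¹ ∈ (P : Subgroup G) := fun g hg w hw =>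
      hN.conj_mem ⟨w, hPH hw⟩ hw ⟨g, hg⟩
    refine ⟨key x hx z, fun hz => ?_⟩
    have := key x⁻¹ (inv_mem hx) _ hz
    rwa [show x⁻¹ * (x * z * x⁻¹) * x⁻¹⁻¹ = z by group] at this

theorem subgroup_complement_eq_bot (h0 : ∀ K : Subgroup G, K.Normal → ¬ p ∣ Nat.card K → K = ⊥)
    (M : Subgroup G) [M.Normal] (hM : Cfsg.HasNormalPComplement p M) : IsPGroup p M := by
  obtain ⟨K, hK, hKc, k, hKi⟩ := hasNormalPComplement_iff.1 hM
  have hchar : K.Characteristic := characteristic_iff_map_le.2 fun φ x hx => by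
    obtain ⟨y, hy, rfl⟩ := hx
    refine (mem_iff_coprime_orderOf hKc hKi _).2 ?_
    rw [show φ.toMonoidHom y = φ y from rfl, MulEquiv.orderOf_eq]
    exact (mem_iff_coprime_orderOf hKc hKi _).1 hy
  haveI : (K.map M.subtype).Normal := ConjAct.normal_of_characteristic_of_normal
  have hb := h0 (K.map M.subtype) inferInstance (by
    rw [card_map_of_injective M.subtype_injective]
    exact fun hd => hp.out.ne_one (Nat.eq_one_of_dvd_coprimes hKc hd dvd_rfl))
  have hK0 : K = ⊥ := map_injective M.subtype_injective (hb.trans (Subgroup.map_bot _).symm)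
  refine IsPGroup.of_card (n := k) ?_
  rw [← hKi, hK0, index_bot]

/-- The normal subgroup carries the conclusion to `G`. -/
theorem normal_of_normal_sylow (M : Subgroup G) [M.Normal] (R : Sylow p M)
    (hR : (R : Subgroup M).Normal) : ((R : Subgroup M).map M.subtype).Normal := by
  haveI := R.characteristic_of_normal hR
  exact ConjAct.normal_of_characteristic_of_normal

/-- Reduction to a simple group. -/
theorem reduce {n : ℕ} (ih : ∀ m, m < n → ∀ (X : Type u) [Group X] [Finite X] (R : Sylow p X),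
      Nat.card X = m → Hyp X p R → Cfsg.HasNormalPComplement p X ∨ (R : Subgroup X).Normal)
    (hn : Nat.card G = n) (h : Hyp G p P) (hnc : ¬ Cfsg.HasNormalPComplement p G)
    (hnn : ¬ (P : Subgroup G).Normal) :
    IsSimpleGroup G ∧ p ≠ 2 ∧
      ∀ H : Subgroup G, H ≠ ⊤ → ∀ R : Sylow p H,
        Cfsg.HasNormalPComplement p H ∨ (R : Subgroup H).Normal := by
  have hsub : ∀ H : Subgroup G, H ≠ ⊤ → ∀ R : Sylow p H,
      Cfsg.HasNormalPComplement p H ∨ (R : Subgroup H).Normal := fun H hH R =>
    ih _ (hn ▸ lt_of_le_of_ne H.card_le_card_group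
      (fun e => hH (eq_top_of_card_eq H e))) H R rfl (h.sub H R)
  obtain ⟨a, ha⟩ := exists_acts h hnc
  haveI hPc := h.cyc
  have hP1 : (P : Subgroup G) ≠ ⊥ := fun e => hnn (e ▸ inferInstance)
  -- no normal `p'`-subgroup
  have h0 : ∀ K : Subgroup G, K.Normal → ¬ p ∣ Nat.card K → K = ⊥ := by
    intro K hK hKp
    by_contra hK1
    haveI := hK
    set π := QuotientGroup.mk' K with hπ
    have hs : Function.Surjective π := QuotientGroup.mk'_surjective K
    have hlt : Nat.card (G ⧸ K) < n := by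
      rw [← hn, Subgroup.card_eq_card_quotient_mul_card_subgroup K]
      exact lt_mul_of_one_lt_right Nat.card_pos ((one_lt_card_iff_ne_bot _).2 hK1)
    have hyp : Hyp (G ⧸ K) p (P.mapSurjective hs) := by
      refine ⟨isCyclic_of_surjective ((π.subgroupMap (P : Subgroup G)))
        (π.subgroupMap_surjective _), fun H hH => ?_⟩
      have hc : ¬ p ∣ Nat.card (H.comap π) := by
        intro hd
        have e : Nat.card (H.comap π) = Nat.card K * Nat.card H :=
          QuotientGroup.card_preimage_mk K (H : Set (G ⧸ K))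
        rw [e] at hd
        rcases hp.out.dvd_mul.1 hd with d | d
        · exact hKp d
        · exact hH d
      refine ⟨⟨fun x y => Subtype.ext ?_⟩⟩
      obtain ⟨x', hx'⟩ := hs x
      obtain ⟨y', hy'⟩ := hs y
      have := congrArg π (h.commute hc (x := x') (y := y') (mem_comap.2 (hx' ▸ x.2))
        (mem_comap.2 (hy' ▸ y.2)))
      rw [map_mul, map_mul, hx', hy'] at this
      exact this
    have hcent := ha.centralizes h hKp (by rw [normalizer_eq_top_iff.2 hK]; trivial)
      (by rw [normalizer_eq_top_iff.2 hK]; exact le_top)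
    rcases ih _ hlt (G ⧸ K) _ rfl hyp with hN | hN
    · refine hnc (hasNormalPComplement_iff.2 ?_)
      obtain ⟨N, hN', hNc, k, hNi⟩ := hasNormalPComplement_iff.1 hN
      refine ⟨N.comap π, inferInstance, ?_, k, ?_⟩
      · have e : Nat.card (N.comap π) = Nat.card K * Nat.card N :=
          QuotientGroup.card_preimage_mk K (N : Set (G ⧸ K))
        rw [e]
        exact Nat.Coprime.mul_left ((hp.out.coprime_iff_not_dvd.2 hKp).symm) hNc
      · rw [index_comap_of_surjective _ hs, hNi]
    · set M := ((P.mapSurjective hs : Sylow p (G ⧸ K)) : Subgroup (G ⧸ K)).comap π with hM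
      haveI : M.Normal := hN.comap π
      have hPM : (P : Subgroup G) ≤ M := fun v hv => mem_comap.2 (mem_map_of_mem π hv)
      have hMN : M ≤ normalizer ((P : Subgroup G) : Set G) := by
        intro x hx
        obtain ⟨v, hv, hvx⟩ := hx
        obtain ⟨k, hk, rfl⟩ : ∃ k ∈ K, x = v * k :=
          ⟨v⁻¹ * x, (QuotientGroup.eq).1 hvx, by group⟩
        refine mul_mem (le_normalizer hv) (mem_set_normalizer_iff.2 fun z => ?_)
        constructor
        · intro hz
          rwa [show k * z * k⁻¹ = z by rw [← hcent z hz k hk, mul_inv_cancel_right]]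
        · intro hz
          have e := hcent _ hz k hk
          have : k * z * k⁻¹ = z := by
            calc k * z * k⁻¹ = k⁻¹ * (k * (k * z * k⁻¹)) := by group
              _ = k⁻¹ * ((k * z * k⁻¹) * k) := by rw [e]
              _ = z := by group
          rwa [this] at hz
      refine hnn (normalizer_eq_top_iff.1 (top_unique ?_))
      rw [← Sylow.normalizer_sup_eq_top' P hPM]
      exact sup_le le_rfl hMN
  -- no normal `p`-subgroup
  have hpn : ∀ R : Subgroup G, R.Normal → IsPGroup p R → R = ⊥ := by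
    intro R hR hRp
    by_contra hR1
    haveI := hR
    obtain ⟨Q, hQ⟩ := hRp.exists_le_sylow
    obtain ⟨g, rfl⟩ := MulAction.exists_smul_eq G P Q
    have hRP : R ≤ P := by
      intro x hx
      have h1 : g * x * g⁻¹ ∈ R := hR.conj_mem x hx g
      have := hQ h1
      rw [sylow_smul_coe] at this
      obtain ⟨y, hy, hyx⟩ := this
      have : y = x := by simpa using hyx
      exact this ▸ hy
    obtain ⟨u, huR, hu1⟩ := (R.bot_or_exists_ne_one).resolve_left hR1
    set C := centralizer (R : Set G) with hC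
    have hPC : (P : Subgroup G) ≤ C := fun v hv => mem_centralizer_iff.2 fun w hw => by
      letI := IsCyclic.commGroup (α := (P : Subgroup G))
      exact congrArg Subtype.val (mul_comm (⟨w, hRP hw⟩ : (P : Subgroup G)) ⟨v, hv⟩)
    have hCtop : C ≠ ⊤ := fun e => hu1 (ha.nc u (hRP huR)
      (mem_centralizer_iff.1 (e ▸ mem_top a : a ∈ C) u huR).symm)
    haveI : C.Normal := inferInstance
    set T : Sylow p C := P.subtype hPC
    rcases hsub C hCtop T with hN | hN
    · have hCP : C ≤ P := le_of_eq (P.3 (subgroup_complement_eq_bot h0 C hN) hPC)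
      exact hnn (le_antisymm hCP hPC ▸ inferInstance)
    · have := normal_of_normal_sylow C T hN
      rw [show (T : Subgroup C).map C.subtype = (P : Subgroup G) by
        rw [Sylow.coe_subtype, subgroupOf_map_subtype, inf_eq_left.2 hPC]] at this
      exact hnn this
  refine ⟨?_, ?_, hsub⟩
  · haveI : Nontrivial G := by
      obtain ⟨u, -, hu1⟩ := ((P : Subgroup G).bot_or_exists_ne_one).resolve_left hP1
      exact ⟨⟨u, 1, hu1⟩⟩
    refine ⟨fun M hM => ?_⟩
    by_contra hcon
    push Not at hcon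
    haveI := hM
    obtain ⟨R⟩ : Nonempty (Sylow p M) := inferInstance
    rcases hsub M hcon.2 R with hN | hN
    · exact hcon.1 (hpn M hM (subgroup_complement_eq_bot h0 M hN))
    · have hb := hpn _ (normal_of_normal_sylow M R hN) (R.2.map _)
      have hR0 : (R : Subgroup M) = ⊥ := map_injective M.subtype_injective
        (hb.trans (Subgroup.map_bot _).symm)
      refine hcon.1 (h0 M hM fun hd => ?_)
      obtain ⟨x, hx⟩ := exists_prime_orderOf_dvd_card' p hd
      have h2 : p ∣ Nat.card (R : Subgroup M) := by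
        simpa using R.pow_dvd_card_of_pow_dvd_card (n := 1) (by simpa using hd)
      rw [hR0, card_bot, Nat.dvd_one] at h2
      exact hp.out.ne_one h2
  · intro hp2
    refine hnc (hasNormalPComplement_of_isComplement'
      (MonoidHom.ker_transferSylow_isComplement' P (h.cyc.normalizer_le_centralizer ?_)))
    have h2 : 2 ∣ Nat.card G := hp2 ▸ dvd_trans (by
      obtain ⟨k, hk⟩ := IsPGroup.iff_card.1 P.2
      rw [hk]
      exact dvd_pow_self p fun e => hP1 (card_eq_one.1 (by rw [hk, e, pow_zero])))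
      (P : Subgroup G).card_subgroup_dvd_card
    rw [hp2]
    exact (Nat.minFac_eq_two_iff _).2 h2

end Cfsg.Lib.PLocal.AbelianPPrime
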