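import Mathlib
import Cfsg.Agent.PLocal.AbelianPPrime

/-!
The simple case of: cyclic Sylow `p`-subgroup and abelian `p'`-subgroups.
-/

set_option autoImplicit false
set_option linter.unusedSectionVars false
set_option linter.style.haveILetI false

namespace Cfsg.Lib.PLocal.AbelianPPrime

open Subgroup Cfsg.Lib.Transfer

universe u

variable {G : Type u} [Group G] [Finite G] {p : ℕ} [hp : Fact p.Prime] {P : Sylow p G}

theorem mem_normalizer_of_conj {H : Subgroup G} {g : G} (h : ∀ x ∈ H, g * x * g⁻¹ ∈ H) :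
    g ∈ normalizer (H : Set G) := by
  have e : H.map (MulAut.conj g).toMonoidHom = H := by
    refine Subgroup.eq_of_le_of_card_ge ?_ (le_of_eq ?_)
    · rintro _ ⟨x, hx, rfl⟩
      exact h x hx
    · rw [card_map_of_injective (MulEquiv.injective _)]
  refine mem_set_normalizer_iff.2 fun x => ⟨h x, fun hx => ?_⟩
  rw [SetLike.mem_coe, ← e] at hx
  obtain ⟨y, hy, hyx⟩ := hx
  have : y = x := by simpa using hyx
  exact this ▸ hy

/-- The situation left by the reduction. -/
structure Simp (P : Sylow p G) (a : G) : Prop where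
  hyp : Hyp G p P
  acts : Acts P a
  simple : IsSimpleGroup G
  p2 : p ≠ 2
  sub : ∀ H : Subgroup G, H ≠ ⊤ → ∀ R : Sylow p H,
    Cfsg.HasNormalPComplement p H ∨ (R : Subgroup H).Normal
  nn : ¬ (P : Subgroup G).Normal

variable {a : G}

theorem Simp.ne_bot (s : Simp P a) : (P : Subgroup G) ≠ ⊥ := fun e => s.nn (e ▸ inferInstance)

theorem Simp.not_comm (s : Simp P a) : ∃ x y : G, x * y ≠ y * x := by
  obtain ⟨u, hu, hu1⟩ := ((P : Subgroup G).bot_or_exists_ne_one).resolve_left s.ne_bot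
  exact ⟨a, u, fun h => hu1 (s.acts.nc u hu h)⟩

theorem Simp.center_bot (s : Simp P a) : center G = ⊥ := by
  haveI := s.simple
  rcases IsSimpleGroup.eq_bot_or_eq_top_of_normal (center G) inferInstance with h | h
  · exact h
  · obtain ⟨x, y, hxy⟩ := s.not_comm
    exact absurd (mem_center_iff.1 (h ▸ mem_top y) x) hxy

theorem Simp.cent_ne_top (s : Simp P a) {z : G} (hz : z ≠ 1) :
    centralizer ({z} : Set G) ≠ ⊤ := fun htop => hz <| mem_bot.1 <| s.center_bot ▸
  mem_center_iff.2 fun y => mem_centralizer_singleton_iff.1 (htop ▸ mem_top y)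

theorem Simp.comm (s : Simp P a) {v w : G} (hv : v ∈ (P : Subgroup G))
    (hw : w ∈ (P : Subgroup G)) : v * w = w * v := by
  haveI := s.hyp.cyc
  letI := IsCyclic.commGroup (α := (P : Subgroup G))
  exact congrArg Subtype.val (mul_comm (⟨v, hv⟩ : (P : Subgroup G)) ⟨w, hw⟩)

theorem Simp.le_cent (s : Simp P a) :
    (P : Subgroup G) ≤ centralizer ((P : Subgroup G) : Set G) := fun _ hv =>
  mem_centralizer_iff.2 fun _ hw => s.comm hw hv

/-- An element of order `p` of `P`. -/
theorem Simp.exists_u0 (s : Simp P a) : ∃ u ∈ (P : Subgroup G), orderOf u = p := by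
  obtain ⟨k, hk⟩ := IsPGroup.iff_card.1 P.2
  have hk0 : k ≠ 0 := fun h => s.ne_bot (card_eq_one.1 (by rw [hk, h, pow_zero]))
  obtain ⟨u, hu⟩ := exists_prime_orderOf_dvd_card' (G := (P : Subgroup G)) p (hk ▸ dvd_pow_self p hk0)
  exact ⟨u, u.2, by rwa [Subgroup.orderOf_coe]⟩

/-- `C(u) = C(P)` for nontrivial `u` in `P`. -/
theorem Simp.cen_eq (s : Simp P a) {u g : G} (hu : u ∈ (P : Subgroup G)) (hu1 : u ≠ 1)
    (hg : g * u = u * g) : g ∈ centralizer ((P : Subgroup G) : Set G) := by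
  obtain ⟨k, hk⟩ := exists_orderOf_of_mem P hu
  have hk0 : k ≠ 0 := fun h => hu1 (orderOf_eq_one_iff.1 (by rw [hk, h, pow_zero]))
  set u0 := u ^ p ^ (k - 1) with hu0
  have hu0P : u0 ∈ (P : Subgroup G) := pow_mem hu _
  have hu01 : u0 ≠ 1 := by
    intro e
    have := orderOf_dvd_of_pow_eq_one e
    rw [hk, Nat.pow_dvd_pow_iff_le_right hp.out.one_lt] at this
    omega
  have hu0p : u0 ^ p = 1 := by
    rw [hu0, ← pow_mul, ← pow_succ, show k - 1 + 1 = k by omega, ← hk, pow_orderOf_eq_one]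
  set H := centralizer ({u0} : Set G) with hH
  have hmemH : ∀ x, x ∈ H ↔ Commute x u0 := fun x => mem_centralizer_singleton_iff
  have hconj : ∀ b ∈ normalizer ((P : Subgroup G) : Set G), ∀ x ∈ H, b * x * b⁻¹ ∈ H := by
    intro b hb x hx
    obtain ⟨i, hi⟩ : ∃ i : ℤ, (b * u0 * b⁻¹) ^ i = u0 := mem_zpowers_of_pow_eq_one s.hyp.cyc
      ((mem_set_normalizer_iff.1 hb _).1 hu0P) hu0P
      (fun e => hu01 (conj_eq_one_iff.1 e)) (by rw [conj_pow, hu0p, mul_one, mul_inv_cancel]) hu0p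
    rw [hmemH]
    conv => arg 2; rw [← hi]
    exact (Commute.conj_iff b).2 ((hmemH x).1 hx) |>.zpow_right i
  have haH : a ∈ normalizer (H : Set G) := mem_normalizer_of_conj (hconj a s.acts.norm)
  have hPH : (P : Subgroup G) ≤ H := fun v hv => (hmemH v).2 (s.comm hv hu0P)
  have hle := s.acts.le_normalizer_of s.hyp hPH haH (s.sub H (s.cent_ne_top hu01))
  have hgu : Commute g u0 := (show Commute g u from hg).pow_right _
  have hgN := hle ((hmemH g).2 hgu)
  obtain ⟨v, b, hv, hb, hvb, ⟨j, hj⟩, hbc⟩ := exists_pPart p g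
  have hvP : v ∈ (P : Subgroup G) := mem_sylow_of_normalizes P (zpowers_le.2 hgN hv) hj
  have hbu : b * u0 = u0 * b := by
    obtain ⟨i, rfl⟩ := hb
    exact (hgu.zpow_left i).eq
  have hbP := centralizes_of_fixes P s.hyp.cyc (zpowers_le.2 hgN hb) hbc hu0P hu01 hbu
  rw [← hvb]
  exact mul_mem (s.le_cent hvP) (mem_centralizer_iff.2 fun w hw => (hbP w hw).symm)

/-- The `p`-elements of `N(P)` lie in `P`; a conjugation moving a nontrivial element of `P`
into `P` normalises `P`. -/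
theorem Simp.ti (s : Simp P a) {u g : G} (hu : u ∈ (P : Subgroup G)) (hu1 : u ≠ 1)
    (hgu : g * u * g⁻¹ ∈ (P : Subgroup G)) : g ∈ normalizer ((P : Subgroup G) : Set G) := by
  refine mem_normalizer_of_conj fun v hv => ?_
  have hc : g * v * g⁻¹ ∈ centralizer ((P : Subgroup G) : Set G) :=
    s.cen_eq hgu (fun e => hu1 (conj_eq_one_iff.1 e))
      ((Commute.conj_iff g).2 (s.comm hv hu)).eq
  obtain ⟨k, hk⟩ := exists_orderOf_of_mem P hv
  exact mem_sylow_of_normalizes P (centralizer_le_normalizer _ hc)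
    (k := k) (by rw [← MulAut.conj_apply, MulEquiv.orderOf_eq, hk])

/-- The `p'`-elements centralising `P`. -/
theorem Simp.exists_Y (s : Simp P a) : ∃ Y : Subgroup G, ¬ p ∣ Nat.card Y ∧
    (∀ y, y ∈ Y ↔ y ∈ centralizer ((P : Subgroup G) : Set G) ∧ (orderOf y).Coprime p) := by
  set C := centralizer ((P : Subgroup G) : Set G)
  set R : Sylow p C := P.subtype s.le_cent
  have hle : normalizer ((R : Subgroup C) : Set C) ≤ centralizer ((R : Subgroup C) : Set C) :=
    fun x _ => mem_centralizer_iff.2 fun w hw => Subtype.ext (mem_centralizer_iff.1 x.2 w.1 hw)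
  have hc := MonoidHom.ker_transferSylow_isComplement' R hle
  obtain ⟨hKc, k, hKi⟩ := complement_props hc
  set K := (MonoidHom.transferSylow R hle).ker
  refine ⟨K.map C.subtype, ?_, fun y => ?_⟩
  · rw [card_map_of_injective C.subtype_injective]
    exact fun hd => hp.out.ne_one (Nat.eq_one_of_dvd_coprimes hKc hd dvd_rfl)
  · constructor
    · rintro ⟨x, hx, rfl⟩
      exact ⟨x.2, by
        rw [orderOf_injective C.subtype C.subtype_injective]
        exact (mem_iff_coprime_orderOf hKc hKi x).1 hx⟩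
    · rintro ⟨hy, hyc⟩
      exact ⟨⟨y, hy⟩, (mem_iff_coprime_orderOf hKc hKi _).2 (by rwa [Subgroup.orderOf_mk]), rfl⟩

theorem Simp.cent_comm (s : Simp P a) {x y : G}
    (hx : x ∈ centralizer ((P : Subgroup G) : Set G))
    (hy : y ∈ centralizer ((P : Subgroup G) : Set G)) : Commute x y := by
  obtain ⟨Y, hY, hmY⟩ := s.exists_Y
  have key : ∀ z ∈ centralizer ((P : Subgroup G) : Set G), ∃ v ∈ (P : Subgroup G), ∃ b ∈ Y,
      v * b = z := by
    intro z hz
    obtain ⟨v, b, hv, hb, hvb, ⟨j, hj⟩, hbc⟩ := exists_pPart p z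
    exact ⟨v, mem_sylow_of_normalizes P (centralizer_le_normalizer _ (zpowers_le.2 hz hv)) hj,
      b, (hmY b).2 ⟨zpowers_le.2 hz hb, hbc⟩, hvb⟩
  obtain ⟨v, hv, b, hb, rfl⟩ := key x hx
  obtain ⟨w, hw, c, hc, rfl⟩ := key y hy
  have h1 : Commute v w := s.comm hv hw
  have h2 : Commute v c := mem_centralizer_iff.1 ((hmY c).1 hc).1 v hv
  have h3 : Commute b w := (mem_centralizer_iff.1 ((hmY b).1 hb).1 w hw).symm
  have h4 : Commute b c := s.hyp.commute hY hb hc
  exact (h1.mul_right h2).mul_left (h3.mul_right h4)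

/-- A nontrivial `p'`-element centralising `P` has centraliser `N(P)`. -/
theorem Simp.cent_Y (s : Simp P a) {y : G} (hy : y ∈ centralizer ((P : Subgroup G) : Set G))
    (hyc : (orderOf y).Coprime p) (hy1 : y ≠ 1) :
    centralizer ({y} : Set G) = normalizer ((P : Subgroup G) : Set G) := by
  obtain ⟨Y, hY, hmY⟩ := s.exists_Y
  have hyY : y ∈ Y := (hmY y).2 ⟨hy, hyc⟩
  have hge : normalizer ((P : Subgroup G) : Set G) ≤ centralizer ({y} : Set G) := by
    intro g hg
    rw [mem_centralizer_singleton_iff]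
    obtain ⟨v, b, hv, hb, hvb, ⟨j, hj⟩, hbc⟩ := exists_pPart p g
    have hvP : v ∈ (P : Subgroup G) := mem_sylow_of_normalizes P (zpowers_le.2 hg hv) hj
    have hbN := zpowers_le.2 hg hb
    have hbY : b ∈ normalizer (Y : Set G) := by
      refine mem_normalizer_of_conj fun z hz => (hmY _).2 ⟨mem_centralizer_iff.2 fun w hw => ?_, ?_⟩
      · have hw' : b⁻¹ * w * b ∈ (P : Subgroup G) := (mem_set_normalizer_iff''.1 hbN w).1 hw
        have := mem_centralizer_iff.1 ((hmY z).1 hz).1 _ hw'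
        calc w * (b * z * b⁻¹) = b * (b⁻¹ * w * b * z) * b⁻¹ := by group
          _ = b * (z * (b⁻¹ * w * b)) * b⁻¹ := by rw [this]
          _ = b * z * b⁻¹ * w := by group
      · rw [← MulAut.conj_apply, MulEquiv.orderOf_eq]; exact ((hmY z).1 hz).2
    have h1 : Commute v y := mem_centralizer_iff.1 hy v hvP
    have h2 : Commute b y := s.hyp.commute_norm hY hbc hbY y hyY
    rw [← hvb]; exact h1.mul_left h2
  refine le_antisymm ?_ hge
  exact s.acts.le_normalizer_of s.hyp (le_normalizer.trans hge) (le_normalizer (hge s.acts.norm))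
    (s.sub _ (s.cent_ne_top hy1))

/-- A conjugation moving a nontrivial `p'`-element of `C(P)` into `C(P)` normalises `P`. -/
theorem Simp.ti_Y (s : Simp P a) {y g : G} (hy : y ∈ centralizer ((P : Subgroup G) : Set G))
    (hyc : (orderOf y).Coprime p) (hy1 : y ≠ 1)
    (hgy : g * y * g⁻¹ ∈ centralizer ((P : Subgroup G) : Set G)) :
    g ∈ normalizer ((P : Subgroup G) : Set G) := by
  refine mem_normalizer_of_conj fun v hv => ?_
  obtain ⟨k, hk⟩ := exists_orderOf_of_mem P hv
  refine mem_sylow_of_normalizes P ?_ (k := k) (by rw [← MulAut.conj_apply, MulEquiv.orderOf_eq, hk])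
  rw [← s.cent_Y hgy (by rwa [← MulAut.conj_apply, MulEquiv.orderOf_eq])
    (fun e => hy1 (conj_eq_one_iff.1 e)), mem_centralizer_singleton_iff]
  exact ((Commute.conj_iff g).2 (mem_centralizer_iff.1 hy v hv)).eq

theorem exists_conj_mem (P : Sylow p G) {v : G} (hv : ∃ k, orderOf v = p ^ k) :
    ∃ g : G, g * v * g⁻¹ ∈ (P : Subgroup G) := by
  obtain ⟨k, hk⟩ := hv
  obtain ⟨Q, hQ⟩ := (IsPGroup.of_card (G := zpowers v) (p := p) (n := k)
    (by rw [Nat.card_zpowers, hk])).exists_le_sylow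
  obtain ⟨g, rfl⟩ := MulAction.exists_smul_eq G P Q
  refine ⟨g⁻¹, ?_⟩
  have := hQ (mem_zpowers v)
  rw [sylow_smul_coe] at this
  obtain ⟨w, hw, rfl⟩ := this
  rwa [show g⁻¹ * (MulAut.conj g).toMonoidHom w * g⁻¹⁻¹ = w by simp [mul_assoc]]

/-- A nontrivial `p'`-element commuting with a nontrivial `p`-element is conjugate into `C(P)`. -/
theorem Simp.conj_Y (s : Simp P a) {x v : G} (hv1 : v ≠ 1) (hv : ∃ k, orderOf v = p ^ k)
    (hxv : x * v = v * x) : ∃ g : G, g * x * g⁻¹ ∈ centralizer ((P : Subgroup G) : Set G) := by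
  obtain ⟨g, hg⟩ := exists_conj_mem P hv
  exact ⟨g, s.cen_eq hg (fun e => hv1 (conj_eq_one_iff.1 e)) ((Commute.conj_iff g).2 hxv).eq⟩

theorem exists_p_elem_cent {x : G} (hd : p ∣ Nat.card (centralizer ({x} : Set G))) :
    ∃ v : G, v ≠ 1 ∧ orderOf v = p ∧ x * v = v * x := by
  obtain ⟨v, hv⟩ := exists_prime_orderOf_dvd_card' p hd
  rw [← Subgroup.orderOf_coe] at hv
  exact ⟨v, fun e => hp.out.ne_one (by rw [← hv, e, orderOf_one]), hv,
    (mem_centralizer_singleton_iff.1 v.2).symm⟩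

/-- A Sylow subgroup for another prime is moved by some `p`-element normalising it. -/
theorem Simp.exists_mover (s : Simp P a) {q : ℕ} [hq : Fact q.Prime] (hqp : q ≠ p)
    (S : Sylow q G) (hS : (S : Subgroup G) ≠ ⊥) :
    ¬ p ∣ Nat.card S ∧
    ∃ x : G, (∃ k, orderOf x = p ^ k) ∧ x ∈ normalizer ((S : Subgroup G) : Set G) ∧
      ¬ ∀ m ∈ (S : Subgroup G), x * m = m * x := by
  have hSp : ¬ p ∣ Nat.card S := by
    obtain ⟨k, hk⟩ := IsPGroup.iff_card.1 S.2
    rw [hk]
    intro hd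
    exact hqp ((Nat.prime_dvd_prime_iff_eq hp.out hq.out).1 (hp.out.dvd_of_dvd_pow hd)).symm
  refine ⟨hSp, ?_⟩
  haveI := s.simple
  by_contra hcon
  push Not at hcon
  have hle : normalizer ((S : Subgroup G) : Set G) ≤ centralizer ((S : Subgroup G) : Set G) := by
    intro g hg
    obtain ⟨v, b, hv, hb, hvb, hvk, hbc⟩ := exists_pPart p g
    refine mem_centralizer_iff.2 fun m hm => ?_
    have h1 : Commute v m := hcon v hvk (zpowers_le.2 hg hv) m hm
    have h2 : Commute b m := s.hyp.commute_norm hSp hbc (zpowers_le.2 hg hb) m hm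
    rw [← hvb]
    exact (h1.mul_left h2).eq.symm
  have hc := MonoidHom.ker_transferSylow_isComplement' S hle
  rcases IsSimpleGroup.eq_bot_or_eq_top_of_normal (MonoidHom.transferSylow S hle).ker
    inferInstance with h | h
  · have htop : (S : Subgroup G) = ⊤ := by rw [← hc.sup_eq_top, h, bot_sup_eq]
    obtain ⟨x, y, hxy⟩ := s.not_comm
    exact hxy (s.hyp.commute hSp (htop ▸ mem_top x) (htop ▸ mem_top y))
  · refine hS ?_
    have := hc.disjoint
    rwa [h, top_disjoint] at this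

/-- Elements of prime order `q` in `C(P)`: then `p = 3`, `q = 2`, with full local information. -/
theorem Simp.data_Y (s : Simp P a) {q : ℕ} [hq : Fact q.Prime] (hqp : q ≠ p) {y : G}
    (hy : y ∈ centralizer ((P : Subgroup G) : Set G)) (hyq : orderOf y = q) :
    q = 2 ∧ p = 3 ∧
    ∃ S : Sylow q G, y ∈ (S : Subgroup G) ∧ Nat.card S = 4 ∧ (∀ m ∈ (S : Subgroup G), m ^ 2 = 1) ∧
      (S : Subgroup G) ≤ normalizer ((P : Subgroup G) : Set G) ∧
      (∀ m ∈ (S : Subgroup G), m ≠ 1 → IsConj y m ∧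
        (m ∈ centralizer ((P : Subgroup G) : Set G) → m = y)) ∧
      ((normalizer ((P : Subgroup G) : Set G)) ⊓ centralizer ((P : Subgroup G) : Set G)).relIndex
        (normalizer ((P : Subgroup G) : Set G)) = 2 := by
  classical
  set N := normalizer ((P : Subgroup G) : Set G) with hN
  set CP := centralizer ((P : Subgroup G) : Set G) with hCP
  have hy1 : y ≠ 1 := fun e => hq.out.ne_one (by rw [← hyq, e, orderOf_one])
  have hyc : (orderOf y).Coprime p := by rw [hyq]; exact (Nat.coprime_primes hq.out hp.out).2 hqp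
  obtain ⟨S, hS⟩ := (IsPGroup.of_card (G := zpowers y) (p := q) (n := 1)
    (by rw [Nat.card_zpowers, hyq, pow_one])).exists_le_sylow
  have hyS : y ∈ (S : Subgroup G) := hS (mem_zpowers y)
  obtain ⟨hSp, x, ⟨k, hxk⟩, hxS, hxnc⟩ :=
    s.exists_mover hqp S (fun e => hy1 (mem_bot.1 (e ▸ hyS)))
  have hSab : ∀ m ∈ (S : Subgroup G), ∀ m' ∈ (S : Subgroup G), m * m' = m' * m :=
    fun m hm m' hm' => s.hyp.commute hSp hm hm'
  have hSN : (S : Subgroup G) ≤ N := by
    rw [hN, ← s.cent_Y hy hyc hy1]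
    exact fun m hm => mem_centralizer_singleton_iff.2 (hSab m hm y hyS)
  have hSc : ∀ m ∈ (S : Subgroup G), (orderOf m).Coprime p := fun m hm => coprime_orderOf hSp hm
  have hxi : ∀ i : ℕ, x ^ i ∈ N → p ∣ i := by
    intro i hi
    by_contra hpi
    have hor : ∃ j, orderOf (x ^ i) = p ^ j := ⟨k, by
      rw [Nat.Coprime.orderOf_pow (by rw [hxk]; exact Nat.Coprime.pow_left k ((hp.out.coprime_iff_not_dvd).2 hpi)), hxk]⟩
    obtain ⟨j, hj⟩ := hor
    have hiP : x ^ i ∈ (P : Subgroup G) := mem_sylow_of_normalizes P hi hj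
    have hcom : ∀ m ∈ (S : Subgroup G), Commute (x ^ i) m := by
      intro m hm
      have h1 : x ^ i * m * (x ^ i)⁻¹ * m⁻¹ ∈ (S : Subgroup G) :=
        mul_mem ((mem_set_normalizer_iff.1 (pow_mem hxS i) m).1 hm) (inv_mem hm)
      have h2 : x ^ i * m * (x ^ i)⁻¹ * m⁻¹ ∈ (P : Subgroup G) := by
        rw [mul_assoc, mul_assoc, ← mul_assoc m]
        exact mul_mem hiP ((mem_set_normalizer_iff.1 (hSN hm) _).1 (inv_mem hiP))
      exact commutatorElement_eq_one_iff_commute.1
        (eq_one_of_coprime_of_mem P h2 (hSc _ h1))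
    obtain ⟨l, hl⟩ : x ∈ zpowers (x ^ i) := by
      have he : zpowers (x ^ i) = zpowers x := by
        refine Subgroup.eq_of_le_of_card_ge (zpowers_le.2 (pow_mem (mem_zpowers x) i)) (le_of_eq ?_)
        rw [Nat.card_zpowers, Nat.card_zpowers, Nat.Coprime.orderOf_pow (by
          rw [hxk]; exact Nat.Coprime.pow_left k ((hp.out.coprime_iff_not_dvd).2 hpi))]
      rw [he]; exact mem_zpowers x
    refine hxnc fun m hm => ?_
    have := (hcom m hm).zpow_left l
    change Commute ((x ^ i) ^ l) m at this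
    rw [show (x ^ i) ^ l = x from hl] at this
    exact this
  have hxN : x ∉ N := fun h => hp.out.ne_one (Nat.dvd_one.1 (hxi 1 (by rwa [pow_one])))
  -- the action on the subgroup of order `p`
  obtain ⟨u, hu, huo⟩ := s.exists_u0
  have hu1 : u ≠ 1 := fun e => hp.out.ne_one (by rw [← huo, e, orderOf_one])
  set Z := zpowers u with hZ
  have hNZ : N ≤ normalizer (Z : Set G) := fun g hg => mem_normalizer_of_conj fun w hw => by
    obtain ⟨i, rfl⟩ := hw
    refine mem_zpowers_of_pow_eq_one s.hyp.cyc hu ((mem_set_normalizer_iff.1 hg _).1 (zpow_mem hu i))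
      hu1 (huo ▸ pow_orderOf_eq_one u) ?_
    have e : (u ^ i) ^ p = 1 := by
      rw [← zpow_natCast, ← zpow_mul, mul_comm i, zpow_mul, zpow_natCast, ← huo,
        pow_orderOf_eq_one, one_zpow]
    rw [conj_pow, e, mul_one, mul_inv_cancel]
  set φ : N →* MulAut Z := Z.normalizerMonoidHom.comp (inclusion hNZ) with hφ
  have hker : ∀ m : N, φ m = 1 ↔ (m : G) ∈ CP := by
    intro m
    rw [hφ, MonoidHom.comp_apply, ← MonoidHom.mem_ker, normalizerMonoidHom_ker, mem_subgroupOf,
      mem_centralizer_iff]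
    constructor
    · intro h; exact s.cen_eq hu hu1 (h u (mem_zpowers u)).symm
    · rintro h w ⟨i, rfl⟩; exact mem_centralizer_iff.1 h _ (zpow_mem hu i)
  haveI : IsCyclic Z := isCyclic_zpowers u
  have hZc : Nat.card Z = p := by rw [hZ, Nat.card_zpowers, huo]
  haveI : NeZero (Nat.card Z) := ⟨Nat.card_pos.ne'⟩
  haveI : IsCyclic (MulAut Z) := by
    haveI : IsCyclic (ZMod (Nat.card Z))ˣ := by rw [hZc]; infer_instance
    exact isCyclic_of_surjective (IsCyclic.mulAutMulEquiv Z).symm.toMonoidHom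
      (MulEquiv.surjective _)
  have hAut : Nat.card (MulAut Z) = p - 1 := by
    rw [IsCyclic.card_mulAut, hZc, Nat.totient_prime hp.out]
  -- `V`, the elements of exponent `q` of `S`
  let V : Subgroup G :=
    { carrier := {m | m ∈ (S : Subgroup G) ∧ m ^ q = 1}
      one_mem' := ⟨one_mem _, one_pow q⟩
      mul_mem' := fun {m m'} hm hm' => ⟨mul_mem hm.1 hm'.1, by
        rw [(show Commute m m' from hSab m hm.1 m' hm'.1).mul_pow, hm.2, hm'.2, one_mul]⟩
      inv_mem' := fun {m} hm => ⟨inv_mem hm.1, by rw [inv_pow, hm.2, inv_one]⟩ }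
  have hVN : V ≤ N := fun m hm => hSN hm.1
  set f : V →* MulAut Z := φ.comp (inclusion hVN) with hf
  have hfker : ∀ m : V, m ∈ f.ker ↔ (m : G) ∈ CP := fun m => hker (inclusion hVN m)
  have hyV : y ∈ V := ⟨hyS, by rw [← hyq, pow_orderOf_eq_one]⟩
  have hxV : ∀ i : ℕ, ∀ m ∈ V, x ^ i * m * (x ^ i)⁻¹ ∈ V := fun i m hm =>
    ⟨(mem_set_normalizer_iff.1 (pow_mem hxS i) m).1 hm.1, by rw [conj_pow, hm.2, mul_one, mul_inv_cancel]⟩
  -- `f` is injective on the translate of its kernel
  have hrange : Nat.card f.range ∣ q := by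
    obtain ⟨⟨g, m, hm⟩, hgen⟩ := IsCyclic.exists_generator (α := f.range)
    rw [← orderOf_eq_card_of_forall_mem_zpowers hgen, ← Subgroup.orderOf_coe]
    show orderOf g ∣ q
    refine orderOf_dvd_of_pow_eq_one ?_
    rw [← hm, ← map_pow, show m ^ q = 1 from Subtype.ext m.2.2, map_one]
  have hkr : Nat.card f.ker * Nat.card f.range = Nat.card V := by
    rw [Subgroup.card_eq_card_quotient_mul_card_subgroup f.ker,
      Nat.card_congr (QuotientGroup.quotientKerEquivRange f).toEquiv, mul_comm]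
  have hkle : Nat.card f.ker ≤ Nat.card f.range := by
    refine Nat.card_le_card_of_injective
      (fun w : f.ker => (⟨f ⟨_, hxV 1 _ w.1.2⟩, ⟨_, rfl⟩⟩ : f.range)) ?_
    intro w w' hww
    have h1 : f ⟨_, hxV 1 _ w.1.2⟩ = f ⟨_, hxV 1 _ w'.1.2⟩ := congrArg Subtype.val hww
    rw [← inv_mul_eq_one, ← map_inv, ← map_mul, ← MonoidHom.mem_ker, hfker] at h1
    by_contra hne
    have hd : ((w : V) : G)⁻¹ * w' ∈ CP := mul_mem (inv_mem ((hfker _).1 w.2)) ((hfker _).1 w'.2)
    refine hxN (s.ti_Y hd (hSc _ (mul_mem (inv_mem w.1.2.1) w'.1.2.1)) (fun e => hne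
      (Subtype.ext (Subtype.ext (inv_mul_eq_one.1 e)))) ?_)
    rw [show x * (((w : V) : G)⁻¹ * w') * x⁻¹ =
      (x ^ 1 * (w : V) * (x ^ 1)⁻¹)⁻¹ * (x ^ 1 * (w' : V) * (x ^ 1)⁻¹) by group]
    exact h1
  have hkge : q ≤ Nat.card f.ker := by
    refine le_trans (le_of_eq ?_) (Subgroup.card_le_of_le (H := zpowers (⟨y, hyV⟩ : V))
      (zpowers_le.2 ((hfker _).2 hy)))
    rw [Nat.card_zpowers, Subgroup.orderOf_mk, hyq]
  have hrq : Nat.card f.range = q := le_antisymm (Nat.le_of_dvd hq.out.pos hrange) (hkge.trans hkle)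
  have hkq : Nat.card f.ker = q := le_antisymm (hrq ▸ hkle) hkge
  have hVc : Nat.card V = q * q := by rw [← hkr, hkq, hrq]
  have hqd : q ∣ p - 1 := hrq ▸ hAut ▸ f.range.card_subgroup_dvd_card
  -- the orbit of the powers of `y`
  have hp1 : p ≤ q + 1 := by
    let g : Fin p × Fin (q - 1) → {m : V // m ≠ 1} := fun ij =>
      ⟨⟨_, hxV ij.1.1 _ (pow_mem hyV (ij.2.1 + 1))⟩, fun e => by
        have e' : x ^ ij.1.1 * y ^ (ij.2.1 + 1) * (x ^ ij.1.1)⁻¹ = 1 := congrArg Subtype.val e
        have h2 := orderOf_dvd_of_pow_eq_one (conj_eq_one_iff.1 e')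
        rw [hyq] at h2
        have := Nat.le_of_dvd (by omega) h2
        have := ij.2.2
        omega⟩
    have hinj : Function.Injective g := by
      have key : ∀ i i' : Fin p, ∀ j j' : Fin (q - 1), i.1 ≤ i'.1 →
          x ^ i.1 * y ^ (j.1 + 1) * (x ^ i.1)⁻¹ = x ^ i'.1 * y ^ (j'.1 + 1) * (x ^ i'.1)⁻¹ →
          i = i' ∧ j = j' := by
        intro i i' j j' hle he
        obtain ⟨d, hd⟩ := Nat.exists_eq_add_of_le hle
        have he' : x ^ d * y ^ (j'.1 + 1) * (x ^ d)⁻¹ = y ^ (j.1 + 1) := by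
          rw [hd, pow_add x, mul_inv_rev] at he
          have := congrArg (fun z => (x ^ i.1)⁻¹ * z * x ^ i.1) he
          calc x ^ d * y ^ (j'.1 + 1) * (x ^ d)⁻¹
              = (x ^ i.1)⁻¹ * (x ^ i.1 * x ^ d * y ^ (j'.1 + 1) * ((x ^ d)⁻¹ * (x ^ i.1)⁻¹)) * x ^ i.1 := by
                group
            _ = (x ^ i.1)⁻¹ * (x ^ i.1 * y ^ (j.1 + 1) * (x ^ i.1)⁻¹) * x ^ i.1 := this.symm
            _ = y ^ (j.1 + 1) := by group
        have hne : y ^ (j'.1 + 1) ≠ 1 := fun e => by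
          have := Nat.le_of_dvd (by omega) (hyq ▸ orderOf_dvd_of_pow_eq_one e)
          have := j'.2
          omega
        have hdN : x ^ d ∈ N := s.ti_Y (pow_mem hy _) (hSc _ (pow_mem hyS _)) hne
          (he' ▸ pow_mem hy _)
        have hd0 : d = 0 := by
          rcases Nat.eq_zero_or_pos d with h | h
          · exact h
          · have := Nat.le_of_dvd h (hxi d hdN)
            have := i'.2
            omega
        subst hd0
        refine ⟨Fin.ext (by omega), Fin.ext ?_⟩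
        rw [pow_zero, one_mul, inv_one, mul_one] at he'
        have := pow_injOn_Iio_orderOf (x := y)
          (show j'.1 + 1 ∈ Set.Iio (orderOf y) by rw [hyq, Set.mem_Iio]; have := j'.2; omega)
          (show j.1 + 1 ∈ Set.Iio (orderOf y) by rw [hyq, Set.mem_Iio]; have := j.2; omega) he'
        omega
      rintro ⟨i, j⟩ ⟨i', j'⟩ he
      have he' := congrArg (fun m => ((m : {m : V // m ≠ 1}).1 : G)) he
      simp only [g] at he'
      rcases le_total i.1 i'.1 with h | h
      · obtain ⟨h1, h2⟩ := key i i' j j' h he'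
        rw [h1, h2]
      · obtain ⟨h1, h2⟩ := key i' i j' j h he'.symm
        rw [h1, h2]
    have h1 := Nat.card_le_card_of_injective g hinj
    rw [Nat.card_prod, Nat.card_fin, Nat.card_fin] at h1
    have h2 : Nat.card {m : V // m ≠ 1} + 1 = q * q := by
      letI := Fintype.ofFinite V
      rw [Nat.card_eq_fintype_card, Fintype.card_subtype_compl, Fintype.card_subtype_eq,
        ← Nat.card_eq_fintype_card, hVc]
      have : 0 < q * q := Nat.mul_pos hq.out.pos hq.out.pos
      omega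
    by_contra hlt
    push Not at hlt
    have h3 : (q + 2) * (q - 1) ≤ p * (q - 1) := Nat.mul_le_mul_right _ hlt
    obtain ⟨r, hr⟩ : ∃ r, q = r + 2 := ⟨q - 2, by have := hq.out.two_le; omega⟩
    subst hr
    simp only [show r + 2 - 1 = r + 1 by omega] at h1 h3
    nlinarith
  have hpq : p = q + 1 := by
    have := Nat.le_of_dvd (by have := hp.out.two_le; omega) hqd
    omega
  have hq2 : q = 2 := by
    rcases hq.out.eq_two_or_odd' with h | ⟨i, hi⟩
    · exact h
    · rcases hp.out.eq_two_or_odd' with h | ⟨j, hj⟩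
      · exact absurd h s.p2
      · omega
  subst hq2
  have hp3 : p = 3 := hpq
  have hY1 : ∀ w ∈ CP, (orderOf w).Coprime p → x * w * x⁻¹ ∈ CP → w = 1 := fun w hw hwc hwx => by
    by_contra h1
    exact hxN (s.ti_Y hw hwc h1 hwx)
  have hφ2 : ∀ m : N, (m : G) ^ 2 ∈ CP := fun m => (hker (m ^ 2)).1 (by
    rw [map_pow, show 2 = Nat.card (MulAut Z) by rw [hAut, hp3]]
    exact pow_card_eq_one')
  have hSexp : ∀ m ∈ (S : Subgroup G), m ^ 2 = 1 := fun m hm =>
    hY1 _ (hφ2 ⟨m, hSN hm⟩) (hSc _ (pow_mem hm 2)) (by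
      rw [← conj_pow]
      exact hφ2 ⟨x * m * x⁻¹, hSN ((mem_set_normalizer_iff.1 hxS m).1 hm)⟩)
  have hVS : V = (S : Subgroup G) := le_antisymm (fun m hm => hm.1) (fun m hm => ⟨hm, hSexp m hm⟩)
  have hS4 : Nat.card S = 4 := by
    have := hVc
    rwa [hVS] at this
  -- fusion in `S`
  have hxy : ∀ i : ℕ, x ^ i * y * (x ^ i)⁻¹ ∈ CP → p ∣ i := fun i hi => hxi i (s.ti_Y hy hyc hy1 hi)
  have hconj : ∀ m ∈ (S : Subgroup G), m ≠ 1 → IsConj y m ∧ (m ∈ CP → m = y) := by
    intro m hm hm1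
    letI := Fintype.ofFinite (S : Subgroup G)
    let g : Fin p → {m : (S : Subgroup G) // m ≠ 1} := fun i =>
      ⟨⟨x ^ i.1 * y * (x ^ i.1)⁻¹, (mem_set_normalizer_iff.1 (pow_mem hxS _) y).1 hyS⟩,
        fun e => hy1 (conj_eq_one_iff.1 (congrArg Subtype.val e))⟩
    have hg : Function.Injective g := by
      have key : ∀ i i' : Fin p, i.1 ≤ i'.1 →
          x ^ i.1 * y * (x ^ i.1)⁻¹ = x ^ i'.1 * y * (x ^ i'.1)⁻¹ → i = i' := by
        intro i i' hle he
        obtain ⟨d, hd⟩ := Nat.exists_eq_add_of_le hle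
        have hdy : x ^ d * y * (x ^ d)⁻¹ = y := by
          rw [hd, pow_add] at he
          calc x ^ d * y * (x ^ d)⁻¹
              = (x ^ i.1)⁻¹ * (x ^ i.1 * x ^ d * y * (x ^ i.1 * x ^ d)⁻¹) * x ^ i.1 := by group
            _ = (x ^ i.1)⁻¹ * (x ^ i.1 * y * (x ^ i.1)⁻¹) * x ^ i.1 := by rw [he]
            _ = y := by group
        have := hxy d (hdy.symm ▸ hy)
        rcases Nat.eq_zero_or_pos d with h | h
        · exact Fin.ext (by omega)
        · have := Nat.le_of_dvd h this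
          have := i'.2
          omega
      intro i i' he
      have he' := congrArg (fun m => ((m : {m : (S : Subgroup G) // m ≠ 1}).1 : G)) he
      simp only [g] at he'
      rcases le_total i.1 i'.1 with h | h
      · exact key i i' h he'
      · exact (key i' i h he'.symm).symm
    have hb : Function.Bijective g := by
      refine (Fintype.bijective_iff_injective_and_card g).2 ⟨hg, ?_⟩
      rw [Fintype.card_fin, Fintype.card_subtype_compl, Fintype.card_subtype_eq,
        ← Nat.card_eq_fintype_card, hS4, hp3]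
    obtain ⟨i, hi⟩ := hb.2 ⟨⟨m, hm⟩, fun e => hm1 (congrArg Subtype.val e)⟩
    have hi' : x ^ i.1 * y * (x ^ i.1)⁻¹ = m :=
      congrArg (fun m => ((m : {m : (S : Subgroup G) // m ≠ 1}).1 : G)) hi
    refine ⟨isConj_iff.2 ⟨x ^ i.1, hi'⟩, fun hmC => ?_⟩
    have hd := hxy i.1 (hi'.symm ▸ hmC)
    rcases Nat.eq_zero_or_pos i.1 with h | h
    · rw [← hi', h, pow_zero, one_mul, inv_one, mul_one]
    · have := Nat.le_of_dvd h hd
      have := i.2
      omega
  have hr2 : Nat.card φ.range = 2 := by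
    refine le_antisymm ((Subgroup.card_le_card_group _).trans (by rw [hAut, hp3])) ?_
    by_contra hlt
    have h1 : φ.range = ⊥ := card_eq_one.1 (by have := Nat.card_pos (α := φ.range); omega)
    have h2 := (hker ⟨a, s.acts.norm⟩).1 (mem_bot.1 (h1 ▸ (⟨_, rfl⟩ : φ ⟨a, s.acts.norm⟩ ∈ φ.range)))
    exact hu1 (s.acts.nc u hu (mem_centralizer_iff.1 h2 u hu).symm)
  have hk2 : φ.ker = CP.subgroupOf N := by
    ext m; exact hker m
  refine ⟨rfl, hp3, S, hyS, hS4, hSexp, hSN, hconj, ?_⟩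
  rw [inf_eq_right.2 (centralizer_le_normalizer _), relIndex, ← hk2, index_ker]
  exact hr2

/-- In that case the local orders are `2|P|` and `4|P|`. -/
theorem Simp.orders (s : Simp P a) {y : G}
    (hy : y ∈ centralizer ((P : Subgroup G) : Set G)) (hy2 : orderOf y = 2) :
    p = 3 ∧ Nat.card (centralizer ((P : Subgroup G) : Set G)) = 2 * Nat.card P ∧
      Nat.card (normalizer ((P : Subgroup G) : Set G)) = 4 * Nat.card P := by
  classical
  haveI : Fact (Nat.Prime 2) := ⟨Nat.prime_two⟩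
  obtain ⟨-, hp3, S, hyS, hS4, hSexp, hSN, hconj, hidx⟩ := s.data_Y (fun e => s.p2 e.symm) hy hy2
  set N := normalizer ((P : Subgroup G) : Set G) with hN
  set CP := centralizer ((P : Subgroup G) : Set G) with hCP
  have hy1 : y ≠ 1 := fun e => by rw [e, orderOf_one] at hy2; omega
  obtain ⟨Y, hY, hmY⟩ := s.exists_Y
  have hY2 : IsPGroup 2 Y := by
    refine IsPGroup.iff_card.2 ⟨(Nat.card Y).primeFactorsList.length,
      Nat.eq_prime_pow_of_unique_prime_dvd Nat.card_pos.ne' fun {r} hr hrd => ?_⟩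
    haveI : Fact r.Prime := ⟨hr⟩
    obtain ⟨w, hw⟩ := exists_prime_orderOf_dvd_card' r hrd
    rw [← Subgroup.orderOf_coe] at hw
    exact (s.data_Y (fun e => hY (e ▸ hrd)) ((hmY w).1 w.2).1 hw).1
  have hYS : ∀ w ∈ Y, w = 1 ∨ w = y := by
    intro w hw
    obtain ⟨j, hj⟩ := IsPGroup.iff_orderOf.1 hY2 ⟨w, hw⟩
    rw [Subgroup.orderOf_mk] at hj
    by_cases hw1 : w = 1
    · exact Or.inl hw1
    have hwS : w ∈ (S : Subgroup G) := by
      refine mem_sylow_of_normalizes S (mem_normalizer_of_conj fun m hm => ?_) hj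
      have hc := s.cent_Y ((hmY w).1 hw).1 ((hmY w).1 hw).2 hw1
      have hmc : m * w = w * m := by
        rw [← mem_centralizer_singleton_iff, hc]; exact hSN hm
      rwa [← hmc, mul_inv_cancel_right]
    exact Or.inr ((hconj w hwS hw1).2 ((hmY w).1 hw).1)
  have hyY : y ∈ Y := (hmY y).2 ⟨hy, by
    rw [hy2]; exact (Nat.coprime_primes Nat.prime_two hp.out).2 (fun e => s.p2 e.symm)⟩
  have hYc : Nat.card Y = 2 := by
    refine (Nat.card_eq_two_iff).2 ⟨⟨1, one_mem _⟩, ⟨y, hyY⟩, fun e => hy1 (congrArg Subtype.val e).symm, ?_⟩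
    ext ⟨w, hw⟩
    simpa using hYS w hw
  have hPC := s.le_cent
  have hCc : Nat.card CP = 2 * Nat.card P := by
    set R : Sylow p CP := P.subtype hPC
    have hle : normalizer ((R : Subgroup CP) : Set CP) ≤ centralizer ((R : Subgroup CP) : Set CP) :=
      fun x _ => mem_centralizer_iff.2 fun w hw => Subtype.ext (mem_centralizer_iff.1 x.2 w.1 hw)
    have hc := MonoidHom.ker_transferSylow_isComplement' R hle
    obtain ⟨hKc, i, hKi⟩ := complement_props hc
    have e : (MonoidHom.transferSylow R hle).ker.map CP.subtype = Y := by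
      ext w
      rw [hmY]
      constructor
      · rintro ⟨z, hz, rfl⟩
        exact ⟨z.2, by
          rw [orderOf_injective CP.subtype CP.subtype_injective]
          exact (mem_iff_coprime_orderOf hKc hKi z).1 hz⟩
      · rintro ⟨hw, hwc⟩
        exact ⟨⟨w, hw⟩, (mem_iff_coprime_orderOf hKc hKi _).2 (by rwa [Subgroup.orderOf_mk]), rfl⟩
    rw [← hc.card_mul, ← card_map_of_injective CP.subtype_injective, e, hYc]
    congr 1
    exact Nat.card_congr (subgroupOfEquivOfLe hPC).toEquiv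
  refine ⟨hp3, hCc, ?_⟩
  rw [inf_eq_right.2 (centralizer_le_normalizer _)] at hidx
  have := (CP.subgroupOf N).card_mul_index
  rw [Nat.card_congr (subgroupOfEquivOfLe (centralizer_le_normalizer _)).toEquiv, hCc,
    ← relIndex, hidx] at this
  rw [← this]; ring

end Cfsg.Lib.PLocal.AbelianPPrime
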