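import Mathlib
import Cfsg.Agent.PLocal.AbelianPPrimeSimple
import Cfsg.Agent.InvolCalc.Dihedral

/-!
Cyclic Sylow `p`-subgroup and abelian `p'`-subgroups: the two cases and the conclusion.
-/

set_option autoImplicit false
set_option linter.unusedSectionVars false
set_option linter.style.haveILetI false

namespace Cfsg.Lib.PLocal.AbelianPPrime

open Subgroup Cfsg.Lib.Transfer Cfsg.Lib.InvolCalc

universe u

variable {G : Type u} [Group G] [Finite G] {p : ℕ} [hp : Fact p.Prime] {P : Sylow p G} {a : G}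

theorem Simp.two_dvd_of_Y (s : Simp P a) {y : G}
    (hy : y ∈ centralizer ((P : Subgroup G) : Set G)) (hyc : (orderOf y).Coprime p) (hy1 : y ≠ 1) :
    2 ∣ orderOf y := by
  set q := (orderOf y).minFac with hq
  have hne : orderOf y ≠ 1 := fun e => hy1 (orderOf_eq_one_iff.1 e)
  haveI : Fact q.Prime := ⟨Nat.minFac_prime hne⟩
  have ho : orderOf (y ^ (orderOf y / q)) = q :=
    orderOf_pow_orderOf_div (orderOf_pos y).ne' (Nat.minFac_dvd _)
  have hqp : q ≠ p := fun e => hp.out.ne_one
    (Nat.eq_one_of_dvd_coprimes hyc (e ▸ Nat.minFac_dvd _) dvd_rfl)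
  obtain ⟨h2, -⟩ := s.data_Y hqp (pow_mem hy _) ho
  exact h2 ▸ Nat.minFac_dvd _

/-- If some involution centralises `P`, Brauer's order formula gives a contradiction. -/
theorem Simp.false_of_inv_Y (s : Simp P a) {t : G}
    (ht : t ∈ centralizer ((P : Subgroup G) : Set G)) (ht2 : orderOf t = 2) : False := by
  haveI : Fact (Nat.Prime 2) := ⟨Nat.prime_two⟩
  obtain ⟨-, -, S, htS, hS4, hSexp, -, hconj, -⟩ := s.data_Y (fun e => s.p2 e.symm) ht ht2
  obtain ⟨hp3, hC, hN⟩ := s.orders ht ht2
  subst hp3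
  have htc : (orderOf t).Coprime 3 := by rw [ht2]; norm_num
  have ht1 : t ≠ 1 := ne_one_of_order_two ht2
  have hcent := s.cent_Y ht htc ht1
  refine Cfsg.Agent.S4018.result P ⟨⟨fun x y => Subtype.ext (s.comm x.2 y.2)⟩⟩ hN hC ?_ ?_ s.simple
  · -- trivial intersections
    intro g hg x hx hgx
    by_contra hx1
    refine hg ?_
    have hgN : g ∈ normalizer ((P : Subgroup G) : Set G) := by
      obtain ⟨v, b, hv, hb, hvb, hvk, hbc⟩ := exists_pPart 3 x
      have hvC := zpowers_le.2 hx hv
      have hbC := zpowers_le.2 hx hb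
      have hconjmem : ∀ z ∈ zpowers x, g * z * g⁻¹ ∈ centralizer ((P : Subgroup G) : Set G) := by
        rintro z ⟨i, rfl⟩
        show g * x ^ i * g⁻¹ ∈ _
        rw [← conj_zpow]
        exact zpow_mem hgx i
      by_cases hv1 : v = 1
      · have hxb : x = b := by rw [← hvb, hv1, one_mul]
        exact s.ti_Y hbC hbc (hxb ▸ hx1) (hconjmem b hb)
      · obtain ⟨k, hk⟩ := hvk
        exact s.ti (mem_sylow_of_normalizes P (centralizer_le_normalizer _ hvC) hk) hv1
          (mem_sylow_of_normalizes P (centralizer_le_normalizer _ (hconjmem v hv))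
            (k := k) (by rw [← MulAut.conj_apply, MulEquiv.orderOf_eq, hk]))
    refine mem_normalizer_of_conj fun z hz => mem_centralizer_iff.2 fun w hw => ?_
    have hw' : g⁻¹ * w * g ∈ (P : Subgroup G) := (mem_set_normalizer_iff''.1 hgN w).1 hw
    have := mem_centralizer_iff.1 hz _ hw'
    calc w * (g * z * g⁻¹) = g * (g⁻¹ * w * g * z) * g⁻¹ := by group
      _ = g * (z * (g⁻¹ * w * g)) * g⁻¹ := by rw [this]
      _ = g * z * g⁻¹ * w := by group
  · -- subgroups of even order
    intro H hH h2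
    obtain ⟨w, hw⟩ := exists_prime_orderOf_dvd_card' 2 h2
    rw [← Subgroup.orderOf_coe] at hw
    have hCw : Nat.card (centralizer ({(w : G)} : Set G)) = 4 * Nat.card P := by
      obtain ⟨T, hT⟩ := (IsPGroup.of_card (G := zpowers (w : G)) (p := 2) (n := 1)
        (by rw [Nat.card_zpowers, hw, pow_one])).exists_le_sylow
      obtain ⟨g, rfl⟩ := MulAction.exists_smul_eq G S T
      have hwT := hT (mem_zpowers (w : G))
      rw [sylow_smul_coe] at hwT
      obtain ⟨m, hm, hmw⟩ := hwT
      have hm1 : m ≠ 1 := fun e => ne_one_of_order_two hw (by rw [← hmw, e, map_one])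
      obtain ⟨c, hc⟩ := isConj_iff.1 (((hconj m hm hm1).1).trans (isConj_iff.2 ⟨g, by simpa using hmw⟩))
      rw [← hc, show c * t * c⁻¹ = (MulAut.conj c).toMonoidHom t from rfl, ← Set.image_singleton,
        ← hN, ← hcent]
      have e : centralizer ((MulAut.conj c).toMonoidHom '' ({t} : Set G)) =
          (centralizer ({t} : Set G)).map (MulAut.conj c).toMonoidHom := by
        ext z
        simp only [Set.image_singleton, mem_centralizer_singleton_iff, mem_map]
        constructor
        · intro hz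
          refine ⟨c⁻¹ * z * c, ?_, by simp [mul_assoc]⟩
          have hz' : z * (c * t * c⁻¹) = c * t * c⁻¹ * z := hz
          calc c⁻¹ * z * c * t = c⁻¹ * (z * (c * t * c⁻¹)) * c := by group
            _ = c⁻¹ * (c * t * c⁻¹ * z) * c := by rw [hz']
            _ = t * (c⁻¹ * z * c) := by group
        · rintro ⟨z', hz', rfl⟩
          show c * z' * c⁻¹ * (c * t * c⁻¹) = c * t * c⁻¹ * (c * z' * c⁻¹)
          exact ((Commute.conj_iff c).2 hz').eq
      rw [e, card_map_of_injective (MulEquiv.injective _)]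
    obtain ⟨R⟩ : Nonempty (Sylow 3 H) := inferInstance
    have habel : ∀ K : Subgroup G, ¬ 3 ∣ Nat.card K → (w : G) ∈ K → Nat.card K ∣ 4 * Nat.card P := by
      intro K hK hwK
      rw [← hCw]
      exact card_dvd_of_le fun z hz => mem_centralizer_singleton_iff.2 (s.hyp.commute hK hz hwK)
    rcases s.sub H hH R with hp' | hn
    · obtain ⟨K, hK, hKR⟩ := exists_complement_of_hasNormalPComplement hp' R
      obtain ⟨hKc, k, hKi⟩ := complement_props hKR
      have hwK : w ∈ K := (mem_iff_coprime_orderOf hKc hKi w).2 (by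
        rw [← Subgroup.orderOf_coe, hw]; norm_num)
      have hKp : ¬ 3 ∣ Nat.card (K.map H.subtype) := by
        rw [card_map_of_injective H.subtype_injective]
        exact fun hd => absurd (Nat.eq_one_of_dvd_coprimes hKc hd dvd_rfl) (by norm_num)
      have h1 := habel _ hKp (mem_map_of_mem H.subtype hwK)
      rw [card_map_of_injective H.subtype_injective] at h1
      have hR : Nat.card (R : Subgroup H) ∣ 4 * Nat.card P := by
        obtain ⟨Q, hQ⟩ := (R.2.map H.subtype).exists_le_sylow
        have := card_dvd_of_le hQ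
        rw [card_map_of_injective H.subtype_injective, ← Nat.card_congr (P.equiv Q).toEquiv] at this
        exact dvd_mul_of_dvd_right this 4
      rw [← hKR.card_mul]
      refine Nat.Coprime.mul_dvd_of_dvd_of_dvd ?_ h1 hR
      obtain ⟨j, hj⟩ := IsPGroup.iff_card.1 R.2
      rw [hj]
      exact Nat.Coprime.pow_right j hKc
    · by_cases hR : (R : Subgroup H) = ⊥
      · refine habel H (fun hd => ?_) w.2
        have h3 : 3 ∣ Nat.card (R : Subgroup H) := by
          simpa using R.pow_dvd_card_of_pow_dvd_card (n := 1) (by simpa using hd)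
        rw [hR, card_bot] at h3
        norm_num at h3
      · obtain ⟨⟨u, huH⟩, huR, hu1⟩ := ((R : Subgroup H).bot_or_exists_ne_one).resolve_left hR
        have hu1' : u ≠ 1 := fun e => hu1 (Subtype.ext e)
        obtain ⟨Q, hQ⟩ := (R.2.map H.subtype).exists_le_sylow
        obtain ⟨g, rfl⟩ := MulAction.exists_smul_eq G P Q
        have hsub : H ≤ (normalizer ((P : Subgroup G) : Set G)).map (MulAut.conj g).toMonoidHom := by
          intro z hz
          have h1 : z * u * z⁻¹ ∈ (R : Subgroup H).map H.subtype :=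
            ⟨⟨z, hz⟩ * ⟨u, huH⟩ * ⟨z, hz⟩⁻¹, hn.conj_mem _ huR ⟨z, hz⟩, rfl⟩
          have h2 := hQ h1
          have h3 := hQ (mem_map_of_mem H.subtype huR)
          rw [sylow_smul_coe] at h2 h3
          obtain ⟨u', hu', hu'e⟩ := h3
          obtain ⟨v, hv, hve⟩ := h2
          refine ⟨g⁻¹ * z * g, s.ti hu' (fun e => hu1' ?_) ?_, by simp [mul_assoc]⟩
          · simpa [e] using hu'e.symm
          · have e1 : g * u' * g⁻¹ = u := by simpa using hu'e
            have e2 : g * v * g⁻¹ = z * u * z⁻¹ := by simpa using hve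
            have : g⁻¹ * z * g * u' * (g⁻¹ * z * g)⁻¹ = v := by
              calc g⁻¹ * z * g * u' * (g⁻¹ * z * g)⁻¹
                  = g⁻¹ * (z * (g * u' * g⁻¹) * z⁻¹) * g := by group
                _ = g⁻¹ * (g * v * g⁻¹) * g := by rw [e1, e2]
                _ = v := by group
            rw [this]; exact hv
        have := card_dvd_of_le hsub
        rw [card_map_of_injective (MulEquiv.injective _), hN] at this
        exact this

/-- If no involution centralises `P`, counting involutions mod `p` gives a contradiction. -/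
theorem Simp.false_of_no_inv (s : Simp P a)
    (hno : ∀ t : G, orderOf t = 2 → ¬ p ∣ Nat.card (centralizer ({t} : Set G)))
    (heven : 2 ∣ Nat.card G) : False := by
  classical
  letI := Fintype.ofFinite G
  haveI : Fact (Nat.Prime 2) := ⟨Nat.prime_two⟩
  haveI := s.simple
  obtain ⟨t, ht⟩ := exists_prime_orderOf_dvd_card' 2 heven
  have ht1 : t ≠ 1 := ne_one_of_order_two ht
  set C := centralizer ({t} : Set G) with hC
  have hCp := hno t ht
  have hCab : ∀ x ∈ C, ∀ y ∈ C, Commute x y := fun x hx y hy => s.hyp.commute hCp hx hy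
  obtain ⟨S, hS⟩ := (IsPGroup.of_card (G := zpowers t) (p := 2) (n := 1)
    (by rw [Nat.card_zpowers, ht, pow_one])).exists_le_sylow
  have htS : t ∈ (S : Subgroup G) := hS (mem_zpowers t)
  obtain ⟨hSp, x, ⟨k, hxk⟩, hxS, hxnc⟩ :=
    s.exists_mover (fun e => s.p2 e.symm) S (fun e => ht1 (mem_bot.1 (e ▸ htS)))
  -- `p` divides the number of conjugates of `t` in `C`
  let Q : G → Prop := fun m => IsConj t m
  have hmemC : ∀ m, m ∈ C ↔ Commute m t := fun m => mem_centralizer_singleton_iff
  have hQS : ∀ m, Q m → m ∈ C → m ∈ (S : Subgroup G) := by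
    intro m hm hmC
    obtain ⟨c, hc⟩ := isConj_iff.1 hm
    refine mem_sylow_of_normalizes S (mem_normalizer_of_conj fun z hz => ?_)
      (k := 1) (by rw [← hc, ← MulAut.conj_apply, MulEquiv.orderOf_eq, ht, pow_one])
    have hzC : z ∈ C := (hmemC z).2 (s.hyp.commute hSp hz htS)
    rwa [(hCab m hmC z hzC).eq, mul_inv_cancel_right]
  let V1 := {m : G // Q m ∧ m ∈ C}
  have hV1 : p ∣ Nat.card V1 := by
    have hz : ∀ z ∈ zpowers x, ∀ m, Q m → m ∈ C → Q (z * m * z⁻¹) ∧ z * m * z⁻¹ ∈ C := by
      intro z hz m hm hmC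
      refine ⟨hm.trans (isConj_iff.2 ⟨z, rfl⟩), (hmemC _).2 ?_⟩
      exact s.hyp.commute hSp ((mem_set_normalizer_iff.1 (zpowers_le.2 hxS hz) m).1 (hQS m hm hmC)) htS
    letI : MulAction (zpowers x) V1 :=
      { smul := fun z m => ⟨(z : G) * m.1 * (z : G)⁻¹, hz z z.2 m.1 m.2.1 m.2.2⟩
        one_smul := fun m => Subtype.ext (show ((1 : zpowers x) : G) * m.1 * ((1 : zpowers x) : G)⁻¹ = m.1 by simp)
        mul_smul := fun z z' m => Subtype.ext (show ((z * z' : zpowers x) : G) * m.1 * ((z * z' : zpowers x) : G)⁻¹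
          = (z : G) * ((z' : G) * m.1 * (z' : G)⁻¹) * (z : G)⁻¹ by simp [mul_assoc]) }
    have hpg : IsPGroup p (zpowers x) := IsPGroup.of_card (n := k) (by rw [Nat.card_zpowers, hxk])
    have hfix : IsEmpty (MulAction.fixedPoints (zpowers x) V1) := by
      refine ⟨fun ⟨⟨m, hm, hmC⟩, hfx⟩ => ?_⟩
      have h1 : x * m * x⁻¹ = m := congrArg Subtype.val (hfx ⟨x, mem_zpowers x⟩)
      obtain ⟨c, hc⟩ := isConj_iff.1 hm
      have hm2 : orderOf m = 2 := by rw [← hc, ← MulAut.conj_apply, MulEquiv.orderOf_eq, ht]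
      have hxm : x ∈ centralizer ({m} : Set G) :=
        mem_centralizer_singleton_iff.2 (mul_inv_eq_iff_eq_mul.1 h1)
      have hx1 : x = 1 := by
        by_contra hx1
        refine hno m hm2 (dvd_trans ?_ ((centralizer ({m} : Set G)).orderOf_dvd_natCard hxm))
        rw [hxk]
        exact dvd_pow_self p fun e => hx1 (orderOf_eq_one_iff.1 (by rw [hxk, e, pow_zero]))
      exact hxnc fun z _ => by rw [hx1, one_mul, mul_one]
    have := hpg.card_modEq_card_fixedPoints V1
    rw [Nat.card_of_isEmpty (α := MulAction.fixedPoints (zpowers x) V1)] at this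
    exact Nat.modEq_zero_iff_dvd.1 this
  -- `p` divides the size of the class
  let Cl := {m : G // Q m}
  have hCl : p ∣ Nat.card Cl := by
    have e : Nat.card Cl * Nat.card C = Nat.card G := by
      have h1 := MulAction.card_orbit_mul_card_stabilizer_eq_card_group (ConjAct G) t
      rw [← Nat.card_eq_fintype_card, ← Nat.card_eq_fintype_card, ← Nat.card_eq_fintype_card] at h1
      rw [← Nat.card_congr (ConjAct.toConjAct (G := G)).toEquiv] at h1
      rw [← h1]
      congr 1
      · refine Nat.card_congr (Equiv.subtypeEquivRight fun m => ?_)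
        rw [ConjAct.mem_orbit_conjAct]
        exact isConj_comm
      · refine Nat.card_congr
          ((ConjAct.toConjAct (G := G)).toEquiv.subtypeEquiv fun m => ?_)
        rw [hmemC, MulAction.mem_stabilizer_iff]
        show Commute m t ↔ ConjAct.toConjAct m • t = t
        rw [ConjAct.toConjAct_smul, mul_inv_eq_iff_eq_mul]
        exact Iff.rfl
    refine (hp.out.dvd_mul.1 (e ▸ dvd_trans ?_ (P : Subgroup G).card_subgroup_dvd_card)).resolve_right hCp
    obtain ⟨j, hj⟩ := IsPGroup.iff_card.1 P.2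
    rw [hj]
    exact dvd_pow_self p fun e => s.ne_bot (card_eq_one.1 (by rw [hj, e, pow_zero]))
  let U := {m : G // Q m ∧ m ∉ C}
  have hU : p ∣ Nat.card U := by
    have e : Nat.card Cl = Nat.card V1 + Nat.card U := by
      rw [← Nat.card_sum]
      refine Nat.card_congr ?_
      exact (Equiv.sumCompl fun m : Cl => m.1 ∈ C).symm.trans (Equiv.sumCongr
        (Equiv.subtypeSubtypeEquivSubtypeInter Q fun m => m ∈ C)
        (Equiv.subtypeSubtypeEquivSubtypeInter Q fun m => m ∉ C))
    exact (Nat.dvd_add_right hV1).1 (e ▸ hCl)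
  -- the inverted `p`-elements
  have htt := sq_of_order_two ht
  have hti := inv_of_order_two ht
  let W := {v : G // v ≠ 1 ∧ (∃ j, orderOf v = p ^ j) ∧ t * v * t⁻¹ = v⁻¹}
  have hfwd : ∀ m : U, t * m.1 ≠ 1 ∧ (∃ j, orderOf (t * m.1) = p ^ j) ∧
      t * (t * m.1) * t⁻¹ = (t * m.1)⁻¹ := by
    rintro ⟨m, hm, hmC⟩
    obtain ⟨c, hc⟩ := isConj_iff.1 hm
    have hm2 : orderOf m = 2 := by rw [← hc, ← MulAut.conj_apply, MulEquiv.orderOf_eq, ht]
    have hflip := flip_mul ht hm2
    have hne : t * m ≠ 1 := fun e => hmC ((hmemC m).2 (by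
      rw [eq_inv_of_mul_eq_one_right e, hti]))
    refine ⟨hne, ?_, hflip⟩
    obtain ⟨v, b, hv, hb, hvb, hvk, hbc⟩ := exists_pPart p (t * m)
    have hbinv : t * b * t⁻¹ = b⁻¹ := by
      obtain ⟨i, rfl⟩ := hb
      show t * (t * m) ^ i * t⁻¹ = _
      rw [← conj_zpow, hflip, inv_zpow]
    have hbZ : ¬ p ∣ Nat.card (zpowers b) := by
      rw [Nat.card_zpowers]
      exact fun hd => hp.out.ne_one (Nat.eq_one_of_dvd_coprimes hbc hd dvd_rfl)
    have htc : (orderOf t).Coprime p := by
      rw [ht]; exact (Nat.coprime_primes Nat.prime_two hp.out).2 fun e => s.p2 e.symm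
    have hcomm : t * b = b * t := s.hyp.commute_norm hbZ htc (mem_normalizer_of_conj fun z hz => by
      obtain ⟨i, rfl⟩ := hz
      rw [← conj_zpow, hbinv]
      exact zpow_mem (inv_mem (mem_zpowers b)) i) b (mem_zpowers b)
    have hb2 : b * b = 1 := by
      rw [hcomm, mul_inv_cancel_right] at hbinv
      nth_rw 2 [hbinv]
      exact mul_inv_cancel b
    have hb1 : b = 1 := by
      by_contra hb1
      have hvne : v ≠ 1 := fun e => hmC (by
        rw [e, one_mul] at hvb
        refine (hmemC m).2 ?_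
        have : t * m = b := hvb.symm
        have h2 : Commute t (t * m) := by rw [this]; exact hcomm
        have h3 : Commute t m := by
          have := (Commute.refl t).inv_right.mul_right h2
          rwa [← mul_assoc, inv_mul_cancel, one_mul] at this
        exact h3.symm)
      refine hno b (order_two_of_mul_self hb2 hb1) ?_
      obtain ⟨j, hj⟩ := hvk
      have hj0 : j ≠ 0 := fun e => hvne (orderOf_eq_one_iff.1 (by rw [hj, e, pow_zero]))
      refine dvd_trans (dvd_pow_self p hj0) (hj ▸ (centralizer ({b} : Set G)).orderOf_dvd_natCard ?_)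
      rw [mem_centralizer_singleton_iff]
      obtain ⟨i, rfl⟩ := hv
      obtain ⟨l, rfl⟩ := hb
      exact ((Commute.refl (t * m)).zpow_zpow i l).eq
    show ∃ j, orderOf (t * m) = p ^ j
    rw [← hvb, hb1, mul_one]
    exact hvk
  have hUW : Nat.card U = Nat.card W := by
    refine Nat.card_eq_of_bijective (fun m : U => (⟨t * m.1, hfwd m⟩ : W)) ⟨fun m m' h => ?_, ?_⟩
    · exact Subtype.ext (mul_left_cancel (congrArg Subtype.val h))
    rintro ⟨v, hv1, ⟨j, hj⟩, hinv⟩
    obtain ⟨r, hr, hr2⟩ : ∃ r ∈ zpowers v, r * r = v := by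
      obtain ⟨i, hi⟩ := (hp.out.odd_of_ne_two s.p2).pow (n := j)
      refine ⟨v ^ (i + 1), pow_mem (mem_zpowers v) _, ?_⟩
      rw [← pow_add, show i + 1 + (i + 1) = (2 * i + 1) + 1 by omega, pow_succ, ← hi, ← hj,
        pow_orderOf_eq_one, one_mul]
    have htr : t * r * t⁻¹ = r⁻¹ := by
      obtain ⟨i, rfl⟩ := hr
      rw [← conj_zpow, hinv, inv_zpow]
    have hconj : r⁻¹ * t * r = t * v := by
      rw [← htr, ← hr2]
      calc t * r * t⁻¹ * t * r = t * (r * r) := by group
        _ = t * (r * r) := rfl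
    refine ⟨⟨t * v, isConj_iff.2 ⟨r⁻¹, by rw [inv_inv, hconj]⟩, fun h => hv1 ?_⟩,
      Subtype.ext (show t * (t * v) = v by rw [← mul_assoc, htt, one_mul])⟩
    have h1 : t * v * t = t * (t * v) := (hmemC _).1 h
    have h2 : v⁻¹ = v := by
      rw [← hinv, hti, h1, ← mul_assoc, htt, one_mul]
    have h3 : orderOf v ∣ 2 := orderOf_dvd_of_pow_eq_one (by rw [pow_two]; nth_rw 1 [← h2]; rw [inv_mul_cancel])
    rw [hj] at h3
    rcases Nat.eq_zero_or_pos j with e | e
    · exact orderOf_eq_one_iff.1 (by rw [hj, e, pow_zero])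
    · exact absurd ((Nat.prime_dvd_prime_iff_eq hp.out Nat.prime_two).1
        ((dvd_pow_self p e.ne').trans h3)) s.p2
  -- the Sylow subgroups normalised by `t`
  let Sy := {R : Sylow p G // t • R = R}
  have hmemR : ∀ (g : G) (v : G), v ∈ ((g • P : Sylow p G) : Subgroup G) ↔ g⁻¹ * v * g ∈ (P : Subgroup G) := by
    intro g v
    rw [sylow_smul_coe]
    constructor
    · rintro ⟨w, hw, rfl⟩
      rwa [show g⁻¹ * (MulAut.conj g).toMonoidHom w * g = w by simp [mul_assoc]]
    · intro h; exact ⟨_, h, by simp [mul_assoc]⟩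
  have hsmulN : ∀ g : G, g ∈ normalizer ((P : Subgroup G) : Set G) → g • P = P := fun g hg =>
    Sylow.smul_eq_iff_mem_normalizer.2 hg
  have hnormt : ∀ g : G, t • (g • P) = g • P → g⁻¹ * t * g ∈ normalizer ((P : Subgroup G) : Set G) := by
    intro g hg
    refine Sylow.smul_eq_iff_mem_normalizer.1 ?_
    rw [mul_smul, mul_smul, hg, inv_smul_smul]
  have hinvP : ∀ t' : G, orderOf t' = 2 → t' ∈ normalizer ((P : Subgroup G) : Set G) →
      ∀ w ∈ (P : Subgroup G), t' * w * t'⁻¹ = w⁻¹ := by
    intro t' ht' htN w hw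
    have hw' : t' * w * t'⁻¹ ∈ (P : Subgroup G) := (mem_set_normalizer_iff.1 htN w).1 hw
    set d := t' * w * t'⁻¹ * w with hd
    have hdP : d ∈ (P : Subgroup G) := mul_mem hw' hw
    have hd1 : d = 1 := by
      by_contra hd1
      have hdc : d ∈ centralizer ({t'} : Set G) := by
        rw [mem_centralizer_singleton_iff]
        have e : t' * d * t'⁻¹ = d := by
          calc t' * d * t'⁻¹ = (t' * t') * w * (t' * t')⁻¹ * (t' * w * t'⁻¹) := by rw [hd]; group
            _ = w * (t' * w * t'⁻¹) := by rw [sq_of_order_two ht']; group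
            _ = d := by rw [hd, s.comm hw hw']
        exact (mul_inv_eq_iff_eq_mul.1 e).symm
      obtain ⟨j, hj⟩ := exists_orderOf_of_mem P hdP
      refine hno t' ht' (dvd_trans (dvd_pow_self p fun e => hd1 (orderOf_eq_one_iff.1 ?_))
        (hj ▸ (centralizer ({t'} : Set G)).orderOf_dvd_natCard hdc))
      rw [hj, e, pow_zero]
    exact eq_inv_of_mul_eq_one_left hd1
  have hot : ∀ g : G, orderOf (g⁻¹ * t * g) = 2 := fun g => by
    rw [show g⁻¹ * t * g = MulAut.conj g⁻¹ t by simp, MulEquiv.orderOf_eq, ht]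
  have hW : Nat.card W = Nat.card Sy * (Nat.card P - 1) := by
    have hP1 : Nat.card {v : (P : Subgroup G) // v ≠ 1} = Nat.card P - 1 := by
      rw [Nat.card_eq_fintype_card, Fintype.card_subtype_compl, Fintype.card_subtype_eq,
        ← Nat.card_eq_fintype_card]
    choose gR hgR using fun R : Sylow p G => MulAction.exists_smul_eq G P R
    rw [← hP1, ← Nat.card_prod]
    let F : Sy × {v : (P : Subgroup G) // v ≠ 1} → W := fun Rv =>
      ⟨gR Rv.1.1 * (Rv.2.1 : G) * (gR Rv.1.1)⁻¹,
        fun e => Rv.2.2 (Subtype.ext (conj_eq_one_iff.1 e)),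
        (exists_orderOf_of_mem P Rv.2.1.2).imp fun j hj => by
          rw [← MulAut.conj_apply, MulEquiv.orderOf_eq, hj],
        by
          have h := hinvP _ (hot (gR Rv.1.1)) (hnormt _ (by rw [hgR]; exact Rv.1.2)) _ Rv.2.1.2
          calc t * (gR Rv.1.1 * (Rv.2.1 : G) * (gR Rv.1.1)⁻¹) * t⁻¹
              = gR Rv.1.1 * (((gR Rv.1.1)⁻¹ * t * gR Rv.1.1) * (Rv.2.1 : G) *
                  ((gR Rv.1.1)⁻¹ * t * gR Rv.1.1)⁻¹) * (gR Rv.1.1)⁻¹ := by group
            _ = _ := by rw [h]; group⟩
    symm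
    refine Nat.card_eq_of_bijective F ⟨?_, ?_⟩
    · rintro ⟨⟨R, hR⟩, v⟩ ⟨⟨R', hR'⟩, v'⟩ h
      have h' : gR R * (v.1 : G) * (gR R)⁻¹ = gR R' * (v'.1 : G) * (gR R')⁻¹ := congrArg Subtype.val h
      have hm := s.ti (g := (gR R')⁻¹ * gR R) v.1.2 (fun e => v.2 (Subtype.ext e)) (by
        have : (gR R')⁻¹ * gR R * (v.1 : G) * ((gR R')⁻¹ * gR R)⁻¹ = v'.1 := by
          calc (gR R')⁻¹ * gR R * (v.1 : G) * ((gR R')⁻¹ * gR R)⁻¹
              = (gR R')⁻¹ * (gR R * (v.1 : G) * (gR R)⁻¹) * gR R' := by group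
            _ = v'.1 := by rw [h']; group
        rw [this]; exact v'.1.2)
      have hRR : R = R' := by
        have := hsmulN _ hm
        rw [mul_smul, hgR, inv_smul_eq_iff, hgR] at this
        exact this
      subst hRR
      have : v = v' := Subtype.ext (Subtype.ext (mul_left_cancel (mul_right_cancel h')))
      rw [this]
    · rintro ⟨v, hv1, hvk, hinv⟩
      obtain ⟨g, hg⟩ := exists_conj_mem P hvk
      have hvR : v ∈ ((g⁻¹ • P : Sylow p G) : Subgroup G) := (hmemR _ _).2 (by simpa using hg)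
      have htR : t • (g⁻¹ • P : Sylow p G) = g⁻¹ • P := by
        have hm := s.ti (g := g * t * g⁻¹) hg (fun e => hv1 (conj_eq_one_iff.1 e)) (by
          rw [show g * t * g⁻¹ * (g * v * g⁻¹) * (g * t * g⁻¹)⁻¹ = g * (t * v * t⁻¹) * g⁻¹ by group,
            hinv, show g * v⁻¹ * g⁻¹ = (g * v * g⁻¹)⁻¹ by group]
          exact inv_mem hg)
        have := hsmulN _ hm
        rw [mul_smul, mul_smul] at this
        exact (smul_left_cancel_iff g).1 (this.trans (smul_inv_smul g P).symm)
      set R0 : Sylow p G := g⁻¹ • P with hR0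
      have hv' : (gR R0)⁻¹ * v * gR R0 ∈ (P : Subgroup G) := (hmemR _ _).1 (by rw [hgR]; exact hvR)
      exact ⟨(⟨R0, htR⟩, ⟨⟨_, hv'⟩, fun e => hv1 (by
        have := congrArg Subtype.val e
        simpa using (conj_eq_one_iff (a := (gR R0)⁻¹)).1 (by simpa using this))⟩),
        Subtype.ext (show gR R0 * ((gR R0)⁻¹ * v * gR R0) * (gR R0)⁻¹ = v by group)⟩
  have hSy : p ∣ Nat.card Sy := by
    have h := hUW ▸ hU
    rw [hW] at h
    refine (hp.out.dvd_mul.1 h).resolve_right fun hd => ?_
    obtain ⟨j, hj⟩ := IsPGroup.iff_card.1 P.2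
    have hj0 : j ≠ 0 := fun e => s.ne_bot (card_eq_one.1 (by rw [hj, e, pow_zero]))
    have h1 : p ∣ Nat.card P := hj ▸ dvd_pow_self p hj0
    have h2 := Nat.dvd_sub h1 hd
    rw [Nat.sub_sub_self Nat.card_pos] at h2
    exact hp.out.ne_one (Nat.dvd_one.1 h2)
  have hSy0 : Nonempty Sy := by
    by_contra hcon
    rw [not_nonempty_iff] at hcon
    have hWe : Nat.card W = 0 := by rw [hW, Nat.card_of_isEmpty, zero_mul]
    have hU0 : IsEmpty U := by
      have := hUW.trans hWe
      exact (Nat.card_eq_zero.1 this).resolve_right (not_infinite_iff_finite.2 inferInstance)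
    refine s.cent_ne_top ht1 (top_unique ?_)
    have hle : normalClosure ({t} : Set G) ≤ C := by
      rw [normalClosure, closure_le]
      intro m hm
      obtain ⟨t', ht', hm'⟩ := Group.mem_conjugatesOfSet_iff.1 hm
      rw [Set.mem_singleton_iff.1 ht'] at hm'
      by_contra hmC
      exact hU0.false ⟨m, hm', hmC⟩
    rcases IsSimpleGroup.eq_bot_or_eq_top_of_normal (normalClosure ({t} : Set G)) inferInstance with h | h
    · exact absurd (mem_bot.1 (h ▸ subset_normalClosure rfl : t ∈ (⊥ : Subgroup G))) ht1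
    · rw [← h]; exact hle
  -- transitivity of `C` on them
  obtain ⟨⟨R0, hR0⟩⟩ := hSy0
  have horb : Nat.card Sy = Nat.card (MulAction.orbit C R0) := by
    refine Nat.card_congr (Equiv.subtypeEquivRight fun R => ⟨fun hR => ?_, ?_⟩)
    · obtain ⟨g0, hg0⟩ := MulAction.exists_smul_eq G P R0
      obtain ⟨g, hg⟩ := MulAction.exists_smul_eq G P R
      set t0 := g0⁻¹ * t * g0 with ht0
      set t1 := g⁻¹ * t * g with ht1'
      have h0N : t0 ∈ normalizer ((P : Subgroup G) : Set G) := hnormt g0 (by rw [hg0]; exact hR0)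
      have h1N : t1 ∈ normalizer ((P : Subgroup G) : Set G) := hnormt g (by rw [hg]; exact hR)
      have hi0 := hinvP _ (hot g0) h0N
      have hi1 := hinvP _ (hot g) h1N
      have hwC : t1 * t0 ∈ centralizer ((P : Subgroup G) : Set G) := mem_centralizer_iff.2 fun v hv => by
        have h2 : t1 * t0 * v * (t1 * t0)⁻¹ = v := by
          calc t1 * t0 * v * (t1 * t0)⁻¹ = t1 * (t0 * v * t0⁻¹) * t1⁻¹ := by group
            _ = (t1 * v * t1⁻¹)⁻¹ := by rw [hi0 v hv]; group
            _ = v := by rw [hi1 v hv, inv_inv]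
        exact (mul_inv_eq_iff_eq_mul.1 h2).symm
      obtain ⟨v, b, hv, hb, hvb, ⟨j, hj⟩, hbc⟩ := exists_pPart p (t1 * t0)
      have hb1 : b = 1 := by
        by_contra hb1
        have hbC := zpowers_le.2 hwC hb
        have h2 := s.two_dvd_of_Y hbC hbc hb1
        set b2 := b ^ (orderOf b / 2) with hb2
        refine hno b2 (orderOf_pow_orderOf_div (orderOf_pos b).ne' h2) ?_
        obtain ⟨u, hu, huo⟩ := s.exists_u0
        refine huo ▸ (centralizer ({b2} : Set G)).orderOf_dvd_natCard ?_
        exact mem_centralizer_singleton_iff.2 (mem_centralizer_iff.1 (pow_mem hbC _) u hu)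
      rw [hb1, mul_one] at hvb
      have hwP : t1 * t0 ∈ (P : Subgroup G) :=
        mem_sylow_of_normalizes P (centralizer_le_normalizer _ hwC) (hvb ▸ hj)
      obtain ⟨r, hr, hr2⟩ : ∃ r ∈ (P : Subgroup G), r * r = t1 * t0 := by
        obtain ⟨l, hl⟩ := exists_orderOf_of_mem P hwP
        obtain ⟨i, hi⟩ := (hp.out.odd_of_ne_two s.p2).pow (n := l)
        refine ⟨(t1 * t0) ^ (i + 1), pow_mem hwP _, ?_⟩
        rw [← pow_add, show i + 1 + (i + 1) = (2 * i + 1) + 1 by omega, pow_succ, ← hi, ← hl,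
          pow_orderOf_eq_one, one_mul]
      have hkey : r * t0 * r⁻¹ = t1 := by
        have e1 : t0 * r⁻¹ = r * t0 := by
          calc t0 * r⁻¹ = (t0 * r⁻¹ * t0⁻¹) * t0 := by group
            _ = r * t0 := by rw [hi0 _ (inv_mem hr), inv_inv]
        calc r * t0 * r⁻¹ = r * (r * t0) := by rw [mul_assoc, e1]
          _ = t1 * (t0 * t0) := by rw [← mul_assoc, hr2, mul_assoc]
          _ = t1 := by rw [sq_of_order_two (hot g0), mul_one]
      have hc : g * r * g0⁻¹ ∈ C := (hmemC _).2 (by
        show g * r * g0⁻¹ * t = t * (g * r * g0⁻¹)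
        calc g * r * g0⁻¹ * t = g * (r * t0) * g0⁻¹ := by rw [ht0]; group
          _ = g * (r * t0 * r⁻¹) * r * g0⁻¹ := by group
          _ = g * t1 * r * g0⁻¹ := by rw [hkey]
          _ = t * (g * r * g0⁻¹) := by rw [ht1']; group)
      refine ⟨⟨_, hc⟩, ?_⟩
      show (g * r * g0⁻¹) • R0 = R
      rw [← hg0, ← mul_smul, inv_mul_cancel_right, mul_smul, hsmulN r (le_normalizer hr), hg]
    · rintro ⟨⟨c, hc⟩, rfl⟩
      show t • c • R0 = c • R0
      rw [← mul_smul, show t * c = c * t from ((hmemC c).1 hc).symm.eq, mul_smul, hR0]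
  have hd : Nat.card (MulAction.orbit C R0) ∣ Nat.card C := by
    have h1 := MulAction.card_orbit_mul_card_stabilizer_eq_card_group C R0
    rw [← Nat.card_eq_fintype_card, ← Nat.card_eq_fintype_card, ← Nat.card_eq_fintype_card] at h1
    exact Dvd.intro _ h1
  exact hCp ((horb ▸ hSy).trans hd)

/-- **A cyclic Sylow subgroup with abelian `p'`-subgroups**: normal `p`-complement or normal Sylow. -/
theorem main : ∀ (n : ℕ) (G : Type u) [Group G] [Finite G] (P : Sylow p G),
    Nat.card G = n → Hyp G p P → Cfsg.HasNormalPComplement p G ∨ (P : Subgroup G).Normal := by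
  intro n
  induction n using Nat.strong_induction_on with
  | _ n ih =>
    intro G _ _ P hn h
    by_contra hcon
    rw [not_or] at hcon
    obtain ⟨hnc, hnn⟩ := hcon
    obtain ⟨hs, hp2, hsub⟩ := reduce (fun m hm X _ _ R e hX => ih m hm X R e hX) hn h hnc hnn
    obtain ⟨a, ha⟩ := exists_acts h hnc
    have s : Simp P a := ⟨h, ha, hs, hp2, hsub, hnn⟩
    haveI : Fact (Nat.Prime 2) := ⟨Nat.prime_two⟩
    by_cases hY : ∃ y, y ∈ centralizer ((P : Subgroup G) : Set G) ∧ (orderOf y).Coprime p ∧ y ≠ 1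
    · obtain ⟨y, hy, hyc, hy1⟩ := hY
      exact s.false_of_inv_Y (pow_mem hy _)
        (orderOf_pow_orderOf_div (orderOf_pos y).ne' (s.two_dvd_of_Y hy hyc hy1))
    push Not at hY
    by_cases heven : 2 ∣ Nat.card G
    · refine s.false_of_no_inv (fun t ht hd => ?_) heven
      obtain ⟨v, hv1, hv, htv⟩ := exists_p_elem_cent hd
      obtain ⟨g, hg⟩ := s.conj_Y hv1 ⟨1, by rw [hv, pow_one]⟩ htv
      have := hY _ hg (by
        rw [← MulAut.conj_apply, MulEquiv.orderOf_eq, ht]
        exact (Nat.coprime_primes Nat.prime_two hp.out).2 fun e => hp2 e.symm)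
      rw [conj_eq_one_iff] at this
      exact ne_one_of_order_two ht this
    · -- odd order: a CA-group
      have hCA : ∀ x : G, x ≠ 1 → ∀ b ∈ centralizer ({x} : Set G),
          ∀ c ∈ centralizer ({x} : Set G), b * c = c * b := by
        intro x hx b hb c hc
        by_cases hd : p ∣ Nat.card (centralizer ({x} : Set G))
        · obtain ⟨v, w, hv, hw, hvw, hvk, hwc⟩ := exists_pPart p x
          have hcomm : ∀ z ∈ centralizer ({x} : Set G), ∀ m ∈ zpowers x, Commute z m := by
            rintro z hz m ⟨i, rfl⟩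
            exact (show Commute z x from mem_centralizer_singleton_iff.1 hz).zpow_right i
          by_cases hv1 : v = 1
          · exfalso
            obtain ⟨u, hu1, hu, hxu⟩ := exists_p_elem_cent hd
            obtain ⟨g, hg⟩ := s.conj_Y hu1 ⟨1, by rw [hu, pow_one]⟩ hxu
            have := hY _ hg (by
              rw [← MulAut.conj_apply, MulEquiv.orderOf_eq, ← hvw, hv1, one_mul]; exact hwc)
            exact hx (conj_eq_one_iff.1 this)
          · obtain ⟨g, hg⟩ := exists_conj_mem P hvk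
            have key : ∀ z ∈ centralizer ({x} : Set G),
                g * z * g⁻¹ ∈ centralizer ((P : Subgroup G) : Set G) := fun z hz =>
              s.cen_eq hg (fun e => hv1 (conj_eq_one_iff.1 e))
                ((Commute.conj_iff g).2 (hcomm z hz v hv)).eq
            exact ((Commute.conj_iff g).1 (s.cent_comm (key b hb) (key c hc))).eq
        · exact s.hyp.commute hd hb hc
      haveI := Cfsg.Agent.S0182.result (Nat.odd_iff.2 (by omega)) hCA
      haveI := hs
      obtain ⟨x, y, hxy⟩ := s.not_comm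
      exact hxy (IsSimpleGroup.comm_iff_isSolvable.2 inferInstance x y)

end Cfsg.Lib.PLocal.AbelianPPrime
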