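import Cfsg.Agent.PLocal.Constrained
import Cfsg.Agent.Quadratic.StableQd
import Cfsg.Agent.Components.Qd.Basics
import Cfsg.Agent.Components.ZJ.Stable
import Cfsg.Agent.Components.Functor.Sections

/-!
`p`-stability modulo `O_{p'}(G)`.
-/

set_option autoImplicit false

namespace Cfsg.Lib.Constraint

open Subgroup Cfsg.Lib.Components
open scoped commutatorElement

universe u

variable {p : ℕ} [Fact p.Prime]

/-- A core membership along a surjection with the expected kernel. -/
theorem mem_core_transfer {N X : Type u} [Group N] [Finite N] [Group X] [Finite X] (K : Subgroup N)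
    [K.Normal] (f : N →* X) (hf : Function.Surjective f) (hk : f.ker = K) (x : N) :
    (QuotientGroup.mk x : N ⧸ K) ∈ Cfsg.pCore p (N ⧸ K) ↔ f x ∈ Cfsg.pCore p X := by
  let e : N ⧸ K ≃* X := (QuotientGroup.quotientMulEquivOfEq hk.symm).trans
    (QuotientGroup.quotientKerEquivOfSurjective f hf)
  rw [← Cfsg.Lib.Functor.map_pCore (p := p) e]
  constructor
  · intro h
    exact ⟨_, h, rfl⟩
  · rintro ⟨y, hy, hye⟩
    have : y = QuotientGroup.mk x := e.injective hye
    exact this ▸ hy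

/-- In a group with trivial `p'`-core, stability in the sense of the definition follows from
stability on normal `p`-subgroups. -/
theorem isPStable_of_stable {H : Type u} [Group H] [Finite H] (hodd : Odd p)
    (hne : Cfsg.pCore p H ≠ ⊥) (hO : Cfsg.pPrimeCore p H = ⊥) (hs : Cfsg.Lib.ZJ.Stable p H) :
    Cfsg.IsPStable p H := by
  refine ⟨hodd, hne, fun A B hA hB _ _ hnor hq => ?_⟩
  rw [hO, bot_sup_eq] at hnor
  haveI := hnor
  rintro _ ⟨⟨a, han⟩, ha, rfl⟩
  replace ha : a ∈ A := ha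
  have hN : normalizer (B : Set H) = ⊤ := normalizer_eq_top B
  let f : ↥(normalizer (B : Set H)) →* H ⧸ centralizer (B : Set H) :=
    (QuotientGroup.mk' (centralizer (B : Set H))).comp (normalizer (B : Set H)).subtype
  have hf : Function.Surjective f := by
    intro y
    obtain ⟨y, rfl⟩ := QuotientGroup.mk'_surjective _ y
    exact ⟨⟨y, hN.ge (mem_top y)⟩, rfl⟩
  refine (mem_core_transfer _ f hf ?_ _).mpr (hs B hB a (hA.to_le (zpowers_le.mpr ha)) ?_)
  · ext z
    exact (QuotientGroup.eq_one_iff (z : H))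
  · exact le_bot_iff.mp ((commutator_mono (commutator_mono le_rfl (zpowers_le.mpr ha))
      (zpowers_le.mpr ha)).trans hq.le)

variable {G : Type u} [Group G] [Finite G]

theorem pCore_quotient_ne_bot (hO : Cfsg.pCore p G ≠ ⊥) :
    Cfsg.pCore p (G ⧸ Cfsg.pPrimeCore p G) ≠ ⊥ := by
  intro h
  haveI : (Cfsg.pCore p G).Normal := pCore_normal' p
  have hle : (Cfsg.pCore p G).map (QuotientGroup.mk' (Cfsg.pPrimeCore p G)) ≤ ⊥ :=
    h ▸ Cfsg.Lib.ZJ.map_pCore_le (QuotientGroup.mk'_surjective _)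
  refine hO (eq_bot_iff.mpr fun x hx => ?_)
  rw [mem_bot]
  refine Cfsg.Lib.ZJ.injOn_mk (coprime_card_pPrimeCore p) (isPGroup_pCore p) hx (one_mem _) ?_
  rw [map_one]
  exact mem_bot.mp (hle ⟨x, hx, rfl⟩)

/-- `p`-stability passes to and from `G / O_{p'}(G)`. -/
theorem isPStable_quotient_iff (hO : Cfsg.pCore p G ≠ ⊥) :
    Cfsg.IsPStable p G ↔ Cfsg.IsPStable p (G ⧸ Cfsg.pPrimeCore p G) := by
  set O := Cfsg.pPrimeCore p G
  set π := QuotientGroup.mk' O
  haveI : O.Normal := pPrimeCore_normal' p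
  have hQO : Cfsg.pPrimeCore p (G ⧸ O) = ⊥ := Cfsg.Lib.Coprime.pPrimeCore_quotient_eq_bot
  constructor
  · intro h
    exact isPStable_of_stable h.1 (pCore_quotient_ne_bot hO) hQO
      (Cfsg.Lib.ZJ.stable_quotient (coprime_card_pPrimeCore p) h rfl)
  · intro h
    have hs := Cfsg.Lib.ZJ.stable_of_isPStable hQO h
    refine ⟨h.1, hO, fun A P hA hP _ _ hnor hq => ?_⟩
    rintro _ ⟨⟨a, han⟩, ha, rfl⟩
    replace ha : a ∈ A := ha
    set P' := P.map π
    haveI : P'.Normal := by
      have h1 : (O ⊔ P).map π = P' := by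
        rw [Subgroup.map_sup, (Subgroup.map_eq_bot_iff O).mpr (QuotientGroup.ker_mk' O).ge, bot_sup_eq]
      exact h1 ▸ hnor.map π (QuotientGroup.mk'_surjective O)
    have hmapN : (normalizer (P : Set G)).map π = normalizer (P' : Set (G ⧸ O)) :=
      normalizer_map_of_coprime_ker (QuotientGroup.mk'_surjective O) pPrimeCore_ker_coprime hP
    let f : ↥(normalizer (P : Set G)) →* (G ⧸ O) ⧸ centralizer (P' : Set (G ⧸ O)) :=
      ((QuotientGroup.mk' (centralizer (P' : Set (G ⧸ O)))).comp π).comp (normalizer (P : Set G)).subtype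
    have hf : Function.Surjective f := by
      intro y
      obtain ⟨y, rfl⟩ := QuotientGroup.mk'_surjective _ y
      obtain ⟨z, hz, rfl⟩ := hmapN.ge ((normalizer_eq_top P').ge (mem_top y))
      exact ⟨⟨z, hz⟩, rfl⟩
    refine (mem_core_transfer _ f hf ?_ _).mpr (hs P' (hP.map π) (π a) ?_ ?_)
    · ext ⟨z, hz⟩
      show (QuotientGroup.mk (π z) : (G ⧸ O) ⧸ centralizer (P' : Set (G ⧸ O))) = 1 ↔ z ∈ centralizer (P : Set G)
      rw [QuotientGroup.eq_one_iff, mem_centralizer_iff, mem_centralizer_iff]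
      constructor
      · intro h' x hx
        have hxz : z * x * z⁻¹ ∈ P := (mem_normalizer_iff.mp hz x).mp hx
        have he : z * x * z⁻¹ = x := by
          refine Cfsg.Lib.ZJ.injOn_mk (coprime_card_pPrimeCore p) hP hxz hx ?_
          show π (z * x * z⁻¹) = π x
          rw [map_mul, map_mul, map_inv, ← h' (π x) ⟨x, hx, rfl⟩, mul_inv_cancel_right]
        exact (mul_inv_eq_iff_eq_mul.mp he).symm
      · rintro h' _ ⟨x, hx, rfl⟩
        rw [← map_mul, ← map_mul, h' x hx]
    · rw [← MonoidHom.map_zpowers]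
      exact (hA.to_le (zpowers_le.mpr ha)).map π
    · have h0 : ⁅⁅P, zpowers a⁆, zpowers a⁆ = ⊥ :=
        le_bot_iff.mp ((commutator_mono (commutator_mono le_rfl (zpowers_le.mpr ha))
          (zpowers_le.mpr ha)).trans hq.le)
      rw [← MonoidHom.map_zpowers, ← map_commutator, ← map_commutator, h0, Subgroup.map_bot]

/-- Failure of stability gives a section `SL₂(p)`. -/
theorem section_of_not_stable (hp : p ≠ 2) (hlt : Cfsg.pPrimeCore p G < Cfsg.pPrimePCore p G)
    (hns : ¬ Cfsg.IsPStable p (G ⧸ Cfsg.pPrimeCore p G)) :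
    ∃ (K L : Subgroup G) (_ : (L.subgroupOf K).Normal), K ≤ ⊤ ∧
      Nonempty ((K ⧸ L.subgroupOf K) ≃* Matrix.SpecialLinearGroup (Fin 2) (ZMod p)) := by
  set O := Cfsg.pPrimeCore p G
  haveI : O.Normal := pPrimeCore_normal' p
  have hne : Cfsg.pCore p (G ⧸ O) ≠ ⊥ := by
    intro h
    refine hlt.not_ge fun x hx => ?_
    have : QuotientGroup.mk' O x ∈ Cfsg.pCore p (G ⧸ O) := hx
    rw [h, mem_bot] at this
    exact (QuotientGroup.eq_one_iff x).mp this
  have hinv : Cfsg.Involves ↥(Cfsg.qd p) (G ⧸ O) := by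
    by_contra hq
    refine hns (isPStable_of_stable ((Fact.out : p.Prime).odd_of_ne_two hp) hne
      Cfsg.Lib.Coprime.pPrimeCore_quotient_eq_bot (Cfsg.Lib.ZJ.stable_of_isPStableOn fun B _ hB =>
        Cfsg.Lib.QuadPair.stable_of_qd_free hp _ (G ⧸ O) hq B hB rfl))
  obtain ⟨K, R, hR, ⟨e⟩⟩ := Cfsg.Lib.QuadPair.involves_of_surjective (QuotientGroup.mk'_surjective O) hinv
  haveI := hR
  obtain ⟨l, hl, -⟩ := Cfsg.Lib.QdRankTwo.exists_lin (p := p)
  let g : K →* Matrix.SpecialLinearGroup (Fin 2) (ZMod p) :=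
    (l.comp e.toMonoidHom).comp (QuotientGroup.mk' (R.subgroupOf K))
  have hl' : Function.Surjective l := fun M => ⟨_, hl M 0⟩
  have hg : Function.Surjective g := (hl'.comp e.surjective).comp (QuotientGroup.mk'_surjective _)
  obtain ⟨L, hL, e'⟩ := Cfsg.Lib.QuadPair.exists_section_of_surjective hg
  exact ⟨K, L, hL, le_top, e'⟩

end Cfsg.Lib.Constraint
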