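import Mathlib
import Cfsg.Prelude
import Cfsg.Agent.Quadratic.BaerSuzuki
import Cfsg.Agent.Components.Sfour.Section
import Cfsg.Agent.Components.Cores

/-!
`S₄`-free groups of characteristic 2 whose `2`-subgroups have class at most two: every elementary
abelian `2`-subgroup of largest order lies in `O_2(G)`.
-/

set_option autoImplicit false
set_option linter.style.haveILetI false
set_option linter.unusedSectionVars false

namespace Cfsg.Lib.ThompsonClassTwo

open Subgroup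
open scoped commutatorElement

universe u

/-- every `2`-subgroup has class at most two -/
def ClassTwoLocally (G : Type u) [Group G] : Prop :=
  ∀ T : Subgroup G, IsPGroup 2 ↥T → ∀ a ∈ T, ∀ b ∈ T, ∀ c ∈ T, Commute ⁅a, b⁆ c

/-- elementary abelian `2`-subgroup of largest order -/
def IsLargest {G : Type u} [Group G] (A : Subgroup G) : Prop :=
  Cfsg.IsElementaryAbelian 2 A ∧ ∀ B : Subgroup G, Cfsg.IsElementaryAbelian 2 B → Nat.card B ≤ Nat.card A

variable {G : Type u} [Group G]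

theorem elem_comm {A : Subgroup G} (h : Cfsg.IsElementaryAbelian 2 A) {a b : G} (ha : a ∈ A) (hb : b ∈ A) :
    a * b = b * a := congrArg Subtype.val (h.1.is_comm.comm ⟨a, ha⟩ ⟨b, hb⟩)

theorem elem_isPGroup {A : Subgroup G} (h : Cfsg.IsElementaryAbelian 2 A) : IsPGroup 2 ↥A := fun a =>
  ⟨1, Subtype.ext (by simpa using h.2 a a.2)⟩

theorem elem_map {H : Type u} [Group H] (f : G →* H) {A : Subgroup G}
    (h : Cfsg.IsElementaryAbelian 2 A) : Cfsg.IsElementaryAbelian 2 (A.map f) := by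
  refine ⟨⟨⟨?_⟩⟩, ?_⟩
  · rintro ⟨_, a, ha, rfl⟩ ⟨_, b, hb, rfl⟩
    refine Subtype.ext ?_
    show f a * f b = f b * f a
    rw [← map_mul, ← map_mul, elem_comm h ha hb]
  · rintro _ ⟨a, ha, rfl⟩
    rw [← map_pow, h.2 a ha, map_one]

theorem elem_subgroupOf {H A : Subgroup G} (h : Cfsg.IsElementaryAbelian 2 A) :
    Cfsg.IsElementaryAbelian 2 (A.subgroupOf H) :=
  ⟨⟨⟨fun a b => Subtype.ext (Subtype.ext (elem_comm h a.2 b.2))⟩⟩,
    fun a ha => Subtype.ext (by simpa using h.2 _ ha)⟩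

theorem isLargest_subgroupOf [Finite G] {H A : Subgroup G} (h : IsLargest A) (hAH : A ≤ H) :
    IsLargest (A.subgroupOf H) := by
  refine ⟨elem_subgroupOf h.1, fun B hB => ?_⟩
  rw [Nat.card_congr (subgroupOfEquivOfLe hAH).toEquiv,
    ← card_map_of_injective H.subtype_injective (K := B)]
  exact h.2 _ (elem_map H.subtype hB)

theorem isLargest_conj [Finite G] {A : Subgroup G} (h : IsLargest A) (g : G) :
    IsLargest (A.map (MulAut.conj g).toMonoidHom) :=
  ⟨elem_map _ h.1, fun B hB => (h.2 B hB).trans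
    (card_map_of_injective (f := (MulAut.conj g).toMonoidHom) (MulAut.conj g).injective).ge⟩

theorem classTwoLocally_subgroup (h : ClassTwoLocally G) (H : Subgroup G) : ClassTwoLocally ↥H := by
  intro T hT a ha b hb c hc
  have h1 := h (T.map H.subtype) (hT.map _) a ⟨a, ha, rfl⟩ b ⟨b, hb, rfl⟩ c ⟨c, hc, rfl⟩
  exact Subtype.ext h1

/-- an element of odd order cannot translate by a fixed `2`-element -/
theorem eq_one_of_translate {y x m : G} (hy : Odd (orderOf y)) (hconj : y * x * y⁻¹ = m * x)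
    (hym : Commute y m) (hm : ∃ k, m ^ 2 ^ k = 1) : m = 1 := by
  have hstep : ∀ n : ℕ, y ^ n * x = m ^ n * x * y ^ n := by
    intro n
    induction n with
    | zero => simp
    | succ n ih =>
      have h1 : y * x = m * x * y := by rw [← hconj]; group
      calc y ^ (n + 1) * x = y * (y ^ n * x) := by rw [pow_succ', mul_assoc]
        _ = (y * m ^ n) * x * y ^ n := by rw [ih]; group
        _ = m ^ n * (y * x) * y ^ n := by rw [(hym.pow_right n).eq]; group
        _ = m ^ (n + 1) * x * y ^ (n + 1) := by rw [h1, pow_succ, pow_succ' y]; group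
  have h := hstep (orderOf y)
  rw [pow_orderOf_eq_one, one_mul, mul_one] at h
  have h2 : m ^ orderOf y = 1 := mul_eq_right.1 h.symm
  obtain ⟨k, hk⟩ := hm
  have h3 : m ^ Nat.gcd (orderOf y) (2 ^ k) = 1 := pow_gcd_eq_one.2 ⟨h2, hk⟩
  rwa [(Nat.Coprime.pow_right k (Nat.coprime_two_right.2 hy) : (orderOf y).Coprime (2 ^ k)), pow_one] at h3

theorem mem_comap_centralizer {N X : Subgroup G} [N.Normal] {g : G} :
    g ∈ (centralizer ((X.map (QuotientGroup.mk' N) : Subgroup (G ⧸ N)) : Set (G ⧸ N))).comap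
      (QuotientGroup.mk' N) ↔ ∀ x ∈ X, ⁅x, g⁆ ∈ N := by
  rw [mem_comap, mem_centralizer_iff]
  constructor
  · intro h x hx
    rw [← QuotientGroup.eq_one_iff, ← QuotientGroup.mk'_apply, map_commutatorElement,
      commutatorElement_eq_one_iff_mul_comm]
    exact h _ ⟨x, hx, rfl⟩
  · rintro h _ ⟨x, hx, rfl⟩
    rw [← commutatorElement_eq_one_iff_mul_comm, ← map_commutatorElement, QuotientGroup.mk'_apply,
      QuotientGroup.eq_one_iff]
    exact h x hx

/-- the central involutions of a subgroup -/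
def omegaCenter (Q : Subgroup G) : Subgroup G where
  carrier := {x | x ∈ Q ∧ (∀ q ∈ Q, q * x = x * q) ∧ x ^ 2 = 1}
  one_mem' := ⟨one_mem Q, fun q _ => by simp, one_pow 2⟩
  mul_mem' := by
    rintro x y ⟨hx, hxc, hx2⟩ ⟨hy, hyc, hy2⟩
    refine ⟨mul_mem hx hy, fun q hq => ?_, ?_⟩
    · rw [← mul_assoc, hxc q hq, mul_assoc, hyc q hq, ← mul_assoc]
    · rw [(show Commute x y from hyc x hx).mul_pow, hx2, hy2, one_mul]
  inv_mem' := by
    rintro x ⟨hx, hxc, hx2⟩
    refine ⟨inv_mem hx, fun q hq => ?_, by rw [inv_pow, hx2, inv_one]⟩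
    exact (show Commute q x from hxc q hq).inv_right.eq

theorem omegaCenter_normal (Q : Subgroup G) [hQ : Q.Normal] : (omegaCenter Q).Normal := by
  refine ⟨fun x hx g => ?_⟩
  obtain ⟨hxQ, hxc, hx2⟩ := hx
  refine ⟨hQ.conj_mem x hxQ g, fun q hq => ?_, ?_⟩
  · have h := hxc (g⁻¹ * q * g) (by simpa [mul_assoc] using hQ.conj_mem q hq g⁻¹)
    calc q * (g * x * g⁻¹) = g * ((g⁻¹ * q * g) * x) * g⁻¹ := by group
      _ = g * (x * (g⁻¹ * q * g)) * g⁻¹ := by rw [h]
      _ = g * x * g⁻¹ * q := by group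
  · show (MulAut.conj g x) ^ 2 = 1
    rw [← map_pow, hx2, map_one]

theorem omegaCenter_elem (Q : Subgroup G) : Cfsg.IsElementaryAbelian 2 (omegaCenter Q) :=
  ⟨⟨⟨fun a b => Subtype.ext (b.2.2.1 a a.2.1)⟩⟩, fun _ ha => ha.2.2⟩

variable [Finite G]

/-- the induction hypothesis: largest elementary abelian subgroups of proper overgroups of `O_2`
lie in their `2`-core -/
def Below (G : Type u) [Group G] : Prop :=
  ∀ H : Subgroup G, H ≠ ⊤ → Cfsg.pCore 2 G ≤ H → ∀ A : Subgroup G, IsLargest A → A ≤ H →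
    A ≤ (Cfsg.pCore 2 ↥H).map H.subtype

theorem pCore_le_map_pCore {H : Subgroup G} (hQH : Cfsg.pCore 2 G ≤ H) :
    Cfsg.pCore 2 G ≤ (Cfsg.pCore 2 ↥H).map H.subtype := by
  haveI : (Cfsg.pCore 2 G).Normal := Cfsg.Lib.Components.pCore_normal' 2
  haveI : ((Cfsg.pCore 2 G).subgroupOf H).Normal := Subgroup.Normal.subgroupOf inferInstance H
  intro x hx
  exact ⟨⟨x, hQH hx⟩, Cfsg.Lib.Components.le_pCore
    ((Cfsg.Lib.Components.isPGroup_pCore 2).of_equiv (subgroupOfEquivOfLe hQH).symm) hx, rfl⟩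

/-- a two-group generated by a two-element and the core of an overgroup -/
theorem exists_two_group {H : Subgroup G} {b : G} (hb : b ∈ H) (hb2 : b ^ 2 = 1) :
    ∃ T : Subgroup G, IsPGroup 2 ↥T ∧ (Cfsg.pCore 2 ↥H).map H.subtype ≤ T ∧ b ∈ T := by
  haveI : (Cfsg.pCore 2 ↥H).Normal := Cfsg.Lib.Components.pCore_normal' 2
  have hz : IsPGroup 2 ↥(zpowers (⟨b, hb⟩ : ↥H)) := by
    rintro ⟨x, hx⟩
    refine ⟨1, Subtype.ext ?_⟩
    obtain ⟨k, rfl⟩ := mem_zpowers_iff.1 hx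
    refine Subtype.ext ?_
    simp only [pow_one, SubgroupClass.coe_pow, SubgroupClass.coe_zpow, OneMemClass.coe_one]
    rw [← zpow_natCast, ← zpow_mul, mul_comm, zpow_mul, zpow_natCast, hb2, one_zpow]
  refine ⟨(zpowers (⟨b, hb⟩ : ↥H) ⊔ Cfsg.pCore 2 ↥H).map H.subtype,
    (hz.to_sup_of_normal_right (Cfsg.Lib.Components.isPGroup_pCore 2)).map _,
    Subgroup.map_mono le_sup_right, ⟨⟨b, hb⟩, mem_sup_left (mem_zpowers _), rfl⟩⟩

theorem main_step (hchar : centralizer (Cfsg.pCore 2 G : Set G) ≤ Cfsg.pCore 2 G)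
    (hcl : ClassTwoLocally G) (hS4 : ¬ Cfsg.Involves (Equiv.Perm (Fin 4)) G) (hbelow : Below G)
    {A : Subgroup G} (hA : IsLargest A) : A ≤ Cfsg.pCore 2 G := by
  classical
  set Q := Cfsg.pCore 2 G with hQdef
  haveI hQn : Q.Normal := Cfsg.Lib.Components.pCore_normal' 2
  have hQp : IsPGroup 2 ↥Q := Cfsg.Lib.Components.isPGroup_pCore 2
  by_contra hAQ
  -- Baer–Suzuki: two conjugates generate everything modulo `Q`
  obtain ⟨g₀, hg₀⟩ : ∃ g : G, ¬ IsPGroup 2 ↥(A ⊔ A.map (MulAut.conj g).toMonoidHom) := by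
    by_contra h
    push Not at h
    obtain ⟨N, hN, hNp, hAN⟩ := Cfsg.Lib.BaerSuzuki.baer_suzuki A h
    haveI := hN
    exact hAQ (hAN.trans (Cfsg.Lib.Components.le_pCore hNp))
  set B := A.map (MulAut.conj g₀).toMonoidHom with hBdef
  have hB : IsLargest B := isLargest_conj hA g₀
  have hgen : A ⊔ B ⊔ Q = ⊤ := by
    by_contra hne
    refine hg₀ (((Cfsg.Lib.Components.isPGroup_pCore 2).map
      (A ⊔ B ⊔ Q : Subgroup G).subtype).to_le (sup_le ?_ ?_))
    · exact hbelow _ hne le_sup_right A hA (le_sup_left.trans le_sup_left)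
    · exact hbelow _ hne le_sup_right B hB (le_sup_right.trans le_sup_left)
  -- `Q` together with a `2`-subgroup
  have hsup : ∀ T : Subgroup G, IsPGroup 2 ↥T → IsPGroup 2 ↥(T ⊔ Q) := fun T hT =>
    hT.to_sup_of_normal_right hQp
  set ZQ := Q ⊓ centralizer (Q : Set G) with hZQ
  haveI : ZQ.Normal := Subgroup.normal_inf_normal Q (centralizer (Q : Set G))
  -- `G` is trivial on `Q/Z(Q)`
  have htrivQ : ∀ g : G, ∀ x ∈ Q, ⁅x, g⁆ ∈ ZQ := by
    set N := (centralizer ((Q.map (QuotientGroup.mk' ZQ) : Subgroup _) : Set (G ⧸ ZQ))).comap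
      (QuotientGroup.mk' ZQ) with hN
    have h1 : ∀ T : Subgroup G, IsPGroup 2 ↥T → T ≤ N := by
      intro T hT g hg
      rw [hN, mem_comap_centralizer]
      intro x hx
      refine ⟨?_, mem_centralizer_iff.2 fun q hq => ?_⟩
      · have : g * x⁻¹ * g⁻¹ ∈ Q := hQn.conj_mem _ (inv_mem hx) g
        rw [commutatorElement_def, show x * g * x⁻¹ * g⁻¹ = x * (g * x⁻¹ * g⁻¹) by group]
        exact mul_mem hx this
      · exact ((hcl _ (hsup T hT) x (mem_sup_right hx) g (mem_sup_left hg) q (mem_sup_right hq))).eq.symm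
    intro g
    rw [← mem_comap_centralizer]
    exact ((sup_le (sup_le (h1 A (elem_isPGroup hA.1)) (h1 B (elem_isPGroup hB.1))) (h1 Q hQp)) :
      A ⊔ B ⊔ Q ≤ N) (hgen ▸ mem_top g)
  set V := omegaCenter Q with hVdef
  haveI hVn : V.Normal := omegaCenter_normal Q
  have hVQ : V ≤ Q := fun x hx => hx.1
  have hVzq : ∀ x ∈ ZQ, x ^ 2 = 1 → x ∈ V := fun x hx h2 =>
    ⟨hx.1, fun q hq => mem_centralizer_iff.1 hx.2 q hq, h2⟩
  -- odd elements centralising `V` are trivial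
  have hfaith : ∀ y : G, Odd (orderOf y) → (∀ x ∈ V, Commute y x) → y = 1 := by
    intro y hy hV
    have hZ : ∀ e : ℕ, ∀ x ∈ ZQ, x ^ 2 ^ e = 1 → Commute y x := by
      intro e
      induction e with
      | zero => intro x _ h; rw [pow_zero, pow_one] at h; rw [h]; exact Commute.one_right y
      | succ e ih =>
        intro x hx h
        have h2 : Commute y (x ^ 2) := ih _ (pow_mem hx 2) (by rw [← pow_mul, ← pow_succ']; exact h)
        set m := y * x * y⁻¹ * x⁻¹ with hm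
        have hyx : y * x * y⁻¹ ∈ ZQ := ‹ZQ.Normal›.conj_mem x hx y
        have hmZ : m ∈ ZQ := mul_mem hyx (inv_mem hx)
        have hm2 : m ^ 2 = 1 := by
          have hc : Commute (y * x * y⁻¹) x⁻¹ := (show Commute (y * x * y⁻¹) x from
            (mem_centralizer_iff.1 hx.2 _ hyx.1)).inv_right
          rw [hm, hc.mul_pow, inv_pow,
            show (y * x * y⁻¹) ^ 2 = y * x ^ 2 * y⁻¹ by rw [pow_two, pow_two]; group, h2.eq]
          group
        have := eq_one_of_translate hy (show y * x * y⁻¹ = m * x by rw [hm]; group)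
          (hV m (hVzq m hmZ hm2)) ⟨1, by simpa using hm2⟩
        exact mul_inv_eq_iff_eq_mul.1 (mul_inv_eq_one.1 (hm ▸ this) : y * x * y⁻¹ = x)
    have hyQ : y ∈ centralizer (Q : Set G) := by
      rw [mem_centralizer_iff]
      intro x hx
      set m := y * x * y⁻¹ * x⁻¹ with hm
      have hmZ : m ∈ ZQ := by
        rw [hm, ← commutatorElement_def, ← commutatorElement_inv x y]
        exact inv_mem (htrivQ y x hx)
      obtain ⟨k, hk⟩ := hQp ⟨m, hmZ.1⟩
      have hk' : m ^ 2 ^ k = 1 := by simpa using congrArg Subtype.val hk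
      have := eq_one_of_translate hy (show y * x * y⁻¹ = m * x by rw [hm]; group) (hZ k m hmZ hk') ⟨k, hk'⟩
      exact (mul_inv_eq_iff_eq_mul.1 (mul_inv_eq_one.1 (hm ▸ this) : y * x * y⁻¹ = x)).symm
    obtain ⟨k, hk⟩ := hQp ⟨y, hchar hyQ⟩
    have hk' : y ^ 2 ^ k = 1 := by simpa using congrArg Subtype.val hk
    have h3 := pow_gcd_eq_one.2 ⟨pow_orderOf_eq_one y, hk'⟩
    rwa [(Nat.Coprime.pow_right k (Nat.coprime_two_right.2 hy) : (orderOf y).Coprime (2 ^ k)), pow_one] at h3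
  set CA := V ⊓ centralizer (A : Set G) with hCA
  set CB := V ⊓ centralizer (B : Set G) with hCB
  set W := CA ⊓ CB with hW
  have hWc : W ≤ center G := by
    have h1 : A ⊔ B ⊔ Q ≤ centralizer (W : Set G) := by
      refine sup_le (sup_le ?_ ?_) ?_
      · rw [le_centralizer_iff]; exact fun w hw => hw.1.2
      · rw [le_centralizer_iff]; exact fun w hw => hw.2.2
      · rw [le_centralizer_iff]; exact fun w hw => mem_centralizer_iff.2 fun q hq => hw.1.1.2.1 q hq
    rw [hgen, le_centralizer_iff, coe_top, centralizer_univ] at h1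
    exact h1
  haveI hWn : W.Normal := ⟨fun w hw g => by
    have h := mem_center_iff.1 (hWc hw) g
    rwa [h, mul_inv_cancel_right]⟩
  -- the kernel of the action on the series `1 ≤ W ≤ V`
  set K := (centralizer ((V.map (QuotientGroup.mk' W) : Subgroup _) : Set (G ⧸ W))).comap
    (QuotientGroup.mk' W) with hK
  haveI hKn : K.Normal := by
    haveI : (V.map (QuotientGroup.mk' W)).Normal := hVn.map _ (QuotientGroup.mk'_surjective W)
    rw [hK]; infer_instance
  have hKQ : K ≤ Q := by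
    have hKp : IsPGroup 2 ↥K := by
      apply IsPGroup.of_card (n := (Nat.card K).primeFactorsList.length)
      by_contra hne
      obtain ⟨r, hr, hrd, hr2⟩ : ∃ r, r.Prime ∧ r ∣ Nat.card K ∧ r ≠ 2 := by
        by_contra hall
        push Not at hall
        exact hne (Nat.eq_prime_pow_of_unique_prime_dvd Nat.card_pos.ne' fun {d} hd hdd => hall d hd hdd)
      haveI := Fact.mk hr
      obtain ⟨⟨y, hyK⟩, hy⟩ := exists_prime_orderOf_dvd_card' (G := ↥K) r hrd
      rw [orderOf_mk] at hy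
      have hodd : Odd (orderOf y) := hy ▸ hr.odd_of_ne_two hr2
      have hy1 := hfaith y hodd fun x hx => ?_
      · rw [hy1, orderOf_one] at hy; exact hr.one_lt.ne hy
      rw [hK, mem_comap_centralizer] at hyK
      have hm : ⁅x, y⁆ ∈ W := hyK x hx
      set m := y * x * y⁻¹ * x⁻¹ with hm'
      have hmW : m ∈ W := by rw [hm', ← commutatorElement_def, ← commutatorElement_inv x y]; exact inv_mem hm
      have := eq_one_of_translate hodd (show y * x * y⁻¹ = m * x by rw [hm']; group)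
        (mem_center_iff.1 (hWc hmW) y) ⟨1, by simpa using hmW.1.1.2.2⟩
      exact mul_inv_eq_iff_eq_mul.1 (mul_inv_eq_one.1 (hm' ▸ this) : y * x * y⁻¹ = x)
    exact Cfsg.Lib.Components.le_pCore hKp
  -- commutators of `V` with a member of a `2`-group
  have hVc : ∀ T : Subgroup G, IsPGroup 2 ↥T → ∀ x ∈ V, ∀ t ∈ T, ∀ s ∈ T, Commute ⁅x, t⁆ s :=
    fun T hT x hx t ht s hs =>
      hcl _ (hsup T hT) x (mem_sup_right (hVQ hx)) t (mem_sup_left ht) s (mem_sup_left hs)
  have hVV : ∀ x ∈ V, ∀ g : G, ⁅x, g⁆ ∈ V := fun x hx g => by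
    rw [commutatorElement_def, show x * g * x⁻¹ * g⁻¹ = x * (g * x⁻¹ * g⁻¹) by group]
    exact mul_mem hx (hVn.conj_mem _ (inv_mem hx) g)
  -- semiregularity
  have semi : ∀ A₁ B₁ : Subgroup G, IsLargest A₁ → IsLargest B₁ → A₁ ⊔ B₁ ⊔ Q = ⊤ →
      W = (V ⊓ centralizer (A₁ : Set G)) ⊓ (V ⊓ centralizer (B₁ : Set G)) →
      (∀ b ∈ B₁, ∃ g : G, ∃ a ∈ A₁, b = g * a * g⁻¹) →
      ∀ v ∈ V ⊓ centralizer (A₁ : Set G), v ∉ W → ∀ b ∈ B₁, ⁅v, b⁆ ∈ W → b ∈ Q := by
    intro A₁ B₁ hA₁ hB₁ hgen₁ hW₁ hcj v hv hvW b hb hvb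
    set H := (centralizer ((zpowers v).map (QuotientGroup.mk' W) : Set (G ⧸ W))).comap
      (QuotientGroup.mk' W) with hH
    have hmemH : ∀ x : G, ⁅v, x⁆ ∈ W → x ∈ H := by
      intro x hx
      rw [hH, mem_comap, MonoidHom.map_zpowers, zpowers_eq_closure, centralizer_closure,
        mem_centralizer_singleton_iff, eq_comm, ← commutatorElement_eq_one_iff_mul_comm,
        ← map_commutatorElement, QuotientGroup.mk'_apply, QuotientGroup.eq_one_iff]
      exact hx
    have hA₁H : A₁ ≤ H := fun a ha => hmemH a (by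
      rw [commutatorElement_eq_one_iff_mul_comm.2 (mem_centralizer_iff.1 hv.2 a ha).symm]
      exact one_mem W)
    have hQH : Q ≤ H := fun q hq => hmemH q (by
      rw [commutatorElement_eq_one_iff_mul_comm.2 (hv.1.2.1 q hq).symm]
      exact one_mem W)
    have hHt : H ≠ ⊤ := by
      intro hHt
      refine hvW (hW₁.ge ⟨hv, hv.1, mem_centralizer_iff.2 fun b' hb' => ?_⟩)
      obtain ⟨g, a, ha, rfl⟩ := hcj b' hb'
      have hg : ⁅v, g⁆ ∈ W := by
        have h0 : g ∈ H := hHt ▸ mem_top g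
        rw [hH, mem_comap_centralizer] at h0
        exact h0 v (mem_zpowers v)
      set z := ⁅v, g⁆ with hz
      have hzc : ∀ x, Commute x z := fun x => mem_center_iff.1 (hWc hg) x
      have hva : v * a * v⁻¹ = a := mul_inv_eq_iff_eq_mul.2 (mem_centralizer_iff.1 hv.2 a ha).symm
      have e : v * (g * a * g⁻¹) * v⁻¹ = g * a * g⁻¹ := by
        calc v * (g * a * g⁻¹) * v⁻¹ = (v * g * v⁻¹) * (v * a * v⁻¹) * (v * g * v⁻¹)⁻¹ := by group
          _ = (z * g) * a * (z * g)⁻¹ := by rw [hva, hz, commutatorElement_def]; group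
          _ = z * (g * a * g⁻¹) * z⁻¹ := by group
          _ = g * a * g⁻¹ := by rw [← (hzc _).eq, mul_inv_cancel_right]
      exact (mul_inv_eq_iff_eq_mul.1 e).symm
    have hA₁R := hbelow H hHt hQH A₁ hA₁ hA₁H
    obtain ⟨T, hT, hRT, hbT⟩ := exists_two_group (hmemH b hvb) (hB₁.1.2 b hb)
    refine hKQ ?_
    rw [hK, mem_comap_centralizer]
    intro x hx
    rw [hW₁]
    refine ⟨⟨hVV x hx b, mem_centralizer_iff.2 fun a ha => ?_⟩,
      ⟨hVV x hx b, mem_centralizer_iff.2 fun c hc => ?_⟩⟩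
    · exact ((hVc T hT x hx b hbT a (hRT (hA₁R ha))).eq).symm
    · exact ((hVc B₁ (elem_isPGroup hB₁.1) x hx b hb c hc).eq).symm
  have hcjB : ∀ b ∈ B, ∃ g : G, ∃ a ∈ A, b = g * a * g⁻¹ := by
    rintro _ ⟨a, ha, rfl⟩
    exact ⟨g₀, a, ha, rfl⟩
  have hcjA : ∀ a ∈ A, ∃ g : G, ∃ b ∈ B, a = g * b * g⁻¹ := fun a ha =>
    ⟨g₀⁻¹, g₀ * a * g₀⁻¹, ⟨a, ha, rfl⟩, by group⟩
  -- an element of `C_V(B)` outside `W`
  obtain ⟨v₀, hv₀, hv₀W⟩ : ∃ v ∈ CB, v ∉ W := by
    by_contra h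
    push Not at h
    refine hAQ fun a ha => ?_
    obtain ⟨g, b, hb, rfl⟩ := hcjA a ha
    refine hQn.conj_mem b (hKQ ?_) g
    rw [hK, mem_comap_centralizer]
    intro x hx
    exact h _ ⟨hVV x hx b, mem_centralizer_iff.2 fun c hc =>
      ((hVc B (elem_isPGroup hB.1) x hx b hb c hc).eq).symm⟩
  obtain ⟨a, ha, haQ⟩ := SetLike.not_le_iff_exists.1 hAQ
  have hsemiA : ∀ v ∈ CB, v ∉ W → ∀ a ∈ A, ⁅v, a⁆ ∈ W → a ∈ Q :=
    semi B A hB hA (by rw [sup_comm B A, hgen]) (by rw [hW, inf_comm]) hcjA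
  have hsemiB : ∀ v ∈ CA, v ∉ W → ∀ b ∈ B, ⁅v, b⁆ ∈ W → b ∈ Q :=
    semi A B hA hB hgen rfl hcjB
  set v₁ := ⁅v₀, a⁆ with hv₁
  have hv₁W : v₁ ∉ W := fun h => haQ (hsemiA v₀ hv₀ hv₀W a ha h)
  have hv₁A : v₁ ∈ CA := ⟨hVV v₀ hv₀.1 a, mem_centralizer_iff.2 fun c hc =>
    ((hVc A (elem_isPGroup hA.1) v₀ hv₀.1 a ha c hc).eq).symm⟩
  -- `b ↦ [v₁, b]` covers `C_V(B)` modulo `W`
  let φ : ↥B →* G ⧸ W := MonoidHom.mk' (fun b => QuotientGroup.mk' W ⁅v₁, (b : G)⁆) fun b c => by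
    rw [← map_mul]
    congr 1
    rw [Subgroup.coe_mul, commutatorElement_mul_right_eq_mul_conj]
    have hc := (hVc B (elem_isPGroup hB.1) v₁ hv₁A.1 c c.2 b b.2).eq
    calc ⁅v₁, (b : G)⁆ * (b : G) * ⁅v₁, (c : G)⁆ * (b : G)⁻¹
        = ⁅v₁, (b : G)⁆ * ((b : G) * ⁅v₁, (c : G)⁆) * (b : G)⁻¹ := by group
      _ = ⁅v₁, (b : G)⁆ * ⁅v₁, (c : G)⁆ := by rw [← hc]; group
  have hrange : φ.range ≤ CB.map (QuotientGroup.mk' W) := by
    rintro _ ⟨b, rfl⟩
    exact ⟨⁅v₁, (b : G)⁆, ⟨hVV v₁ hv₁A.1 b, mem_centralizer_iff.2 fun c hc =>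
      ((hVc B (elem_isPGroup hB.1) v₁ hv₁A.1 b b.2 c hc).eq).symm⟩, rfl⟩
  have hker : φ.ker ≤ Q.subgroupOf B := by
    intro b hb
    rw [MonoidHom.mem_ker] at hb
    exact hsemiB v₁ hv₁A hv₁W b b.2 ((QuotientGroup.eq_one_iff _).1 hb)
  have h1 : Nat.card φ.range ≥ Q.relIndex B := by
    rw [← index_ker φ]
    exact Nat.le_of_dvd (Nat.pos_of_ne_zero index_ne_zero_of_finite) (index_dvd_of_le hker)
  have h2 : Nat.card ↥(CB.map (QuotientGroup.mk' W)) = CA.relIndex CB := by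
    have e : ((QuotientGroup.mk' W).comp CB.subtype).ker = W.subgroupOf CB := by
      rw [← MonoidHom.comap_ker, QuotientGroup.ker_mk']; rfl
    have e2 := index_ker ((QuotientGroup.mk' W).comp CB.subtype)
    rw [e, MonoidHom.range_comp, range_subtype] at e2
    rw [← e2, hW]
    exact inf_relIndex_right CA CB
  have h3 : CA.relIndex CB ≤ CA.relIndex V :=
    relIndex_le_of_le_right (inf_le_left : CB ≤ V) (index_ne_zero_of_finite (H := CA.subgroupOf V))
  have h4 : CA.relIndex V ≤ (A ⊓ V).relIndex V := by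
    refine relIndex_le_of_le_left ?_ (index_ne_zero_of_finite (H := (A ⊓ V).subgroupOf V))
    exact fun x hx => ⟨hx.2, mem_centralizer_iff.2 fun c hc => elem_comm hA.1 hc hx.1⟩
  have h5 : (A ⊓ V).relIndex V ≤ Q.relIndex A := by
    set D := A ⊓ Q with hD
    have hDV : D ⊓ V = A ⊓ V := by
      rw [hD, inf_assoc, inf_eq_right.2 hVQ]
    have hE : Cfsg.IsElementaryAbelian 2 (D ⊔ V) := by
      have hc : ∀ d ∈ D, ∀ x ∈ V, d * x = x * d := fun d hd x hx => hx.2.1 d hd.2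
      have hab : IsMulCommutative ↥(D ⊔ V) := by
        rw [← le_centralizer_iff_isMulCommutative]
        refine sup_le ?_ ?_ <;> rw [le_centralizer_iff] <;> refine sup_le ?_ ?_ <;>
          intro u hu <;> rw [mem_centralizer_iff] <;> intro w hw
        · exact elem_comm hA.1 hw.1 hu.1
        · exact hc w hw u hu
        · exact (hc u hu w hw).symm
        · exact elem_comm (omegaCenter_elem Q) hw hu
      refine ⟨hab, fun x hx => ?_⟩
      rw [← SetLike.mem_coe, Subgroup.mul_normal] at hx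
      obtain ⟨d, hd, w, hw, rfl⟩ := hx
      rw [(show Commute d w from hc d hd w hw).mul_pow, hA.1.2 d hd.1, hw.2.2, one_mul]
    have hle := hA.2 _ hE
    have key : ∀ X Y : Subgroup G, X ≤ Y → Nat.card Y = Nat.card X * X.relIndex Y := fun X Y h => by
      rw [← relIndex_bot_left, ← relIndex_bot_left, relIndex_mul_relIndex ⊥ X Y bot_le h]
    have c1 : Nat.card ↥(D ⊔ V) = Nat.card V * V.relIndex D := by
      rw [key V (D ⊔ V) le_sup_right, relIndex_sup_right D V]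
    have c2 : Nat.card A = Nat.card D * Q.relIndex A := by
      rw [key D A (hD.trans_le inf_le_left), hD, inf_relIndex_left]
    have c3 : Nat.card V = Nat.card ↥(A ⊓ V) * (A ⊓ V).relIndex V := key _ _ inf_le_right
    have c4 : Nat.card D = Nat.card ↥(A ⊓ V) * V.relIndex D := by
      rw [← hDV, key (D ⊓ V) D inf_le_left, inf_relIndex_left]
    rw [c1, c2] at hle
    refine Nat.le_of_mul_le_mul_left ?_ (Nat.card_pos (α := D))
    calc Nat.card D * (A ⊓ V).relIndex V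
        = Nat.card V * V.relIndex D := by rw [c4, c3]; ring
      _ ≤ Nat.card D * Q.relIndex A := hle
  have h6 : Q.relIndex B = Q.relIndex A := by
    conv_lhs => rw [hBdef, ← Normal.map_conj_eq Q g₀]
    exact relIndex_map_map_of_injective _ _ (MulAut.conj g₀).injective
  have hfull : φ.range = CB.map (QuotientGroup.mk' W) := by
    refine eq_of_le_of_card_ge hrange ?_
    rw [h2]
    exact (h3.trans (h4.trans h5)).trans (h6 ▸ h1)
  obtain ⟨b, hbe⟩ : ∃ b : ↥B, φ b = QuotientGroup.mk' W v₀ := by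
    have : QuotientGroup.mk' W v₀ ∈ φ.range := hfull ▸ ⟨v₀, hv₀, rfl⟩
    exact this
  set w := ⁅v₁, (b : G)⁆ with hw
  obtain ⟨z, hz, hzw⟩ : ∃ z ∈ W, w = v₀ * z := by
    refine ⟨v₀⁻¹ * w, ?_, by group⟩
    exact QuotientGroup.eq.1 hbe.symm
  -- four-group with its full automorphism group
  have hv₁V : v₁ ∈ V := hv₁A.1
  have hwV : w ∈ V := hVV v₁ hv₁V b
  have hsq : ∀ x ∈ V, x * x = 1 := fun x hx => by rw [← pow_two]; exact hx.2.2
  have hinv : ∀ x ∈ V, x⁻¹ = x := fun x hx => inv_eq_of_mul_eq_one_right (hsq x hx)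
  have hcVV : ∀ x ∈ V, ∀ y ∈ V, x * y = y * x := fun x hx y hy => elem_comm (omegaCenter_elem Q) hx hy
  have hwB : w ∈ CB := hzw ▸ mul_mem hv₀ hz.2
  have hv₁ne : v₁ ≠ 1 := fun h => hv₁W (h ▸ one_mem W)
  have hwne : w ≠ 1 := by
    intro h
    exact hv₀W (by rw [hzw] at h; rw [eq_inv_of_mul_eq_one_left h]; exact inv_mem hz)
  have hne : v₁ ≠ w := by
    intro h
    exact hv₁W ⟨hv₁A, h ▸ hwB⟩
  have hav₁ : a * v₁ * a⁻¹ = v₁ := by
    rw [mem_centralizer_iff.1 hv₁A.2 a ha, mul_inv_cancel_right]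
  have hbw : (b : G) * w * (b : G)⁻¹ = w := by
    rw [mem_centralizer_iff.1 hwB.2 b b.2, mul_inv_cancel_right]
  have hconjv : ∀ x ∈ V, ∀ g : G, g * x * g⁻¹ = ⁅x, g⁆ * x := fun x hx g => by
    have h1 : g * x⁻¹ * g⁻¹ = g * x * g⁻¹ := by rw [hinv x hx]
    have h2 : ⁅x, g⁆ = x * (g * x * g⁻¹) := by rw [commutatorElement_def, ← h1]; group
    have h3 : x * (g * x * g⁻¹) * x = g * x * g⁻¹ := by
      rw [hcVV x hx _ (hVn.conj_mem x hx g), mul_assoc, hsq x hx, mul_one]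
    rw [h2, h3]
  have haw : a * w * a⁻¹ = v₁ * w := by
    calc a * w * a⁻¹ = (a * v₀ * a⁻¹) * (a * z * a⁻¹) := by rw [hzw]; group
      _ = v₁ * v₀ * z := by
          rw [hconjv v₀ hv₀.1 a, (mem_center_iff.1 (hWc hz) a), mul_inv_cancel_right]
      _ = v₁ * w := by rw [hzw, mul_assoc]
  have hbu : (b : G) * v₁ * (b : G)⁻¹ = v₁ * w := by
    rw [hconjv v₁ hv₁V b, ← hw, hcVV w hwV v₁ hv₁V]
  exact hS4 (Cfsg.Lib.Sfour.involves_perm4 (hsq v₁ hv₁V) (hsq w hwV) hv₁ne hwne hne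
    (hcVV v₁ hv₁V w hwV) hav₁ haw hbw hbu)

theorem main : ∀ (n : ℕ) (G : Type u) [Group G] [Finite G], Nat.card G = n →
    centralizer (Cfsg.pCore 2 G : Set G) ≤ Cfsg.pCore 2 G → ClassTwoLocally G →
    ¬ Cfsg.Involves (Equiv.Perm (Fin 4)) G → ∀ A : Subgroup G, IsLargest A → A ≤ Cfsg.pCore 2 G := by
  intro n
  induction n using Nat.strong_induction_on with
  | _ n ih =>
  intro G _ _ hn hchar hcl hS4 A hA
  refine main_step hchar hcl hS4 (fun H hH hQH A₁ hA₁ hA₁H => ?_) hA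
  have hlt : Nat.card ↥H < n := hn ▸ lt_of_le_of_ne (card_le_card_group H) fun h => hH (eq_top_of_card_eq H h)
  have hQR := pCore_le_map_pCore hQH
  have hcharH : centralizer (Cfsg.pCore 2 ↥H : Set ↥H) ≤ Cfsg.pCore 2 ↥H := by
    intro c hc
    have hcG : (c : G) ∈ centralizer (Cfsg.pCore 2 G : Set G) := mem_centralizer_iff.2 fun q hq => by
      obtain ⟨q', hq', rfl⟩ := hQR hq
      exact congrArg Subtype.val (mem_centralizer_iff.1 hc q' hq')
    obtain ⟨c', hc', he⟩ := hQR (hchar hcG)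
    exact (Subtype.ext he : c' = c) ▸ hc'
  have h := ih _ hlt ↥H rfl hcharH (classTwoLocally_subgroup hcl H)
    (fun h => hS4 (Cfsg.Lib.QdFree.involves_of_injective H.subtype_injective h))
    _ (isLargest_subgroupOf hA₁ hA₁H)
  intro x hx
  exact ⟨⟨x, hA₁H hx⟩, h hx, rfl⟩

end Cfsg.Lib.ThompsonClassTwo
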