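import Mathlib
import Cfsg.Agent.S0700

set_option autoImplicit false

/-!
Doubly transitive groups of degree congruent to 2 modulo 4.
-/

namespace Cfsg.Lib.TwoModFour

open MulAction
open scoped Pointwise

variable {G : Type*} [Group G]

/-- Two subgroups of `K` of full 2-part order are conjugate inside `K`. -/
theorem conj_in [Finite G] (K Q R : Subgroup G) (hQ : Q ≤ K) (hR : R ≤ K)
    (hQc : Nat.card Q = 2 ^ (Nat.card K).factorization 2) (hRc : Nat.card R = 2 ^ (Nat.card K).factorization 2) :
    ∃ h ∈ K, R.map (MulAut.conj h).toMonoidHom = Q := by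
  let Q' : Sylow 2 K := Sylow.ofCard (Q.subgroupOf K)
    (by rw [Nat.card_congr (Subgroup.subgroupOfEquivOfLe hQ).toEquiv]; exact hQc)
  let R' : Sylow 2 K := Sylow.ofCard (R.subgroupOf K)
    (by rw [Nat.card_congr (Subgroup.subgroupOfEquivOfLe hR).toEquiv]; exact hRc)
  obtain ⟨h, hh⟩ := exists_smul_eq K R' Q'
  refine ⟨h, h.2, ?_⟩
  have h1 : (R.subgroupOf K).map (MulAut.conj h).toMonoidHom = Q.subgroupOf K := congrArg (fun S : Sylow 2 K => (S : Subgroup K)) hh
  have h1 := congrArg (Subgroup.map K.subtype) h1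
  rw [Subgroup.map_map, Subgroup.map_subgroupOf_eq_of_le hQ] at h1
  have h2 : K.subtype.comp (MulAut.conj h).toMonoidHom = (MulAut.conj (h : G)).toMonoidHom.comp K.subtype := MonoidHom.ext fun _ => rfl
  rw [h2, ← Subgroup.map_map, Subgroup.map_subgroupOf_eq_of_le hR] at h1
  exact h1

variable {Ω : Type*} [MulAction G Ω] [Fintype Ω]

/-- A transitive normal subgroup containing no regular part: it is doubly transitive. -/
theorem two_transitive [Finite G] [FaithfulSMul G Ω] (h2 : IsMultiplyPretransitive G Ω 2)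
    (hn : Fintype.card Ω % 4 = 2) (M : Subgroup G) [hM : M.Normal] [IsPretransitive M Ω] :
    IsMultiplyPretransitive M Ω 2 := by
  classical
  have G2 : ∀ {a b c d : Ω}, a ≠ b → c ≠ d → ∃ g : G, g • a = c ∧ g • b = d :=
    fun h h' => (is_two_pretransitive_iff.1 h2) h h'
  -- every orbital of `M` is self-paired
  have hswap : ∀ a b : Ω, a ≠ b → ∃ m ∈ M, m • a = b ∧ m • b = a := by
    intro a b hab
    have he : 2 ∣ Nat.card M := by
      refine (show 2 ∣ Nat.card Ω by rw [Nat.card_eq_fintype_card]; omega).trans ?_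
      rw [← index_stabilizer_of_transitive M a]
      exact Subgroup.index_dvd_card _
    haveI : Fact (Nat.Prime 2) := ⟨Nat.prime_two⟩
    obtain ⟨t, ht⟩ := exists_prime_orderOf_dvd_card' 2 he
    obtain ⟨c, hc⟩ : ∃ c : Ω, (t : G) • c ≠ c := by
      by_contra! h
      have : (t : G) = 1 := FaithfulSMul.eq_of_smul_eq_smul (α := Ω) fun z => by rw [h z, one_smul]
      rw [Subtype.ext (a2 := (1 : M)) this, orderOf_one] at ht
      omega
    obtain ⟨g, g1, g2⟩ := G2 (Ne.symm hc) hab
    have ht2 : (t : G) * t = 1 := by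
      have := pow_orderOf_eq_one t
      rw [ht, pow_two] at this
      exact congrArg Subtype.val this
    refine ⟨g * t * g⁻¹, hM.conj_mem _ t.2 g, ?_, ?_⟩
    · rw [← g1, mul_smul, mul_smul, inv_smul_smul, g2]
    · rw [← g2, mul_smul, mul_smul, inv_smul_smul, ← mul_smul (t : G), ht2, one_smul, g1]
  have hpart : ∀ a b : Ω, a ≠ b → ∀ c : Ω, c ≠ a → ∃ m ∈ M, m • a = a ∧ m • b = c := by
    intro a b₀ hab₀ c hca
    -- a Sylow 2-subgroup of the point stabiliser
    set A := M ⊓ stabilizer G a with hA
    haveI : Fact (Nat.Prime 2) := ⟨Nat.prime_two⟩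
    obtain ⟨Q₀⟩ : Nonempty (Sylow 2 A) := inferInstance
    set Q := (Q₀ : Subgroup A).map A.subtype with hQdef
    have hQA : Q ≤ A := Subgroup.map_subtype_le _
    have hQp : IsPGroup 2 Q := Q₀.isPGroup'.map _
    have hQc : Nat.card Q = 2 ^ (Nat.card A).factorization 2 := by
      rw [hQdef, Subgroup.card_subtype, Q₀.card_eq_multiplicity]
    have hMcard : ∀ b : Ω, Nat.card M = Fintype.card Ω * Nat.card ↥(M ⊓ stabilizer G b) := by
      intro b
      have e1 : (stabilizer M b).index = Fintype.card Ω := by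
        rw [index_stabilizer_of_transitive, Nat.card_eq_fintype_card]
      have e2 : Nat.card (stabilizer M b) = Nat.card ↥(M ⊓ stabilizer G b) :=
        Nat.card_congr ⟨fun x => ⟨x.1, x.1.2, x.2⟩, fun x => ⟨⟨x.1, x.2.1⟩, x.2.2⟩, fun _ => rfl, fun _ => rfl⟩
      rw [← e1, ← e2, mul_comm, Subgroup.card_mul_index]
    have hΩ0 : Fintype.card Ω ≠ 0 := by omega
    have hAb : ∀ b : Ω, Nat.card ↥(M ⊓ stabilizer G b) = Nat.card A := fun b =>
      Nat.eq_of_mul_eq_mul_left (Nat.pos_of_ne_zero hΩ0) ((hMcard b).symm.trans (hMcard a))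
    let F : Set Ω := {x | ∀ q ∈ Q, q • x = x}
    have haF : a ∈ F := fun q hq => (hQA hq).2
    -- its normaliser in `M`
    set X := M ⊓ Subgroup.normalizer (Q : Set G) with hX
    have hQX : Q ≤ X := le_inf (hQA.trans inf_le_left) Subgroup.le_normalizer
    have hXF : ∀ x ∈ Subgroup.normalizer (Q : Set G), ∀ f ∈ F, x • f ∈ F := fun x hx f hf q hq => by
      have h1 := hf _ ((Subgroup.mem_normalizer_iff''.1 hx q).1 hq)
      rw [mul_smul, mul_smul, inv_smul_eq_iff] at h1
      exact h1
    -- `X` is transitive on the fixed points and interchanges any two of them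
    have hmove : ∀ (u v : Ω) (m : G), m ∈ M → m • u = v → u ∈ F → v ∈ F → ∀ K : Subgroup G, K ≤ M ⊓ stabilizer G v →
        Q ≤ K → Q.map (MulAut.conj m).toMonoidHom ≤ K → Nat.card K ∣ Nat.card A →
        ∃ x ∈ X, x • u = v ∧ ∃ h ∈ K, x = h * m := by
      intro u v m hm hmu hu hv K hK hQK hQmK hKA
      have hf : (Nat.card K).factorization 2 = (Nat.card A).factorization 2 := by
        refine le_antisymm ((Nat.factorization_le_iff_dvd Nat.card_pos.ne' Nat.card_pos.ne').2 hKA 2) ?_
        have h1 := Subgroup.card_dvd_of_le hQK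
        rw [hQc] at h1
        exact (Nat.Prime.pow_dvd_iff_le_factorization Nat.prime_two Nat.card_pos.ne').1 h1
      obtain ⟨h, hh, he⟩ := conj_in K Q _ hQK hQmK (by rw [hf]; exact hQc)
        (by rw [Subgroup.card_map_of_injective (MulAut.conj m).injective, hf]; exact hQc)
      refine ⟨h * m, ⟨M.mul_mem (hK hh).1 hm, ?_⟩, ?_, h, hh, rfl⟩
      · rw [Subgroup.map_map] at he
        refine Subgroup.mem_normalizer_iff.2 fun q => ⟨fun hq => ?_, fun hq => ?_⟩
        · rw [← he]
          refine ⟨q, hq, ?_⟩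
          show MulAut.conj h (MulAut.conj m q) = h * m * q * (h * m)⁻¹
          simp [MulAut.conj_apply, mul_assoc]
        · obtain ⟨w, hw, hwe⟩ : h * m * q * (h * m)⁻¹ ∈ Q.map ((MulAut.conj h).toMonoidHom.comp (MulAut.conj m).toMonoidHom) := by
            rw [he]; exact hq
          have : MulAut.conj (h * m) w = MulAut.conj (h * m) q := by
            rw [map_mul]; show MulAut.conj h (MulAut.conj m w) = _
            exact hwe.trans (by simp [MulAut.conj_apply, mul_assoc])
          rwa [← (MulAut.conj (h * m)).injective this]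
      · rw [mul_smul, hmu]; exact (hK hh).2
    have hXtr : ∀ v ∈ F, ∃ x ∈ X, x • a = v := by
      intro v hv
      obtain ⟨m, hm⟩ := exists_smul_eq M a v
      obtain ⟨x, hx, hxa, -⟩ := hmove a v m m.2 hm haF hv (M ⊓ stabilizer G v) le_rfl
        (le_inf (hQA.trans inf_le_left) fun q hq => hv q hq) (by
          rintro _ ⟨q, hq, rfl⟩
          refine ⟨hM.conj_mem _ (hQA hq).1 _, ?_⟩
          show ((m : G) * q * (m : G)⁻¹) • v = v
          rw [show v = (m : G) • a from hm.symm, mul_smul, mul_smul, inv_smul_smul, (hQA hq).2])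
        (hAb v).dvd
      exact ⟨x, hx, hxa⟩
    have hXswap : ∀ v ∈ F, v ≠ a → ∃ x ∈ X, x • a = v ∧ x • v = a := by
      intro v hv hva
      obtain ⟨m, hm, m1, m2⟩ := hswap a v (Ne.symm hva)
      obtain ⟨x, hx, hxa, h, hh, rfl⟩ := hmove a v m hm m1 haF hv (A ⊓ stabilizer G v)
        (inf_le_inf_right _ inf_le_left) (le_inf hQA fun q hq => hv q hq) (by
          rintro _ ⟨q, hq, rfl⟩
          refine ⟨⟨hM.conj_mem _ (hQA hq).1 _, ?_⟩, ?_⟩
          · show (m * q * m⁻¹) • a = a
            rw [mul_smul, mul_smul, inv_smul_eq_iff.2 m1.symm |> fun _ => (inv_smul_eq_iff (g := m)).2 m2.symm, hv q hq, m2]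
          · show (m * q * m⁻¹) • v = v
            rw [mul_smul, mul_smul, (inv_smul_eq_iff (g := m)).2 m1.symm, (hQA hq).2, m1])
        (Subgroup.card_dvd_of_le inf_le_left)
      exact ⟨_, hx, hxa, by rw [mul_smul, m2]; exact hh.1.2⟩
    -- the 2-part of `X`
    have h2X : ∀ U : Subgroup G, U ≤ M → IsPGroup 2 U → Nat.card U ≤ 2 * Nat.card Q := by
      intro U hU hUp
      obtain ⟨k, hk⟩ := IsPGroup.iff_card.1 hUp
      have h1 : 2 ^ k ∣ Nat.card M := hk ▸ Subgroup.card_dvd_of_le hU
      have h3 := (Nat.Prime.pow_dvd_iff_le_factorization Nat.prime_two Nat.card_pos.ne').1 h1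
      have h4 : (Nat.card M).factorization 2 = 1 + (Nat.card A).factorization 2 := by
        rw [hMcard a, Nat.factorization_mul hΩ0 Nat.card_pos.ne', Finsupp.add_apply]
        congr 1
        rw [show Fintype.card Ω = 2 * (Fintype.card Ω / 2) by omega, Nat.factorization_mul (by omega) (by omega),
          Finsupp.add_apply, Nat.prime_two.factorization_self, Nat.factorization_eq_zero_of_not_dvd (by omega)]
      rw [hk, hQc, ← pow_succ']
      exact Nat.pow_le_pow_right (by omega) (by omega)
    -- fixed points: an even number, permuted by `X`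
    letI actX : MulAction X F :=
      { smul := fun x f => ⟨(x : G) • (f : Ω), hXF _ x.2.2 _ f.2⟩
        one_smul := fun f => Subtype.ext (one_smul G _)
        mul_smul := fun x y f => Subtype.ext (mul_smul (x : G) y _) }
    let act : X →* Equiv.Perm F := MulAction.toPermHom X F
    have hact : ∀ (x : X) (f : F), ((act x f : F) : Ω) = (x : G) • (f : Ω) := fun _ _ => rfl
    haveI : Fintype F := Fintype.ofFinite _
    have hFeven : 2 ∣ Fintype.card F := by
      have h1 : Nat.card Ω ≡ Nat.card (fixedPoints Q Ω) [MOD 2] := hQp.card_modEq_card_fixedPoints Ω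
      have h3 : Nat.card (fixedPoints Q Ω) = Fintype.card F := by
        rw [← Nat.card_eq_fintype_card]
        exact Nat.card_congr ⟨fun x => ⟨x.1, fun q hq => x.2 ⟨q, hq⟩⟩, fun x => ⟨x.1, fun q => x.2 q q.2⟩, fun _ => rfl, fun _ => rfl⟩
      rw [Nat.card_eq_fintype_card, h3] at h1
      rw [Nat.ModEq] at h1
      omega
    have hstab : ∀ x : X, (x : G) • a = a → Equiv.Perm.sign (act x) = 1 := by
      intro x hx
      obtain ⟨k, m, hm, hom⟩ := Nat.exists_eq_pow_mul_and_not_dvd (orderOf_pos x).ne' 2 (by omega)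
      -- the 2-part lies in `Q`
      have hy : IsPGroup 2 ↥(Subgroup.zpowers ((x : G) ^ m)) := by
        refine IsPGroup.of_card_dvd_pow (n := k) ?_
        rw [Nat.card_zpowers]
        refine orderOf_dvd_of_pow_eq_one ?_
        rw [← pow_mul, mul_comm, ← hom, ← SubmonoidClass.coe_pow, pow_orderOf_eq_one, OneMemClass.coe_one]
      have hyn : Subgroup.zpowers ((x : G) ^ m) ≤ Subgroup.normalizer (Q : Set G) := by
        rw [Subgroup.zpowers_le]; exact Subgroup.pow_mem _ x.2.2 _
      have hyA : (x : G) ^ m ∈ A := ⟨M.pow_mem x.2.1 _, (stabilizer G a).pow_mem (show (x : G) ∈ stabilizer G a from hx) _⟩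
      have hsup : IsPGroup 2 ↥(Subgroup.zpowers ((x : G) ^ m) ⊔ Q) := hy.to_sup_of_normal_right' hQp hyn
      have hle : Subgroup.zpowers ((x : G) ^ m) ⊔ Q ≤ A := sup_le (Subgroup.zpowers_le.2 hyA) hQA
      have heq : Q = Subgroup.zpowers ((x : G) ^ m) ⊔ Q := by
        refine Subgroup.eq_of_le_of_card_ge le_sup_right ?_
        obtain ⟨j, hj⟩ := IsPGroup.iff_card.1 hsup
        rw [hj, hQc]
        refine Nat.pow_le_pow_right (by omega) ((Nat.Prime.pow_dvd_iff_le_factorization Nat.prime_two Nat.card_pos.ne').1 ?_)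
        exact hj ▸ Subgroup.card_dvd_of_le hle
      have hq : (x : G) ^ m ∈ Q := by
        rw [heq]; exact Subgroup.mem_sup_left (Subgroup.mem_zpowers _)
      have h1 : act x ^ m = 1 := by
        rw [← map_pow]
        refine Equiv.ext fun f => Subtype.ext ?_
        rw [hact, Equiv.Perm.one_apply, SubmonoidClass.coe_pow]
        exact f.2 _ hq
      have h3 := congrArg Equiv.Perm.sign h1
      rw [map_pow, map_one] at h3
      rcases Int.units_eq_one_or (Equiv.Perm.sign (act x)) with h | h
      · exact h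
      · rw [h, Odd.neg_one_pow (Nat.odd_iff.2 (by omega))] at h3
        exact absurd h3 (by decide)
    have hswapsign : ∀ v ∈ F, v ≠ a → ∀ x : X, (x : G) • a = v → (x : G) • v = a → Equiv.Perm.sign (act x) = -1 := by
      intro v hv hva x h1 h3
      obtain ⟨k, m, hm, hom⟩ := Nat.exists_eq_pow_mul_and_not_dvd (orderOf_pos x).ne' 2 (by omega)
      set z := x ^ m with hz
      have hmodd : Odd m := Nat.odd_iff.2 (by omega)
      have hx2 : ((x : G) * x) • a = a := by rw [mul_smul, h1, h3]
      have hza : (z : G) • a = v := by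
        obtain ⟨l, rfl⟩ := hmodd
        rw [hz, SubmonoidClass.coe_pow, pow_succ', pow_mul, mul_smul, pow_two]
        rw [show (((x : G) * x) ^ l) • a = a from mem_stabilizer_iff.1 ((stabilizer G a).pow_mem hx2 l)]
        exact h1
      have hzp : IsPGroup 2 ↥(Subgroup.zpowers (z : G)) := by
        refine IsPGroup.of_card_dvd_pow (n := k) ?_
        rw [Nat.card_zpowers]
        refine orderOf_dvd_of_pow_eq_one ?_
        rw [← SubmonoidClass.coe_pow, hz, ← pow_mul, mul_comm, ← hom, pow_orderOf_eq_one, OneMemClass.coe_one]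
      have hzn : Subgroup.zpowers (z : G) ≤ Subgroup.normalizer (Q : Set G) := Subgroup.zpowers_le.2 z.2.2
      set U := Subgroup.zpowers (z : G) ⊔ Q with hU
      have hUp : IsPGroup 2 U := hzp.to_sup_of_normal_right' hQp hzn
      have hUM : U ≤ M := sup_le (Subgroup.zpowers_le.2 z.2.1) (hQA.trans inf_le_left)
      have hzU : (z : G) ∈ U := Subgroup.mem_sup_left (Subgroup.mem_zpowers _)
      -- any element of `U` fixing a fixed point lies in `Q`
      have hUQ : ∀ u ∈ U, ∀ f ∈ F, u • f = f → u ∈ Q := by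
        intro u hu f hf huf
        set W := U ⊓ stabilizer G f with hW
        have hQW : Q ≤ W := le_inf le_sup_right fun q hq => hf q hq
        have hWU : W ≠ U := fun e => by
          have hstu : ∀ y ∈ U, y • f = f := fun y hy => (e.symm ▸ hy : y ∈ W).2
          obtain ⟨w, hw, hwe⟩ := hXtr f hf
          -- the conjugate of `U` fixes `a`
          have hle : U.map (MulAut.conj w⁻¹).toMonoidHom ≤ A := by
            rintro _ ⟨y, hy, rfl⟩
            refine ⟨hM.conj_mem _ (hUM hy) _, ?_⟩
            show (w⁻¹ * y * w⁻¹⁻¹) • a = a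
            rw [inv_inv, mul_smul, mul_smul, hwe, hstu y hy, ← hwe, inv_smul_smul]
          have hc := Subgroup.card_dvd_of_le hle
          rw [Subgroup.card_map_of_injective (MulAut.conj w⁻¹).injective] at hc
          obtain ⟨j, hj⟩ := IsPGroup.iff_card.1 hUp
          have hUQ' : Q = U := Subgroup.eq_of_le_of_card_ge le_sup_right (by
            rw [hQc, hj]
            exact Nat.pow_le_pow_right (by omega)
              ((Nat.Prime.pow_dvd_iff_le_factorization Nat.prime_two Nat.card_pos.ne').1 (hj ▸ hc)))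
          have : (z : G) • a = a := haF _ (hUQ' ▸ hzU)
          exact hva (hza.symm.trans this)
        have h5 : Q = W := by
          refine Subgroup.eq_of_le_of_card_ge hQW ?_
          obtain ⟨i, hi⟩ := IsPGroup.iff_card.1 (hUp.to_le (inf_le_left : W ≤ U))
          obtain ⟨j, hj⟩ := IsPGroup.iff_card.1 hUp
          have hlt : i < j := by
            by_contra! hle
            exact hWU (Subgroup.eq_of_le_of_card_ge inf_le_left (by rw [hi, hj]; exact Nat.pow_le_pow_right (by omega) hle))
          have := h2X U hUM hUp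
          rw [hQc, hj, ← pow_succ'] at this
          have := (Nat.pow_le_pow_iff_right (by omega)).1 this
          rw [hi, hQc]
          exact Nat.pow_le_pow_right (by omega) (by omega)
        rw [h5]; exact ⟨hu, huf⟩
      have hfp : ∀ f : F, act z f ≠ f := by
        intro f hf
        have := congrArg Subtype.val hf
        rw [hact] at this
        have hzQ := hUQ _ hzU f f.2 this
        exact hva (hza.symm.trans (haF _ hzQ))
      have hsq : act z * act z = 1 := by
        rw [← map_mul]
        refine Equiv.ext fun f => Subtype.ext ?_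
        rw [hact, Equiv.Perm.one_apply, Subgroup.coe_mul]
        refine f.2 _ (hUQ _ (U.mul_mem hzU hzU) a haF ?_)
        rw [mul_smul, hza]
        obtain ⟨l, rfl⟩ := hmodd
        rw [hz, SubmonoidClass.coe_pow, pow_succ', pow_mul, mul_smul, pow_two]
        have hx2v : ((x : G) * x) • v = v := by rw [mul_smul, h3, h1]
        rw [show (((x : G) * x) ^ l) • v = v from mem_stabilizer_iff.1 ((stabilizer G v).pow_mem hx2v l)]
        exact h3
      have hF4 : Fintype.card F % 4 = 2 := by
        -- the group `X` has 2-part at most twice that of `Q`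
        haveI : IsPretransitive X (F : Set Ω) := by
          exact ⟨fun u w => by
            obtain ⟨xu, hu, hue⟩ := hXtr u u.2
            obtain ⟨xw, hw, hwe⟩ := hXtr w w.2
            refine ⟨⟨xw * xu⁻¹, X.mul_mem hw (X.inv_mem hu)⟩, Subtype.ext ?_⟩
            show ((act ⟨xw * xu⁻¹, _⟩ u : F) : Ω) = _
            rw [hact, mul_smul, show ((u : F) : Ω) = xu • a from hue.symm, inv_smul_smul, hwe]⟩
        have e1 := index_stabilizer_of_transitive X (⟨a, haF⟩ : F)
        rw [Nat.card_eq_fintype_card] at e1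
        by_contra hne4
        have h4 : 4 ∣ Fintype.card F := by omega
        let Qx : Subgroup X := Q.subgroupOf X
        have hQs : Qx ≤ stabilizer X (⟨a, haF⟩ : F) := fun q hq => Subtype.ext (by
          show ((act q ⟨a, haF⟩ : F) : Ω) = a
          rw [hact]; exact haF _ hq)
        have h5 : 4 * Nat.card Q ∣ Nat.card X := by
          rw [← Subgroup.card_mul_index (stabilizer X (⟨a, haF⟩ : F)), e1, mul_comm]
          refine mul_dvd_mul ?_ h4
          rw [← Nat.card_congr (Subgroup.subgroupOfEquivOfLe hQX).toEquiv]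
          exact Subgroup.card_dvd_of_le hQs
        have h6 : 2 ^ ((Nat.card A).factorization 2 + 2) ∣ Nat.card X := by
          rw [pow_add, ← hQc, mul_comm]; exact h5
        obtain ⟨U', hU'⟩ := Sylow.exists_subgroup_card_pow_prime 2 h6
        have h7 := h2X (U'.map X.subtype) ((Subgroup.map_subtype_le _).trans inf_le_left)
          ((IsPGroup.of_card hU').map _)
        rw [Subgroup.card_subtype, hU', hQc, ← pow_succ'] at h7
        have := (Nat.pow_le_pow_iff_right (by omega)).1 h7
        omega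
      have hsz : Equiv.Perm.sign (act z) = -1 := by
        rw [Equiv.Perm.sign_of_pow_two_eq_one (by rw [pow_two]; exact hsq)]
        have hempty : IsEmpty (Function.fixedPoints (act z)) := ⟨fun f => hfp f f.2⟩
        rw [Fintype.card_eq_zero (α := Function.fixedPoints (act z)), Nat.sub_zero]
        exact Odd.neg_one_pow (Nat.odd_iff.2 (by omega))
      rw [hz, map_pow, map_pow] at hsz
      rcases Int.units_eq_one_or (Equiv.Perm.sign (act x)) with h | h
      · rw [h, one_pow] at hsz; exact absurd hsz (by decide)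
      · exact h
    -- hence exactly two fixed points
    have hF2 : ∀ u ∈ F, ∀ v ∈ F, u ≠ a → v ≠ a → u = v := by
      intro u hu v hv hua hva
      obtain ⟨x, hx, x1, x2⟩ := hXswap u hu hua
      obtain ⟨y, hy, y1, y2⟩ := hXswap v hv hva
      by_contra huv
      -- `y⁻¹ x` sends `v` to `x • v` and keeps the sign
      have hw : (y * x) • a ∈ F := hXF _ (Subgroup.mul_mem _ hy.2 hx.2) a haF
      have hsx := hswapsign u hu hua ⟨x, hx⟩ x1 x2
      have hsy := hswapsign v hv hva ⟨y, hy⟩ y1 y2
      by_cases hwa : (y * x) • a = a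
      · rw [mul_smul, x1] at hwa
        exact huv (smul_left_cancel y (hwa.trans y2.symm))
      obtain ⟨w, hw', w1, w2⟩ := hXswap _ hw hwa
      have hsw := hswapsign _ hw hwa ⟨w, hw'⟩ w1 w2
      have := hstab (⟨w, hw'⟩ * (⟨y, hy⟩ * ⟨x, hx⟩)) (by
        show (w * (y * x)) • a = a
        rw [mul_smul, w2])
      rw [map_mul, map_mul, map_mul, map_mul, hsx, hsy, hsw] at this
      exact absurd this (by decide)
    obtain ⟨b, hbF, hba⟩ : ∃ b ∈ F, b ≠ a := by
      by_contra! h
      have : Fintype.card F ≤ 1 := Fintype.card_le_one_iff_subsingleton.2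
        ⟨fun s t => Subtype.ext ((h s s.2).trans (h t t.2).symm)⟩
      have : 0 < Fintype.card F := Fintype.card_pos_iff.2 ⟨⟨a, haF⟩⟩
      omega
    -- the stabiliser of `a` in `G` is `M_a` times the normaliser of `Q`
    have hAorb : ∀ c : Ω, c ≠ a → ∃ m ∈ A, m • b = c := by
      intro c hc
      obtain ⟨g, g1, g2⟩ := G2 (Ne.symm hba) (Ne.symm hc)
      obtain ⟨h, hh, he⟩ := conj_in A Q (Q.map (MulAut.conj g).toMonoidHom) hQA (by
          rintro _ ⟨q, hq, rfl⟩
          refine ⟨hM.conj_mem _ (hQA hq).1 _, ?_⟩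
          show (g * q * g⁻¹) • a = a
          rw [mul_smul, mul_smul, inv_smul_eq_iff.2 g1.symm, (hQA hq).2, g1]) hQc
        (by rw [Subgroup.card_map_of_injective (MulAut.conj g).injective]; exact hQc)
      have hbF' : (h * g) • b ∈ F := fun q hq => by
        rw [← he] at hq
        obtain ⟨_, ⟨w, hw, rfl⟩, rfl⟩ := hq
        show (h * (g * w * g⁻¹) * h⁻¹) • (h * g) • b = (h * g) • b
        simp only [mul_smul, inv_smul_smul]
        rw [hbF w hw]
      have hne : (h * g) • b ≠ a := fun e => hba (smul_left_cancel (h * g) (by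
        rw [e, mul_smul, g1]; exact hh.2.symm))
      have e := hF2 _ hbF' _ hbF hne hba
      refine ⟨h⁻¹, A.inv_mem hh, ?_⟩
      rw [inv_smul_eq_iff, ← g2, ← mul_smul]
      exact e.symm
    obtain ⟨m₀, hm₀, e₀⟩ := hAorb b₀ (Ne.symm hab₀)
    obtain ⟨m₁, hm₁, e₁⟩ := hAorb c hca
    refine ⟨m₁ * m₀⁻¹, M.mul_mem hm₁.1 (M.inv_mem hm₀.1), ?_, ?_⟩
    · rw [mul_smul, inv_smul_eq_iff.2 (show a = m₀ • a from hm₀.2.symm)]; exact hm₁.2
    · rw [mul_smul, ← e₀, inv_smul_smul, e₁]
  refine is_two_pretransitive_iff.2 fun {a b c d} hab hcd => ?_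
  obtain ⟨m, hm⟩ := exists_smul_eq M a c
  have hm' : (m : G) • a = c := hm
  have hne : (m : G)⁻¹ • d ≠ a := fun e => hcd (by rw [← hm', ← e, smul_inv_smul])
  obtain ⟨n, hn', n1, n2⟩ := hpart a b hab ((m : G)⁻¹ • d) hne
  refine ⟨m * ⟨n, hn'⟩, ?_, ?_⟩
  · show ((m : G) * n) • a = c
    rw [mul_smul, n1, hm']
  · show ((m : G) * n) • b = d
    rw [mul_smul, n2, smul_inv_smul]

/-- The socle of such a group. -/
theorem main [Finite G] [FaithfulSMul G Ω] (h2 : IsMultiplyPretransitive G Ω 2)
    (hn : Fintype.card Ω % 4 = 2) (hn2 : 2 < Fintype.card Ω) :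
    ∃ M : Subgroup G, M.Normal ∧ M ≠ ⊥ ∧ (∀ N : Subgroup G, N.Normal → N ≠ ⊥ → M ≤ N) ∧
      IsSimpleGroup ↥M ∧ IsMultiplyPretransitive ↥M Ω 2 ∧ Subgroup.centralizer (M : Set G) = ⊥ := by
  classical
  haveI := h2
  haveI : IsPreprimitive G Ω := isPreprimitive_of_is_two_pretransitive h2
  have hnt : ∀ N : Subgroup G, N.Normal → N ≠ ⊥ → IsPretransitive N Ω := fun N hN hN0 =>
    haveI := hN
    IsQuasiPreprimitive.isPretransitive_of_normal (G := G) fun h =>
      hN0 ((Subgroup.eq_bot_iff_forall _).2 fun x hx => FaithfulSMul.eq_of_smul_eq_smul (α := Ω) fun c => by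
        rw [one_smul]
        exact (h.symm ▸ Set.mem_univ c : c ∈ fixedPoints N Ω) ⟨x, hx⟩)
  have hG : (⊤ : Subgroup G) ≠ ⊥ := fun h => by
    obtain ⟨a, b, hab⟩ := Fintype.exists_pair_of_one_lt_card (show 1 < Fintype.card Ω by omega)
    obtain ⟨g, hg, -⟩ := (is_two_pretransitive_iff.1 h2) hab (Ne.symm hab)
    rw [show g = 1 from Subgroup.mem_bot.1 (h ▸ Subgroup.mem_top g), one_smul] at hg
    exact hab hg
  obtain ⟨M, ⟨hMn, hM0⟩, hmin⟩ := (wellFounded_lt (α := Subgroup G)).has_min
    {M | M.Normal ∧ M ≠ ⊥} ⟨⊤, inferInstance, hG⟩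
  have hmin' : ∀ N : Subgroup G, N.Normal → N ≤ M → N = ⊥ ∨ N = M := fun N h1 h3 => by
    by_contra! h
    exact hmin N ⟨h1, h.1⟩ (lt_of_le_of_ne h3 h.2)
  haveI := hMn
  haveI := hnt M hMn hM0
  have hM2 := two_transitive h2 hn M
  -- transport to a permutation group
  let ψ := MulAction.toPermHom G Ω
  have hψ : Function.Injective ψ := MulAction.toPerm_injective
  let e : G ≃* ψ.range := MonoidHom.ofInjective hψ
  have h2' : IsMultiplyPretransitive ψ.range Ω 2 := is_two_pretransitive_iff.2 fun {a b c d} h h' => by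
    obtain ⟨g, g1, g2⟩ := (is_two_pretransitive_iff.1 h2) h h'
    exact ⟨e g, g1, g2⟩
  haveI : (M.map e.toMonoidHom).Normal := hMn.map _ e.surjective
  have h700 := Cfsg.Agent.S0700.result ψ.range h2' (M.map e.toMonoidHom)
    (fun h => hM0 ((Subgroup.map_eq_bot_iff_of_injective _ e.injective).1 h))
    (fun N hN hle => by
      rcases hmin' (N.comap e.toMonoidHom) (hN.comap _) (fun x hx => by
        obtain ⟨y, hy, hye⟩ := hle hx
        exact e.injective hye ▸ hy) with h | h
      · left; exact ((Subgroup.map_comap_eq_self_of_surjective e.surjective N).symm.trans (congrArg _ h)).trans (Subgroup.map_bot _)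
      · right; exact (Subgroup.map_comap_eq_self_of_surjective e.surjective N).symm.trans (congrArg _ h))
  have hsimple : IsSimpleGroup M := by
    rcases h700 with ⟨-, ⟨p, hp, hexp⟩, hreg⟩ | ⟨hs, -⟩
    · exfalso
      obtain ⟨a, b, hab⟩ := Fintype.exists_pair_of_one_lt_card (show 1 < Fintype.card Ω by omega)
      haveI : Fact p.Prime := ⟨hp⟩
      have hMp : IsPGroup p M := fun m => ⟨1, by
        have := hexp _ (Subgroup.mem_map_of_mem e.toMonoidHom m.2)
        rw [← map_pow, MulEquiv.coe_toMonoidHom, map_eq_one_iff e e.injective] at this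
        rw [pow_one]
        exact Subtype.ext this⟩
      have hst : stabilizer M a = ⊥ := (Subgroup.eq_bot_iff_forall _).2 fun m hm => by
        have h1 : (⟨e m, Subgroup.mem_map_of_mem _ m.2⟩ : M.map e.toMonoidHom) ∈ stabilizer _ a := hm
        rw [hreg a, Subgroup.mem_bot, Subtype.ext_iff] at h1
        exact Subtype.ext ((map_eq_one_iff e e.injective).1 h1)
      obtain ⟨k, hk⟩ := IsPGroup.iff_card.1 hMp
      have hc : Nat.card M = Fintype.card Ω := by
        rw [← Nat.card_eq_fintype_card, ← index_stabilizer_of_transitive M a, hst, Subgroup.index_bot]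
      rw [hk] at hc
      have : p = 2 := ((Nat.prime_dvd_prime_iff_eq Nat.prime_two hp).1
        (Nat.prime_two.dvd_of_dvd_pow (show 2 ∣ p ^ k by omega))).symm
      subst this
      rcases k with _ | _ | k
      · omega
      · omega
      · rw [pow_succ, pow_succ] at hc; omega
    · exact (MulEquiv.isSimpleGroup_congr (M.equivMapOfInjective e.toMonoidHom e.injective)).2 hs
  have hC : Subgroup.centralizer (M : Set G) = ⊥ := by
    by_contra hC0
    haveI := hnt (Subgroup.centralizer (M : Set G)) inferInstance hC0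
    obtain ⟨a, b, hab⟩ := Fintype.exists_pair_of_one_lt_card (show 1 < Fintype.card Ω by omega)
    obtain ⟨c, hca, hcb⟩ : ∃ c : Ω, c ≠ a ∧ c ≠ b := by
      by_contra! h
      have : Fintype.card Ω ≤ ({a, b} : Finset Ω).card := Finset.card_le_card fun x _ => by
        rcases eq_or_ne x a with rfl | hx
        · simp
        · simp [h x hx]
      rw [Finset.card_pair hab] at this
      omega
    obtain ⟨m, m1, m2⟩ := (is_two_pretransitive_iff.1 hM2) hab (Ne.symm hca)
    obtain ⟨z, hz⟩ := exists_smul_eq (Subgroup.centralizer (M : Set G)) a b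
    have hz' : (z : G) • a = b := hz
    have : (m : G) • b = b := by
      conv_lhs => rw [← hz']
      rw [← mul_smul, z.2 _ m.2, mul_smul, show (m : G) • a = a from m1, hz']
    exact hcb ((show (m : G) • b = c from m2).symm.trans this)
  refine ⟨M, hMn, hM0, fun N hN hN0 => ?_, hsimple, hM2, hC⟩
  haveI := hN
  rcases hmin' (N ⊓ M) inferInstance inf_le_right with h | h
  · exfalso
    refine hN0 (le_bot_iff.1 (hC ▸ fun x hx => ?_))
    exact fun m hm => Subgroup.commute_of_normal_of_disjoint M N hMn hN (disjoint_iff.2 (by rw [inf_comm]; exact h)) m x hm hx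
  · exact h ▸ inf_le_left

end Cfsg.Lib.TwoModFour
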